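import Cfsg.Agent.Lib.SymEightThree6.Spec

/-!
# S3330, brick BadDouble: the even configuration with a small centraliser of the four group

Let `t = φ((12)(34))` and let `T` be the image of the group of order sixteen centralising `r` and
`t`. As `r` is conjugate to `t` and is no square in `T`, some `q` normalises `T`, centralises `t`
and lies outside the first system. The action of `q` on the involutions of `T` shows that `q` or
its inverse moves `(12)` to `r(12)` or `r(34)`. The conjugate `e` of `z` under this element then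
centralises two conjugate three cycles, so the alternating group they generate, which is absurd.
-/

set_option autoImplicit false
set_option synthInstance.maxSize 1024
set_option synthInstance.maxHeartbeats 200000

namespace Cfsg.Agent.Lib.SymEightThree6

open Equiv Equiv.Perm

universe u

namespace BadDoubleProof

/-- The transposition `(12)`. -/
def wP : P35 := (1, swap 1 2)
/-- The three cycle `(034)`. -/
def pP : P35 := (1, swap 0 3 * swap 3 4)
/-- The three cycle `(012)`. -/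
def qP : P35 := (1, swap 0 1 * swap 1 2)
/-- The four cycle with square `tP`. -/
def fP : P35 := (1, swap 1 3 * swap 2 4 * swap 1 2)

/-- Commuting with `rP` and `tP`. -/
def In16 (p : P35) : Prop := p * rP = rP * p ∧ p * tP = tP * p

instance (p : P35) : Decidable (In16 p) := by unfold In16; infer_instance

theorem vals : In16 wP ∧ In16 rP ∧ In16 vP ∧ In16 tP ∧ In16 fP ∧ In16 (wP * tP) ∧ fP * fP = tP ∧
    wP * wP = 1 ∧ tP * tP = 1 ∧ wP ≠ 1 ∧ rP * rP = 1 ∧ rP ≠ 1 ∧ zP ^ 3 = 1 ∧ zP ≠ 1 ∧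
    zP * wP = wP * zP ∧ zP * tP = tP * zP ∧ pP ^ 3 = 1 ∧ qP ^ 3 = 1 ∧ pP * wP = wP * pP ∧
    vP * pP * vP⁻¹ = qP ∧ pP * (rP * wP) = rP * wP * pP ∧ qP * rP = rP * qP ∧
    pP * rP = rP * pP ∧ qP * pP ≠ pP * qP ∧ vP * wP * vP⁻¹ = wP * tP ∧
    vP * (wP * tP) * vP⁻¹ = wP ∧ rP * tP * tP = rP ∧ wP * tP * tP = wP := by
  decide +kernel

theorem word_v : vP = pP * qP * pP * qP * pP := by decide +kernel

theorem conj_wP : ∃ n : P35, n * wP * n⁻¹ = cP := by decide +kernel
theorem conj_sP : ∃ n : P35, n * sP * n⁻¹ = cP := by decide +kernel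
theorem conj_rw : ∃ n : P35, n * (rP * wP) * n⁻¹ = rP * cP := by decide +kernel
theorem conj_tP : ∃ n : P35, n * tP * n⁻¹ = dP := by decide +kernel
theorem conj_vP : ∃ n : P35, n * vP * n⁻¹ = dP := by decide +kernel
theorem conj_tv : ∃ n : P35, n * (tP * vP) * n⁻¹ = dP := by decide +kernel

theorem dP_cP_mul : dP * cP = sP := by decide +kernel

theorem invol_list : ∀ p : P35, p * rP = rP * p → p * tP = tP * p → p * p = 1 → p ≠ 1 →
    p = tP ∨ p = vP ∨ p = tP * vP ∨ p = wP ∨ p = wP * tP ∨ p = rP ∨ p = rP * tP ∨ p = rP * vP ∨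
      p = rP * (tP * vP) ∨ p = rP * wP ∨ p = rP * (wP * tP) := by
  decide +kernel

theorem pair_bad : ∀ p ∈ [rP * vP, rP * (tP * vP)],
    ∀ p' ∈ [rP * vP, rP * (tP * vP), rP * wP, rP * (wP * tP)],
      p * p' * (p * p') ≠ 1 ∨ p * p' = 1 ∨ p * p' = tP := by
  decide +kernel

theorem no_sqrt : ∀ p : P35, p * rP = rP * p → p * tP = tP * p → p * p ≠ rP := by decide +kernel

theorem four : ∀ p : P35, p * rP = rP * p → p * tP = tP * p → p ^ 4 = 1 := by decide +kernel

theorem norm16 : ∀ p : P35, p * tP = tP * p → p * rP * p⁻¹ * rP = rP * (p * rP * p⁻¹) →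
    p * rP = rP * p := by
  decide +kernel

theorem move_z : ∀ p : P35, p * rP = rP * p → p * tP = tP * p →
    p * zP * p⁻¹ = zP ∨ p * zP * p⁻¹ = zP⁻¹ := by
  decide +kernel

theorem cent_tp : ∀ p : P35, p ^ 3 = 1 → p * tP = tP * p → p * pP = pP * p →
    p = 1 ∨ p = zP ∨ p = zP⁻¹ := by
  decide +kernel

theorem cent_end : ∀ p : P35, p ^ 3 = 1 → p * tP = tP * p → p * vP = vP * p →
    p * (rP * wP) = rP * wP * p → p = 1 := by
  decide +kernel

theorem card_four : (Finset.univ.filter fun p : P35 => p * tP = tP * p ∧ p * vP = vP * p).card = 24 := by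
  decide +kernel

/-- The nine elements generated by `zP` and `aP`. -/
def nine : Finset P35 :=
  (Finset.univ : Finset (Fin 3 × Fin 3)).image fun ij => zP ^ (ij.1 : ℕ) * aP ^ (ij.2 : ℕ)

theorem nine_card : nine.card = 9 := by decide +kernel

theorem nine_facts : 1 ∈ nine ∧ zP ∈ nine ∧ aP ∈ nine ∧
    ∀ p ∈ nine, p⁻¹ ∈ nine ∧ p ^ 3 = 1 ∧ ∀ q ∈ nine, p * q ∈ nine ∧ p * q = q * p := by
  decide +kernel

/-- The group of order nine. -/
def E9 : Subgroup P35 where
  carrier := ↑nine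
  mul_mem' {p q} hp hq := ((nine_facts.2.2.2 p hp).2.2 q hq).1
  one_mem' := nine_facts.1
  inv_mem' {p} hp := (nine_facts.2.2.2 p hp).1

theorem closure_eq : Subgroup.closure ({zP, aP} : Set P35) = E9 := by
  refine le_antisymm ((Subgroup.closure_le _).2 ?_) ?_
  · rintro x (rfl | rfl)
    exacts [nine_facts.2.1, nine_facts.2.2.1]
  · intro p hp
    obtain ⟨ij, -, rfl⟩ := Finset.mem_image.1 (show p ∈ nine from hp)
    have hz : zP ∈ Subgroup.closure ({zP, aP} : Set P35) := Subgroup.subset_closure (by simp)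
    have ha : aP ∈ Subgroup.closure ({zP, aP} : Set P35) := Subgroup.subset_closure (by simp)
    exact mul_mem (pow_mem hz _) (pow_mem ha _)

variable {G : Type u} [Group G]

theorem comm_map (d : Data G) {m n : P35} (h : m * n = n * m) :
    d.φ m * d.φ n = d.φ n * d.φ m := by
  rw [← map_mul, h, map_mul]

theorem comm_of_map (d : Data G) {m n : P35} (h : d.φ m * d.φ n = d.φ n * d.φ m) :
    m * n = n * m :=
  d.φ_inj (by rw [map_mul, map_mul, h])

theorem cube_map (d : Data G) {p : P35} (h : p ^ 3 = 1) : d.φ p ^ 3 = 1 := by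
  rw [← map_pow, h, map_one]

theorem isConj_map (d : Data G) {p q : P35} (h : ∃ n : P35, n * p * n⁻¹ = q) :
    IsConj (d.φ p) (d.φ q) := by
  obtain ⟨n, hn⟩ := h
  exact isConj_iff.2 ⟨d.φ n, by rw [← hn, map_mul, map_mul, map_inv]⟩

variable [Finite G]

theorem mem_range (d : Data G) {g : G}
    (hg : g * d.φ zP * g⁻¹ = d.φ zP ∨ g * d.φ zP * g⁻¹ = (d.φ zP)⁻¹) : ∃ m, d.φ m = g := by
  show g ∈ d.φ.range
  rw [d.φ_range]
  refine Subgroup.mem_normalizer_fintype fun x hx => ?_
  obtain ⟨i, rfl⟩ := hx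
  show g * d.φ zP ^ i * g⁻¹ ∈ Subgroup.zpowers _
  rw [← conj_zpow]
  rcases hg with e | e <;> rw [e]
  · exact zpow_mem (Subgroup.mem_zpowers _) i
  · exact zpow_mem (inv_mem (Subgroup.mem_zpowers _)) i

/-- The elements of order three centralising a conjugate of `φ cP` commute. -/
theorem comm_three (d : Data G)
    (hC : Subgroup.centralizer ({d.φ cP} : Set G) ≤
      Subgroup.normalizer (Subgroup.closure ({d.φ zP, d.φ aP} : Set G) : Set G))
    {u : G} (hu : IsConj u (d.φ cP)) {x y : G} (hx : x ^ 3 = 1) (hy : y ^ 3 = 1)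
    (hxu : x * u = u * x) (hyu : y * u = u * y) : x * y = y * x := by
  have : Fact (Nat.Prime 3) := ⟨Nat.prime_three⟩
  have hD : Subgroup.closure ({d.φ zP, d.φ aP} : Set G) = E9.map d.φ := by
    rw [← closure_eq, MonoidHom.map_closure, Set.image_pair]
  have hcard : Nat.card (E9.map d.φ) = 9 := by
    rw [Subgroup.card_map_of_injective d.φ_inj]
    show Nat.card (↑nine : Set P35) = 9
    rw [Nat.card_coe_set_eq, Set.ncard_coe_finset, nine_card]
  have key : ∀ x : G, x ^ 3 = 1 → x * d.φ cP = d.φ cP * x → x ∈ E9.map d.φ := by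
    intro x hx hxc
    have hn : x ∈ Subgroup.normalizer ((E9.map d.φ : Subgroup G) : Set G) := by
      rw [← hD]; exact hC (Subgroup.mem_centralizer_singleton_iff.2 hxc)
    have h1 : IsPGroup 3 (Subgroup.zpowers x) := by
      obtain ⟨j, -, hj⟩ := (Nat.dvd_prime_pow Nat.prime_three).1
        (orderOf_dvd_of_pow_eq_one (show x ^ 3 ^ 1 = 1 by rw [pow_one, hx]))
      exact IsPGroup.of_card (n := j) (by rw [Nat.card_zpowers, hj])
    have h2 : IsPGroup 3 (E9.map d.φ) := IsPGroup.of_card (n := 2) (by rw [hcard]; norm_num)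
    obtain ⟨k, hk⟩ := (h1.to_sup_of_normal_right' h2 (Subgroup.zpowers_le.2 hn)).exists_card_eq
    have hk2 : k ≤ 2 := by
      by_contra h
      refine d.sylow (dvd_trans ?_ (Subgroup.zpowers x ⊔ E9.map d.φ).card_subgroup_dvd_card)
      rw [hk, show (27 : ℕ) = 3 ^ 3 by norm_num]
      exact pow_dvd_pow 3 (by omega)
    have he : E9.map d.φ = Subgroup.zpowers x ⊔ E9.map d.φ :=
      Subgroup.eq_of_le_of_card_ge le_sup_right (by
        rw [hk, hcard]
        calc 3 ^ k ≤ 3 ^ 2 := Nat.pow_le_pow_right (by norm_num) hk2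
          _ = 9 := by norm_num)
    rw [he]
    exact Subgroup.mem_sup_left (Subgroup.mem_zpowers x)
  obtain ⟨g, hg⟩ := isConj_iff.1 hu
  have hmove : ∀ {x : G}, x ^ 3 = 1 → x * u = u * x → g * x * g⁻¹ ∈ E9.map d.φ := fun {x} hx hxu =>
    key _ (by rw [conj_pow, hx, mul_one, mul_inv_cancel]) (by
      rw [← hg]; exact ((show Commute x u from hxu).map (MulAut.conj g).toMonoidHom).eq)
  obtain ⟨p, hp, hp'⟩ := hmove hx hxu
  obtain ⟨q, hq, hq'⟩ := hmove hy hyu
  have h := comm_map d ((nine_facts.2.2.2 p hp).2.2 q hq).2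
  rw [hp', hq'] at h
  exact (MulAut.conj g).injective (by rw [map_mul, map_mul]; exact h)

/-- The group of order sixteen. -/
def T16 (d : Data G) : Subgroup G := (Subgroup.centralizer ({rP, tP} : Set P35)).map d.φ

theorem mem_T16 (d : Data G) {x : G} : x ∈ T16 d ↔ ∃ p, In16 p ∧ d.φ p = x := by
  constructor
  · rintro ⟨p, hp, rfl⟩
    exact ⟨p, ⟨(hp _ (Or.inl rfl)).symm, (hp _ (Or.inr rfl)).symm⟩, rfl⟩
  · rintro ⟨p, ⟨h1, h2⟩, rfl⟩
    refine ⟨p, ?_, rfl⟩
    rintro y (rfl | rfl)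
    exacts [h1.symm, h2.symm]

/-- Conjugation mapping `T16` into itself is surjective. -/
theorem surj_T16 (d : Data G) {q : G} (hq : ∀ x ∈ T16 d, q * x * q⁻¹ ∈ T16 d) {y : G}
    (hy : y ∈ T16 d) : ∃ p, In16 p ∧ q * d.φ p * q⁻¹ = y := by
  have hle : (T16 d).map (MulAut.conj q).toMonoidHom ≤ T16 d := by
    rintro _ ⟨x, hx, rfl⟩
    exact hq x hx
  have he := Subgroup.eq_of_le_of_card_ge hle
    (le_of_eq (Subgroup.card_map_of_injective (MulAut.conj q).injective).symm)
  obtain ⟨x, hx, rfl⟩ := he.ge hy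
  obtain ⟨p, hp, rfl⟩ := (mem_T16 d).1 hx
  exact ⟨p, hp, rfl⟩

/-- An element moving `(12)` to `r(12)` or `r(34)` is impossible. -/
theorem final (d : Data G)
    (hC : Subgroup.centralizer ({d.φ cP} : Set G) ≤
      Subgroup.normalizer (Subgroup.closure ({d.φ zP, d.φ aP} : Set G) : Set G))
    (hI : IsConj (d.φ (rP * wP)) (d.φ cP)) (h24 : Nat.card d.CV = 24)
    {q : G} (hqt : q * d.φ tP = d.φ tP * q) (hq : ∀ x ∈ T16 d, q * x * q⁻¹ ∈ T16 d)
    (hw : q * d.φ wP * q⁻¹ = d.φ (rP * wP) ∨ q * d.φ wP * q⁻¹ = d.φ (rP * (wP * tP))) : False := by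
  obtain ⟨-, -, hv16, -, -, -, -, -, ht2, -, -, -, hz3, hz1, hzw, hzt, hp3, -, -, hvp, hprw, -,
    -, -, -, -, -, hwtt⟩ := vals
  set e := q * d.φ zP * q⁻¹ with he
  have hqt' : q * d.φ tP * q⁻¹ = d.φ tP := mul_inv_eq_iff_eq_mul.2 hqt
  have he3 : e ^ 3 = 1 := by rw [he, conj_pow, cube_map d hz3, mul_one, mul_inv_cancel]
  have het : Commute e (d.φ tP) := by
    rw [he, ← hqt']
    exact (show Commute (d.φ zP) (d.φ tP) from comm_map d hzt).map (MulAut.conj q).toMonoidHom
  have hew : Commute e (q * d.φ wP * q⁻¹) := by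
    rw [he]
    exact (show Commute (d.φ zP) (d.φ wP) from comm_map d hzw).map (MulAut.conj q).toMonoidHom
  have hei : Commute e (d.φ (rP * wP)) := by
    rcases hw with h | h <;> rw [h] at hew
    · exact hew
    · have h2 := hew.mul_right het
      rwa [← map_mul, mul_assoc, hwtt] at h2
  have hea : Commute e (d.φ pP) :=
    comm_three d hC hI he3 (cube_map d hp3) hei.eq (comm_map d hprw)
  have heb : Commute e (d.φ qP) := by
    obtain ⟨p, hp, hpv⟩ := surj_T16 d hq ((mem_T16 d).2 ⟨vP, hv16, rfl⟩)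
    have hve : d.φ vP * e * (d.φ vP)⁻¹ = e ∨ d.φ vP * e * (d.φ vP)⁻¹ = e⁻¹ := by
      rw [← hpv, he, show q * d.φ p * q⁻¹ * (q * d.φ zP * q⁻¹) * (q * d.φ p * q⁻¹)⁻¹ =
        q * (d.φ p * d.φ zP * (d.φ p)⁻¹) * q⁻¹ by group, ← map_inv, ← map_mul, ← map_mul]
      rcases move_z p hp.1 hp.2 with h | h <;> rw [h]
      · exact Or.inl rfl
      · exact Or.inr (by rw [map_inv]; group)
    have h := hea.map (MulAut.conj (d.φ vP)).toMonoidHom
    change Commute (d.φ vP * e * (d.φ vP)⁻¹) (d.φ vP * d.φ pP * (d.φ vP)⁻¹) at h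
    rw [show d.φ vP * d.φ pP * (d.φ vP)⁻¹ = d.φ qP by
      rw [← hvp, map_mul, map_mul, map_inv]] at h
    rcases hve with r' | r' <;> rw [r'] at h
    · exact h
    · exact Commute.inv_left_iff.1 h
  set C := (Subgroup.centralizer ({e} : Set G)).comap d.φ with hCdef
  have hA : pP ∈ C := Subgroup.mem_centralizer_singleton_iff.2 hea.symm.eq
  have hB : qP ∈ C := Subgroup.mem_centralizer_singleton_iff.2 heb.symm.eq
  have hvC : vP ∈ C := by
    rw [word_v]; exact mul_mem (mul_mem (mul_mem (mul_mem hA hB) hA) hB) hA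
  have hev : e * d.φ vP = d.φ vP * e := (Subgroup.mem_centralizer_singleton_iff.1 hvC).symm
  have hCV : d.CV ≤ (Subgroup.centralizer ({tP, vP} : Set P35)).map d.φ := by
    refine (Subgroup.eq_of_le_of_card_ge ?_ ?_).ge
    · rintro _ ⟨p, hp, rfl⟩
      rintro y (rfl | rfl)
      · exact comm_map d (hp _ (Or.inl rfl))
      · exact comm_map d (hp _ (Or.inr rfl))
    · rw [h24, Subgroup.card_map_of_injective d.φ_inj, ← card_four, ← Fintype.card_subtype,
        ← Nat.card_eq_fintype_card]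
      refine le_of_eq (Nat.card_congr (Equiv.subtypeEquivRight fun p => ?_))
      constructor
      · rintro ⟨h1, h2⟩ y (rfl | rfl)
        exacts [h1.symm, h2.symm]
      · exact fun h => ⟨(h _ (Or.inl rfl)).symm, (h _ (Or.inr rfl)).symm⟩
  obtain ⟨m, -, hm⟩ := hCV (show e ∈ d.CV by
    rintro y (rfl | rfl)
    exacts [het.eq.symm, hev.symm])
  have hm1 : m = 1 := cent_end m (d.φ_inj (by rw [map_pow, hm, he3, map_one]))
    (comm_of_map d (by rw [hm]; exact het.eq)) (comm_of_map d (by rw [hm]; exact hev))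
    (comm_of_map d (by rw [hm]; exact hei.eq))
  rw [hm1, map_one] at hm
  exact hz1 (d.φ_inj (by rw [map_one]; exact conj_eq_one_iff.1 (he ▸ hm.symm)))

end BadDoubleProof

open BadDoubleProof in
/-- Brick BadDouble. -/
theorem badDouble : BadDoubleStmt.{u} := by
  intro G _ _ d hdbl hC h24
  classical
  have : Fact (Nat.Prime 2) := ⟨Nat.prime_two⟩
  obtain ⟨hw16, hr16, -, ht16, hf16, hwt16, hff, hw2, ht2, hw1, -, hr1, -, -, hzw, hzt, hp3,
    hq3, hpw, -, -, hqr, hpr, hqp, hvw, hvwt, hrtt, -⟩ := vals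
  -- the two classes
  have hrd : IsConj (d.φ dP) (d.φ rP) :=
    isConj_iff.2 ⟨d.g, by rw [hdbl, Data.ψ_apply]⟩
  have hnr : ¬ IsConj (d.φ rP) (d.φ cP) := fun h =>
    hqp (comm_of_map d (comm_three d hC h (cube_map d hq3) (cube_map d hp3)
      (comm_map d hqr) (comm_map d hpr)))
  have hnI : ∀ p, p = rP ∨ p = tP ∨ p = vP ∨ p = tP * vP → ¬ IsConj (d.φ p) (d.φ cP) := by
    intro p hp h
    rcases hp with rfl | rfl | rfl | rfl
    · exact hnr h
    · exact hnr ((((isConj_map d conj_tP).trans hrd).symm).trans h)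
    · exact hnr ((((isConj_map d conj_vP).trans hrd).symm).trans h)
    · exact hnr ((((isConj_map d conj_tv).trans hrd).symm).trans h)
  have hrt : IsConj (d.φ rP) (d.φ tP) := ((isConj_map d conj_tP).trans hrd).symm
  have hwI : IsConj (d.φ wP) (d.φ cP) := isConj_map d conj_wP
  have hIrw : IsConj (d.φ (rP * wP)) (d.φ cP) := by
    have h1 : IsConj (d.φ sP) (d.φ (rP * cP)) := isConj_iff.2 ⟨d.g, by
      rw [← dP_cP_mul, map_mul, map_mul,
        show d.g * (d.φ dP * d.φ cP) * d.g⁻¹ = d.g * d.φ dP * d.g⁻¹ * (d.g * d.φ cP * d.g⁻¹) by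
          group, d.g_c, hdbl, Data.ψ_apply]⟩
    exact (isConj_map d conj_rw).trans (h1.symm.trans (isConj_map d conj_sP))
  -- only the first system maps `(12)` to itself or to `(34)`
  have hfix : ∀ q : G, q * d.φ tP = d.φ tP * q → q * d.φ wP = d.φ wP * q → ∃ m, d.φ m = q := by
    intro q hqt hqw
    set y := q * d.φ zP * q⁻¹ with hy
    have hy3 : y ^ 3 = 1 := by
      rw [hy, conj_pow, cube_map d vals.2.2.2.2.2.2.2.2.2.2.2.2.1, mul_one, mul_inv_cancel]
    have hyw : Commute y (d.φ wP) := by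
      have h := (show Commute (d.φ zP) (d.φ wP) from comm_map d hzw).map (MulAut.conj q).toMonoidHom
      change Commute y (q * d.φ wP * q⁻¹) at h
      rwa [mul_inv_eq_iff_eq_mul.2 hqw] at h
    have hyt : Commute y (d.φ tP) := by
      have h := (show Commute (d.φ zP) (d.φ tP) from comm_map d hzt).map (MulAut.conj q).toMonoidHom
      change Commute y (q * d.φ tP * q⁻¹) at h
      rwa [mul_inv_eq_iff_eq_mul.2 hqt] at h
    have hyz : Commute y (d.φ zP) := comm_three d hC hwI hy3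
      (cube_map d vals.2.2.2.2.2.2.2.2.2.2.2.2.1) hyw.eq (comm_map d hzw)
    have hya : Commute y (d.φ pP) :=
      comm_three d hC hwI hy3 (cube_map d hp3) hyw.eq (comm_map d hpw)
    obtain ⟨m, hm⟩ := mem_range d (Or.inl (mul_inv_eq_iff_eq_mul.2 hyz.eq))
    refine mem_range d ?_
    rcases cent_tp m (d.φ_inj (by rw [map_pow, hm, hy3, map_one]))
      (comm_of_map d (by rw [hm]; exact hyt.eq)) (comm_of_map d (by rw [hm]; exact hya.eq))
      with e | e | e
    · exfalso
      rw [e, map_one] at hm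
      exact vals.2.2.2.2.2.2.2.2.2.2.2.2.2.1
        (d.φ_inj (by rw [map_one]; exact conj_eq_one_iff.1 hm.symm))
    · exact Or.inl (by rw [← hy, ← hm, e])
    · exact Or.inr (by rw [← hy, ← hm, e, map_inv])
  -- an element outside the first system normalising `T16`
  obtain ⟨q, hqt, hqn, hqr'⟩ : ∃ q : G, q * d.φ tP = d.φ tP * q ∧
      (∀ x ∈ T16 d, q * x * q⁻¹ ∈ T16 d) ∧ ¬ ∃ m, d.φ m = q := by
    set H := Subgroup.centralizer ({d.φ tP} : Set G) with hH
    have hle : T16 d ≤ H := by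
      intro x hx
      obtain ⟨p, hp, rfl⟩ := (mem_T16 d).1 hx
      exact Subgroup.mem_centralizer_singleton_iff.2 (comm_map d hp.2)
    have hTp : IsPGroup 2 (T16 d) := fun x => by
      obtain ⟨p, hp, hpx⟩ := (mem_T16 d).1 x.2
      exact ⟨2, Subtype.ext (by
        rw [Subgroup.coe_pow, Subgroup.coe_one, ← hpx, ← map_pow,
          show p ^ 2 ^ 2 = 1 from four p hp.1 hp.2, map_one])⟩
    obtain ⟨S, hS⟩ := (hTp.comap_of_injective H.subtype H.subtype_injective).exists_le_sylow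
    by_cases heq : (S : Subgroup H) ≤ (T16 d).subgroupOf H
    · -- then an automorphism of `T16` would map `r` to `t`
      exfalso
      obtain ⟨h, hh⟩ := isConj_iff.1 hrt
      have hle' : (T16 d).map (MulAut.conj h).toMonoidHom ≤ H := by
        rintro _ ⟨x, hx, rfl⟩
        obtain ⟨p, hp, rfl⟩ := (mem_T16 d).1 hx
        refine Subgroup.mem_centralizer_singleton_iff.2 ?_
        rw [← hh]
        exact ((show Commute (d.φ p) (d.φ rP) from comm_map d hp.1).map
          (MulAut.conj h).toMonoidHom).eq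
      obtain ⟨Q, hQ⟩ := ((hTp.map (MulAut.conj h).toMonoidHom).comap_of_injective H.subtype
        H.subtype_injective).exists_le_sylow
      obtain ⟨k, hk⟩ := MulAction.exists_smul_eq H Q S
      set y := (k : G) * h with hy
      have hyn : ∀ x ∈ T16 d, y * x * y⁻¹ ∈ T16 d := by
        intro x hx
        have hx' : h * x * h⁻¹ ∈ H := hle' ⟨x, hx, rfl⟩
        have h1 : MulAut.conj k ⟨_, hx'⟩ ∈ (S : Subgroup H) := by
          rw [← hk]
          exact Subgroup.smul_mem_pointwise_smul _ _ _ (hQ (Subgroup.mem_subgroupOf.2 ⟨x, hx, rfl⟩))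
        have h2 : (k : G) * (h * x * h⁻¹) * (k : G)⁻¹ ∈ T16 d := heq h1
        rwa [hy, show (k : G) * h * x * ((k : G) * h)⁻¹ = (k : G) * (h * x * h⁻¹) * (k : G)⁻¹ by
          group]
      have hyr : y * d.φ rP * y⁻¹ = d.φ tP := by
        rw [hy, show (k : G) * h * d.φ rP * ((k : G) * h)⁻¹ =
          (k : G) * (h * d.φ rP * h⁻¹) * (k : G)⁻¹ by group, hh,
          mul_inv_eq_iff_eq_mul.2 (Subgroup.mem_centralizer_singleton_iff.1 k.2)]
      obtain ⟨p, hp, hpf⟩ := surj_T16 d hyn ((mem_T16 d).2 ⟨fP, hf16, rfl⟩)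
      refine no_sqrt p hp.1 hp.2 (d.φ_inj ((MulAut.conj y).injective ?_))
      show y * d.φ (p * p) * y⁻¹ = y * d.φ rP * y⁻¹
      rw [hyr, map_mul, ← conj_mul, hpf, ← map_mul, hff]
    · haveI : Group.IsNilpotent (S : Subgroup H) := S.2.isNilpotent
      have hlt : ((T16 d).subgroupOf H).subgroupOf (S : Subgroup H) < ⊤ :=
        lt_top_iff_ne_top.2 fun h => heq (Subgroup.subgroupOf_eq_top.1 h)
      obtain ⟨x, hx, hxT⟩ :=
        SetLike.exists_of_lt (Group.normalizerCondition_of_isNilpotent _ hlt)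
      have hxn : ∀ y ∈ T16 d, ((x : H) : G) * y * ((x : H) : G)⁻¹ ∈ T16 d := fun y hy =>
        (Subgroup.mem_normalizer_iff.1 hx ⟨⟨y, hle hy⟩, hS (Subgroup.mem_subgroupOf.2 hy)⟩).1 hy
      have hxt := Subgroup.mem_centralizer_singleton_iff.1 (x : H).2
      refine ⟨((x : H) : G), hxt, hxn, fun ⟨m, hm⟩ => hxT ?_⟩
      have h1 : m * tP = tP * m := comm_of_map d (by rw [hm]; exact hxt)
      obtain ⟨p, hp, hpe⟩ := (mem_T16 d).1 (hxn _ ((mem_T16 d).2 ⟨rP, hr16, rfl⟩))
      rw [← hm, ← map_inv, ← map_mul, ← map_mul] at hpe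
      have h2 : m * rP = rP * m := norm16 m h1 (d.φ_inj hpe ▸ hp.1)
      exact (mem_T16 d).2 ⟨m, ⟨h2, h1⟩, hm⟩
  -- its action on the involutions
  have himg : ∀ (q : G) (p : P35), (∀ x ∈ T16 d, q * x * q⁻¹ ∈ T16 d) → In16 p → p * p = 1 →
      p ≠ 1 → IsConj (d.φ p) (d.φ cP) → ∃ p', d.φ p' = q * d.φ p * q⁻¹ ∧ p' ≠ 1 ∧ In16 p' ∧
      (p' = wP ∨ p' = wP * tP ∨ p' = rP * tP ∨ p' = rP * vP ∨ p' = rP * (tP * vP) ∨
        p' = rP * wP ∨ p' = rP * (wP * tP)) := by
    intro q p hq hp hp2 hp1 hpI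
    obtain ⟨p', hp', he⟩ := (mem_T16 d).1 (hq _ ((mem_T16 d).2 ⟨p, hp, rfl⟩))
    have hsq : p' * p' = 1 := d.φ_inj (by
      rw [map_mul, he, conj_mul, ← map_mul, hp2, map_one, mul_one, mul_inv_cancel])
    have hne : p' ≠ 1 := fun h => hp1 (d.φ_inj (by
      rw [map_one]; rw [h, map_one] at he; exact conj_eq_one_iff.1 he.symm))
    have hI' : IsConj (d.φ p') (d.φ cP) := by
      rw [he]; exact (isConj_iff.2 ⟨q, rfl⟩ : IsConj (d.φ p) (q * d.φ p * q⁻¹)).symm.trans hpI
    refine ⟨p', he, hne, hp', ?_⟩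
    rcases invol_list p' hp'.1 hp'.2 hsq hne with e | e | e | e | e | e | e | e | e | e | e
    · exact absurd hI' (hnI _ (Or.inr (Or.inl e)))
    · exact absurd hI' (hnI _ (Or.inr (Or.inr (Or.inl e))))
    · exact absurd hI' (hnI _ (Or.inr (Or.inr (Or.inr e))))
    · exact Or.inl e
    · exact Or.inr (Or.inl e)
    · exact absurd hI' (hnI _ (Or.inl e))
    · exact Or.inr (Or.inr (Or.inl e))
    · exact Or.inr (Or.inr (Or.inr (Or.inl e)))
    · exact Or.inr (Or.inr (Or.inr (Or.inr (Or.inl e))))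
    · exact Or.inr (Or.inr (Or.inr (Or.inr (Or.inr (Or.inl e)))))
    · exact Or.inr (Or.inr (Or.inr (Or.inr (Or.inr (Or.inr e)))))
  have hqt' : q * d.φ tP * q⁻¹ = d.φ tP := mul_inv_eq_iff_eq_mul.2 hqt
  have hwtI : IsConj (d.φ (wP * tP)) (d.φ cP) :=
    (isConj_map d ⟨vP, hvwt⟩).trans hwI
  -- an involution moved to `rt` would force `r` into the class of `c`
  have hno_rt : ∀ p, IsConj (d.φ (p * tP)) (d.φ cP) → q * d.φ p * q⁻¹ ≠ d.φ (rP * tP) := by
    intro p hp h
    refine hnr (((isConj_iff.2 ⟨q, ?_⟩ : IsConj (d.φ (p * tP)) (d.φ rP))).symm.trans hp)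
    rw [map_mul, ← conj_mul, h, hqt', ← map_mul, hrtt]
  obtain ⟨p, hpe, -, hp16, hp⟩ := himg q wP hqn hw16 hw2 hw1 hwI
  have hrwt : IsConj (d.φ (rP * wP * tP)) (d.φ cP) := by
    refine IsConj.trans ?_ hIrw
    exact isConj_map d (by decide +kernel : ∃ n : P35, n * (rP * wP * tP) * n⁻¹ = rP * wP)
  rcases hp with e | e | e | e | e | e | e
  · exact hqr' (hfix q hqt (mul_inv_eq_iff_eq_mul.1 (by rw [← hpe, e])))
  · -- composing with `v`
    refine hqr' ?_
    obtain ⟨m, hm⟩ := hfix (d.φ vP * q) (by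
      rw [mul_assoc, hqt, ← mul_assoc, comm_map d (show vP * tP = tP * vP by decide +kernel),
        mul_assoc]) (by
      have h1 : q * d.φ wP = d.φ (wP * tP) * q := mul_inv_eq_iff_eq_mul.1 (by rw [← hpe, e])
      rw [mul_assoc, h1, ← mul_assoc, ← mul_assoc, ← map_mul, ← map_mul,
        show vP * (wP * tP) = wP * vP by decide +kernel])
    exact ⟨vP⁻¹ * m, by rw [map_mul, map_inv, hm, inv_mul_cancel_left]⟩
  · exact hno_rt wP hwtI (by rw [← hpe, e])
  rotate_left 2
  · exact final d hC hIrw h24 hqt hqn (Or.inl (by rw [← hpe, e]))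
  · exact final d hC hIrw h24 hqt hqn (Or.inr (by rw [← hpe, e]))
  all_goals
    obtain ⟨p', hpe', -, -, hp'⟩ := himg q (rP * wP) hqn (by decide +kernel) (by decide +kernel)
      (by decide +kernel) hIrw
    have hback : p' = wP ∨ p' = wP * tP → False := by
      intro h
      have hinv : ∀ x ∈ T16 d, q⁻¹ * x * q⁻¹⁻¹ ∈ T16 d := by
        intro x hx
        obtain ⟨m, hm, rfl⟩ := surj_T16 d hqn hx
        rw [show q⁻¹ * (q * d.φ m * q⁻¹) * q⁻¹⁻¹ = d.φ m by group]
        exact (mem_T16 d).2 ⟨m, hm, rfl⟩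
      have hqit : q⁻¹ * d.φ tP = d.φ tP * q⁻¹ := (Commute.inv_left (show Commute q _ from hqt)).eq
      refine final d hC hIrw h24 hqit hinv ?_
      rcases h with h | h
      · refine Or.inl ?_
        have h1 : d.φ wP = q * d.φ (rP * wP) * q⁻¹ := by rw [← hpe', h]
        rw [h1]
        group
      · refine Or.inr ?_
        have h1 : d.φ wP = q * d.φ (rP * (wP * tP)) * q⁻¹ := by
          rw [← mul_assoc rP, map_mul d.φ (rP * wP), ← conj_mul, ← hpe', hqt', h, ← map_mul,
            show wP * tP * tP = wP by decide +kernel]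
        rw [h1]
        group
    rcases hp' with e' | e' | e' | e' | e' | e' | e'
    · exact hback (Or.inl e')
    · exact hback (Or.inr e')
    · exact hno_rt (rP * wP) hrwt (by rw [← hpe', e'])
    all_goals
      have hr : d.φ (p * p') = q * d.φ rP * q⁻¹ := by
        rw [map_mul, hpe, hpe', conj_mul, ← map_mul, show wP * (rP * wP) = rP by decide +kernel]
      have hne1 : p * p' ≠ 1 := fun h => hr1 (d.φ_inj (by
        rw [map_one]; rw [h, map_one] at hr; exact conj_eq_one_iff.1 hr.symm))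
      have hnet : p * p' ≠ tP := fun h => by
        rw [h] at hr
        refine absurd (d.φ_inj ((MulAut.conj q).injective ?_)) (show rP ≠ tP by decide +kernel)
        show q * d.φ rP * q⁻¹ = q * d.φ tP * q⁻¹
        rw [← hr, hqt']
      have hsq : p * p' * (p * p') = 1 := d.φ_inj (by
        rw [map_mul, hr, conj_mul, ← map_mul, show rP * rP = 1 by decide +kernel, map_one, mul_one,
          mul_inv_cancel])
      rcases pair_bad p (by simp [e]) p' (by simp [e']) with h | h | h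
      exacts [h hsq, hne1 h, hnet h]

end Cfsg.Agent.Lib.SymEightThree6
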