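import Cfsg.Agent.Lib.SymEightThree6.Spec

/-!
# S3330, brick BadTrans

With a transposition, the involution `r` inverting `z` is conjugate to `c`, so its centraliser is `2.S6`; the
image of the `A4` on four points has a non-trivial centraliser there, which lifts into the centraliser of the
four-group.
-/

set_option autoImplicit false
set_option synthInstance.maxSize 1024

namespace Cfsg.Agent.Lib.SymEightThree6

open Equiv Equiv.Perm Subgroup

universe u

namespace BadTransProof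

/-- The three cycle `(012)` on six points. -/
def qA : Perm (Fin 6) := swap 0 1 * swap 1 2

/-- The element `(012)(345)` on six points. -/
def qB : Perm (Fin 6) := swap 0 1 * swap 1 2 * (swap 3 4 * swap 4 5)

theorem six_norm : ∀ Q : Perm (Fin 6), Q * Q * Q = 1 → Q ≠ 1 →
    ∃ g : Perm (Fin 6), g * Q * g⁻¹ = qA ∨ g * Q * g⁻¹ = qB := by decide +kernel

theorem six_two : ∀ P : Perm (Fin 6), P * P = 1 → P ≠ 1 →
    (P * qA * (P * qA) * (P * qA) = 1 → ∃ τ : Perm (Fin 6), τ * P = P * τ ∧ τ * qA = qA * τ ∧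
      τ ≠ 1 ∧ τ ≠ P ∧ τ ≠ qA * P * qA⁻¹ ∧ τ ≠ P * (qA * P * qA⁻¹)) ∧
    (P * qB * (P * qB) * (P * qB) = 1 → ∃ τ : Perm (Fin 6), τ * P = P * τ ∧ τ * qB = qB * τ ∧
      τ ≠ 1 ∧ τ ≠ P ∧ τ ≠ qB * P * qB⁻¹ ∧ τ ≠ P * (qB * P * qB⁻¹)) := by decide +kernel

theorem six_table (P : Perm (Fin 6)) (hP : P * P = 1) (hP1 : P ≠ 1) (Q : Perm (Fin 6))
    (hQ : Q * Q * Q = 1) (hQ1 : Q ≠ 1) (hPQ : P * Q * (P * Q) * (P * Q) = 1) :
    ∃ τ : Perm (Fin 6), τ * P = P * τ ∧ τ * Q = Q * τ ∧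
      τ ≠ 1 ∧ τ ≠ P ∧ τ ≠ Q * P * Q⁻¹ ∧ τ ≠ P * (Q * P * Q⁻¹) := by
  obtain ⟨g, hg⟩ := six_norm Q hQ hQ1
  let c := (MulAut.conj g : MulAut (Perm (Fin 6)))
  have key : ∀ q, c Q = q → (c P * q * (c P * q) * (c P * q) = 1 →
      ∃ τ : Perm (Fin 6), τ * c P = c P * τ ∧ τ * q = q * τ ∧
      τ ≠ 1 ∧ τ ≠ c P ∧ τ ≠ q * c P * q⁻¹ ∧ τ ≠ c P * (q * c P * q⁻¹)) →
      ∃ τ : Perm (Fin 6), τ * P = P * τ ∧ τ * Q = Q * τ ∧
      τ ≠ 1 ∧ τ ≠ P ∧ τ ≠ Q * P * Q⁻¹ ∧ τ ≠ P * (Q * P * Q⁻¹) := by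
    rintro q rfl h
    obtain ⟨τ, h1, h2, h3, h4, h5, h6⟩ := h (by simp only [← map_mul, hPQ, map_one])
    obtain ⟨σ, rfl⟩ := c.surjective τ
    simp only [← map_mul, ← map_inv, c.injective.eq_iff, c.injective.ne_iff, map_eq_one_iff c c.injective, ne_eq]
      at h1 h2 h3 h4 h5 h6
    exact ⟨σ, h1, h2, h3, h4, h5, h6⟩
  have h1 : c P * c P = 1 := by rw [← map_mul, hP, map_one]
  have h2 : c P ≠ 1 := fun h => hP1 ((map_eq_one_iff c c.injective).1 h)
  rcases hg with e | e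
  · exact key qA e (six_two _ h1 h2).1
  · exact key qB e (six_two _ h1 h2).2

theorem basic : (tP * tP = 1 ∧ aP * aP * aP = 1) ∧ tP * aP * (tP * aP) * (tP * aP) = 1 ∧
    aP * tP * aP⁻¹ = vP ∧ aP * vP * aP⁻¹ = tP * vP ∧ rP * tP = tP * rP ∧ rP * vP = vP * rP ∧
    rP * aP = aP * rP ∧ rP * rP = 1 := by decide +kernel

theorem nontriv : tP ≠ 1 ∧ tP ≠ rP ∧ aP ≠ 1 ∧ aP ≠ rP ∧ rP ≠ 1 := by decide +kernel

theorem conj_cP : ∃ n : P35, n * cP * n⁻¹ = sP := ⟨(1, swap 0 3 * swap 1 4), by decide +kernel⟩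

theorem card_four : (Finset.univ.filter fun m : P35 => m * tP = tP * m ∧ m * vP = vP * m).card = 24 := by
  decide +kernel

theorem four_r : ∀ m : P35, m * tP = tP * m → m * vP = vP * m → m * rP = rP * m →
    (m = 1 ∨ m = tP ∨ m = vP ∨ m = tP * vP) ∨
      (rP * m = 1 ∨ rP * m = tP ∨ rP * m = vP ∨ rP * m = tP * vP) := by decide +kernel

theorem nine : (Finset.univ.filter fun m : P35 => m * zP = zP * m ∧ m * aP = aP * m ∧ m * m * m = 1).card = 9 ∧
    ∀ m : P35, m * zP = zP * m → m * aP = aP * m → m * m * m = 1 →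
      ∃ i : Fin 3, ∃ j : Fin 3, m = zP ^ (i : ℕ) * aP ^ (j : ℕ) := by decide +kernel

theorem twenty : 9 < (Finset.univ.filter fun m : P35 => m.1 = 1 ∧ m * m * m = 1).card := by decide +kernel

theorem za_comm : zP * aP = aP * zP ∧ zP * zP * zP = 1 ∧ aP * aP * aP = 1 := by decide +kernel

variable {G : Type u} [Group G] [Finite G]

theorem cv_elem (d : Data G) (h : Nat.card d.CV = 24) {x : G} (hx : x ∈ d.CV) :
    ∃ m, d.φ m = x ∧ m * tP = tP * m ∧ m * vP = vP * m := by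
  classical
  let := Fintype.ofFinite d.CV
  set U := Finset.univ.filter fun m : P35 => m * tP = tP * m ∧ m * vP = vP * m
  set W := (Finset.univ : Finset d.CV).image (Subtype.val : d.CV → G)
  have hsub : U.image d.φ ⊆ W := by
    intro y hy
    obtain ⟨m, hm, rfl⟩ := Finset.mem_image.1 hy
    obtain ⟨-, h1, h2⟩ := Finset.mem_filter.1 hm
    refine Finset.mem_image.2 ⟨⟨d.φ m, ?_⟩, Finset.mem_univ _, rfl⟩
    rw [Data.CV, mem_centralizer_iff]
    rintro w (rfl | rfl) <;> rw [← map_mul, ← map_mul] <;> congr 1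
    exacts [h1.symm, h2.symm]
  have heq := Finset.eq_of_subset_of_card_le hsub (by
    rw [Finset.card_image_of_injective _ d.φ_inj, card_four,
      Finset.card_image_of_injective _ Subtype.val_injective, Finset.card_univ, ← Nat.card_eq_fintype_card, h])
  have hxW : x ∈ W := Finset.mem_image.2 ⟨⟨x, hx⟩, Finset.mem_univ _, rfl⟩
  rw [← heq] at hxW
  obtain ⟨m, hm, rfl⟩ := Finset.mem_image.1 hxW
  obtain ⟨-, h1, h2⟩ := Finset.mem_filter.1 hm
  exact ⟨m, rfl, h1, h2⟩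

/-- An element of order three normalising `D` lies in `D`. -/
theorem three_in_D (d : Data G) {y : G} (hy : y * y * y = 1)
    (hn : y ∈ normalizer (closure ({d.φ zP, d.φ aP} : Set G) : Set G)) :
    y ∈ (Finset.univ.filter fun m : P35 =>
      m * zP = zP * m ∧ m * aP = aP * m ∧ m * m * m = 1).map ⟨d.φ, d.φ_inj⟩ := by
  classical
  have : Fact (Nat.Prime 3) := ⟨Nat.prime_three⟩
  have hpz : ∀ w : G, w * w * w = 1 → IsPGroup 3 (zpowers w) := fun w hw => by
    obtain ⟨j, -, hj⟩ := (Nat.dvd_prime_pow Nat.prime_three).1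
      (orderOf_dvd_of_pow_eq_one (show w ^ 3 ^ 1 = 1 by rw [pow_one, pow_succ, pow_two, hw]))
    exact IsPGroup.of_card (n := j) (by rw [Nat.card_zpowers, hj])
  set D := closure ({d.φ zP, d.φ aP} : Set G) with hD
  have hDeq : D = zpowers (d.φ zP) ⊔ zpowers (d.φ aP) := by
    rw [hD, zpowers_eq_closure, zpowers_eq_closure, ← Subgroup.closure_union, Set.singleton_union]
  obtain ⟨hza, hz3, ha3⟩ := za_comm
  have hDp : IsPGroup 3 D := by
    rw [hDeq]
    refine IsPGroup.to_sup_of_normal_left' (hpz _ (by rw [← map_mul, ← map_mul, hz3, map_one]))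
      (hpz _ (by rw [← map_mul, ← map_mul, ha3, map_one]))
      (zpowers_le.2 (mem_normalizer_fintype fun w hw => ?_))
    obtain ⟨i, rfl⟩ := hw
    show d.φ aP * d.φ zP ^ i * (d.φ aP)⁻¹ ∈ zpowers (d.φ zP)
    rw [← conj_zpow, ← map_inv, ← map_mul, ← map_mul, ← hza, mul_inv_cancel_right]
    exact zpow_mem (mem_zpowers _) i
  have hsup : IsPGroup 3 (D ⊔ zpowers y : Subgroup G) :=
    IsPGroup.to_sup_of_normal_left' hDp (hpz y hy) (zpowers_le.2 hn)
  obtain ⟨k, hk⟩ := hsup.exists_card_eq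
  have hk2 : k ≤ 2 := by
    by_contra h
    exact d.sylow (dvd_trans ((show (27 : ℕ) = 3 ^ 3 by norm_num) ▸ pow_dvd_pow 3 (by omega : 3 ≤ k))
      (hk ▸ (D ⊔ zpowers y).card_subgroup_dvd_card))
  set K := D ⊔ zpowers y
  let := Fintype.ofFinite K
  set W := (Finset.univ : Finset K).image (Subtype.val : K → G)
  have hsub : (Finset.univ.filter fun m : P35 =>
      m * zP = zP * m ∧ m * aP = aP * m ∧ m * m * m = 1).map ⟨d.φ, d.φ_inj⟩ ⊆ W := by
    intro w hw
    obtain ⟨m, hm, rfl⟩ := Finset.mem_map.1 hw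
    obtain ⟨-, h1, h2, h3⟩ := Finset.mem_filter.1 hm
    obtain ⟨i, j, rfl⟩ := nine.2 m h1 h2 h3
    refine Finset.mem_image.2 ⟨⟨_, mem_sup_left ?_⟩, Finset.mem_univ _, rfl⟩
    show d.φ (zP ^ (i : ℕ) * aP ^ (j : ℕ)) ∈ D
    rw [map_mul, map_pow, map_pow]
    exact mul_mem (pow_mem (Subgroup.subset_closure (by simp)) _) (pow_mem (Subgroup.subset_closure (by simp)) _)
  have heq := Finset.eq_of_subset_of_card_le hsub (by
    rw [Finset.card_map, nine.1, Finset.card_image_of_injective _ Subtype.val_injective, Finset.card_univ,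
      ← Nat.card_eq_fintype_card, hk]
    calc 3 ^ k ≤ 3 ^ 2 := Nat.pow_le_pow_right (by norm_num) hk2
      _ = 9 := by norm_num)
  rw [heq]
  exact Finset.mem_image.2 ⟨⟨y, mem_sup_right (mem_zpowers y)⟩, Finset.mem_univ _, rfl⟩

end BadTransProof

open BadTransProof in
theorem badTrans (hC : CentCStmt.{u}) : BadTransStmt.{u} := by
  intro G _ _ d htr h24
  classical
  obtain ⟨n, hn⟩ := conj_cP
  set g₁ := d.ψ n with hg₁
  set r := d.φ rP with hr
  have hgr : g₁ * d.φ cP * g₁⁻¹ = r := by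
    rw [← d.ψ_c, hg₁, ← map_inv, ← map_mul, ← map_mul, hn, hr]
    exact htr.symm
  set Cr := centralizer ({r} : Set G) with hCr
  set Cc := centralizer ({d.φ cP} : Set G) with hCc
  have hpull : ∀ y ∈ Cr, g₁⁻¹ * y * g₁ ∈ Cc := by
    intro y hy
    rw [mem_centralizer_singleton_iff] at hy ⊢
    have hc : d.φ cP = g₁⁻¹ * r * g₁ := by rw [← hgr]; group
    rw [hc]
    calc g₁⁻¹ * y * g₁ * (g₁⁻¹ * r * g₁) = g₁⁻¹ * (y * r) * g₁ := by group
      _ = g₁⁻¹ * r * g₁ * (g₁⁻¹ * y * g₁) := by rw [hy]; group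
  have hcomm : ∀ m : P35, rP * m = m * rP → d.φ m ∈ Cr := fun m hm => by
    rw [mem_centralizer_singleton_iff, hr, ← map_mul, ← map_mul, hm]
  rcases hC G d with hle | ⟨f, hfs, hfk⟩
  · -- too many elements of order three
    refine absurd twenty (not_lt.2 ?_)
    rw [← nine.1]
    let ι : P35 → G := fun m => g₁⁻¹ * d.φ m * g₁
    have hι : Function.Injective ι := fun a b h => d.φ_inj (mul_left_cancel (mul_right_cancel h))
    rw [← Finset.card_image_of_injective _ hι, ← Finset.card_map ⟨d.φ, d.φ_inj⟩ (s :=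
      Finset.univ.filter fun m : P35 => m * zP = zP * m ∧ m * aP = aP * m ∧ m * m * m = 1)]
    refine Finset.card_le_card fun y hy => ?_
    obtain ⟨m, hm, rfl⟩ := Finset.mem_image.1 hy
    obtain ⟨-, hm1, hm3⟩ := Finset.mem_filter.1 hm
    refine three_in_D d ?_ (hle (hpull _ (hcomm m ?_)))
    · calc g₁⁻¹ * d.φ m * g₁ * (g₁⁻¹ * d.φ m * g₁) * (g₁⁻¹ * d.φ m * g₁) = g₁⁻¹ * (d.φ m * d.φ m * d.φ m) * g₁ := by
            group
        _ = 1 := by rw [← map_mul, ← map_mul, hm3, map_one, mul_one, inv_mul_cancel]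
    · exact Prod.ext (by simp [rP, hm1]) (by simp [rP])
  · let j : Cr →* Cc :=
      { toFun := fun y => ⟨g₁⁻¹ * y * g₁, hpull y y.2⟩
        map_one' := Subtype.ext (by simp)
        map_mul' := fun a b => Subtype.ext (by simp [mul_assoc]) }
    let F : Cr →* Perm (Fin 6) := f.comp j
    obtain ⟨⟨ht2, ha3⟩, hta, hatv, havt, hrt, hrv, hra, hr2⟩ := basic
    have hker : ∀ y : Cr, F y = 1 → (y : G) = 1 ∨ (y : G) = r := by
      intro y hy
      obtain ⟨i, hi⟩ := (hfk (j y)).1 hy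
      have hi' : d.φ cP ^ i = g₁⁻¹ * y * g₁ := hi
      have hy' : (y : G) = r ^ i := by
        rw [← hgr, conj_zpow, hi']; group
      have hr2' : r ^ (2 : ℤ) = 1 := by rw [zpow_two, hr, ← map_mul, hr2, map_one]
      rcases Int.even_or_odd' i with ⟨k, rfl | rfl⟩
      · left; rw [hy', zpow_mul, hr2', one_zpow]
      · right; rw [hy', zpow_add, zpow_mul, hr2', one_zpow, one_mul, zpow_one]
    have hFr : ∀ hr' : r ∈ Cr, F ⟨r, hr'⟩ = 1 := fun hr' => by
      refine (hfk (j ⟨r, hr'⟩)).2 ?_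
      show g₁⁻¹ * r * g₁ ∈ zpowers (d.φ cP)
      rw [show g₁⁻¹ * r * g₁ = d.φ cP by rw [← hgr]; group]
      exact mem_zpowers _
    set t' : Cr := ⟨d.φ tP, hcomm _ hrt⟩ with ht'
    set v' : Cr := ⟨d.φ vP, hcomm _ hrv⟩ with hv'
    set a' : Cr := ⟨d.φ aP, hcomm _ hra⟩ with ha'
    set P := F t' with hP
    set Q := F a' with hQ
    have hne : ∀ (m : P35) (hm : d.φ m ∈ Cr), m ≠ 1 → m ≠ rP → F ⟨d.φ m, hm⟩ ≠ 1 := fun m hm h1 h2 he => by
      rcases hker _ he with e | e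
      · exact h1 (d.φ_inj (by rw [map_one]; exact e))
      · exact h2 (d.φ_inj e)
    have hPv : Q * P * Q⁻¹ = F v' := by
      rw [hP, hQ, ← map_inv, ← map_mul, ← map_mul]
      refine congrArg F (Subtype.ext ?_)
      show d.φ aP * d.φ tP * (d.φ aP)⁻¹ = d.φ vP
      rw [← map_inv, ← map_mul, ← map_mul, hatv]
    obtain ⟨τ, hτP, hτQ, hτ1, hτt, hτv, hτtv⟩ := six_table P
      (by rw [hP, ← map_mul, show t' * t' = 1 from Subtype.ext (by
        show d.φ tP * d.φ tP = 1; rw [← map_mul, ht2, map_one]), map_one])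
      (hne _ _ nontriv.1 nontriv.2.1) Q
      (by rw [hQ, ← map_mul, ← map_mul, show a' * a' * a' = 1 from Subtype.ext (by
        show d.φ aP * d.φ aP * d.φ aP = 1; rw [← map_mul, ← map_mul, ha3, map_one]), map_one])
      (hne _ _ nontriv.2.2.1 nontriv.2.2.2.1)
      (by rw [hP, hQ, ← map_mul, ← map_mul, ← map_mul, show t' * a' * (t' * a') * (t' * a') = 1 from Subtype.ext (by
        show d.φ tP * d.φ aP * (d.φ tP * d.φ aP) * (d.φ tP * d.φ aP) = 1
        rw [← map_mul, ← map_mul, ← map_mul, hta, map_one]), map_one])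
    obtain ⟨w, hw⟩ := hfs τ
    have hwC : g₁ * (w : G) * g₁⁻¹ ∈ Cr := by
      rw [mem_centralizer_singleton_iff, ← hgr]
      calc g₁ * (w : G) * g₁⁻¹ * (g₁ * d.φ cP * g₁⁻¹) = g₁ * ((w : G) * d.φ cP) * g₁⁻¹ := by group
        _ = _ := by rw [mem_centralizer_singleton_iff.1 w.2]; group
    set x : G := g₁ * (w : G) * g₁⁻¹ with hx
    have hFx : F ⟨x, hwC⟩ = τ := by
      rw [← hw]
      refine congrArg f (Subtype.ext ?_)
      show g₁⁻¹ * x * g₁ = w
      rw [hx]; group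
    have hxr : x * r = r * x := mem_centralizer_singleton_iff.1 hwC
    have hrr : r * r = 1 := by rw [hr, ← map_mul, hr2, map_one]
    have hrne : r ≠ 1 := fun h => nontriv.2.2.2.2 (d.φ_inj (by rw [map_one]; exact h))
    have hcom : ∀ y : Cr, τ * F y = F y * τ →
        x * y * x⁻¹ = (y : G) ∨ x * y * x⁻¹ = r * y := fun y hy => by
      have h : F (⟨x, hwC⟩ * y * ⟨x, hwC⟩⁻¹ * y⁻¹) = 1 := by
        rw [map_mul, map_mul, map_mul, map_inv, map_inv, hFx, hy, mul_inv_cancel_right, mul_inv_cancel]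
      rcases hker _ h with e | e
      · exact Or.inl (mul_inv_eq_one.1 e)
      · exact Or.inr (mul_inv_eq_iff_eq_mul.1 e)
    have hxa : x * d.φ aP = d.φ aP * x := by
      refine mul_inv_eq_iff_eq_mul.1 ((hcom a' hτQ).resolve_right fun e => hrne ?_)
      have hca : Commute r (d.φ aP) := by
        show r * d.φ aP = d.φ aP * r
        rw [hr, ← map_mul, hra, map_mul]
      have h3 : (x * d.φ aP * x⁻¹) ^ 3 = (r * d.φ aP) ^ 3 := congrArg (· ^ 3) e
      have ha : d.φ aP ^ 3 = 1 := by rw [pow_succ, pow_two, ← map_mul, ← map_mul, ha3, map_one]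
      rw [conj_pow, hca.mul_pow, ha, mul_one, mul_inv_cancel, mul_one, pow_succ, pow_two, hrr, one_mul] at h3
      exact h3.symm
    -- the commutator map is trivial on the four-group
    obtain ⟨ε, hε, het⟩ : ∃ ε : G, (ε = 1 ∨ ε = r) ∧ x * d.φ tP * x⁻¹ = ε * d.φ tP := by
      rcases hcom t' hτP with e | e
      · exact ⟨1, Or.inl rfl, by rw [one_mul]; exact e⟩
      · exact ⟨r, Or.inr rfl, e⟩
    have hεm : ∀ m : P35, rP * m = m * rP → ε * d.φ m = d.φ m * ε := fun m hm => by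
      rcases hε with rfl | rfl
      · rw [one_mul, mul_one]
      · rw [hr, ← map_mul, hm, map_mul]
    have hconj : ∀ m : P35, x * d.φ m * x⁻¹ = ε * d.φ m →
        x * d.φ (aP * m * aP⁻¹) * x⁻¹ = ε * d.φ (aP * m * aP⁻¹) := fun m hm => by
      rw [map_mul, map_mul, map_inv]
      calc x * (d.φ aP * d.φ m * (d.φ aP)⁻¹) * x⁻¹ = (x * d.φ aP) * d.φ m * (x * d.φ aP)⁻¹ := by group
        _ = d.φ aP * (x * d.φ m * x⁻¹) * (d.φ aP)⁻¹ := by rw [hxa]; group
        _ = d.φ aP * ε * d.φ m * (d.φ aP)⁻¹ := by rw [hm]; group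
        _ = ε * (d.φ aP * d.φ m * (d.φ aP)⁻¹) := by rw [← hεm _ hra]; group
    have hev := hconj _ het
    rw [hatv] at hev
    have hetv := hconj _ hev
    rw [havt] at hetv
    have hε1 : ε = 1 := by
      have h : ε * d.φ (tP * vP) = ε * d.φ tP * (ε * d.φ vP) := by
        rw [← hetv, ← het, ← hev, map_mul]; group
      have hee : ε * ε = 1 := by rcases hε with rfl | rfl; exacts [one_mul 1, hrr]
      have h2 : ε * d.φ tP * (ε * d.φ vP) = d.φ (tP * vP) := by
        rw [mul_assoc, ← mul_assoc (d.φ tP), ← hεm _ hrt, mul_assoc ε (d.φ tP), ← mul_assoc, hee, one_mul,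
          ← map_mul]
      rw [h2] at h
      exact mul_eq_right.1 h
    rw [hε1, one_mul] at het hev
    have hxV : x ∈ d.CV := by
      rw [Data.CV, mem_centralizer_iff]
      rintro y (rfl | rfl)
      · exact (mul_inv_eq_iff_eq_mul.1 het).symm
      · exact (mul_inv_eq_iff_eq_mul.1 hev).symm
    obtain ⟨m, hm, hm1, hm2⟩ := cv_elem d h24 hxV
    have hmr : m * rP = rP * m := d.φ_inj (by rw [map_mul, map_mul, hm]; exact hxr)
    have hval : ∀ (e : P35) (he : d.φ e ∈ Cr), (m = e ∨ rP * m = e) → τ = F ⟨d.φ e, he⟩ := by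
      intro e he hme
      rw [← hFx]
      rcases hme with rfl | h
      · exact congrArg F (Subtype.ext hm.symm)
      · have hrC : r ∈ Cr := hcomm rP rfl
        have heq : (⟨d.φ e, he⟩ : Cr) = ⟨r, hrC⟩ * ⟨x, hwC⟩ := Subtype.ext (by
          show d.φ e = r * x
          rw [← h, map_mul, hm])
        rw [heq, map_mul, hFr, one_mul]
    have h1C : d.φ 1 ∈ Cr := by rw [map_one]; exact one_mem _
    have htvC : d.φ (tP * vP) ∈ Cr := by rw [map_mul]; exact mul_mem t'.2 v'.2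
    have hF1 : F ⟨d.φ 1, h1C⟩ = 1 := by
      rw [show (⟨d.φ 1, h1C⟩ : Cr) = 1 from Subtype.ext (map_one _), map_one]
    have hFtv : F ⟨d.φ (tP * vP), htvC⟩ = P * (Q * P * Q⁻¹) := by
      rw [hPv, hP, ← map_mul]; exact congrArg F (Subtype.ext (map_mul _ _ _))
    rcases four_r m hm1 hm2 hmr with (e | e | e | e) | (e | e | e | e)
    · exact hτ1 ((hval 1 h1C (Or.inl e)).trans hF1)
    · exact hτt (hval tP t'.2 (Or.inl e))
    · exact hτv ((hval vP v'.2 (Or.inl e)).trans hPv.symm)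
    · exact hτtv ((hval _ htvC (Or.inl e)).trans hFtv)
    · exact hτ1 ((hval 1 h1C (Or.inr e)).trans hF1)
    · exact hτt (hval tP t'.2 (Or.inr e))
    · exact hτv ((hval vP v'.2 (Or.inr e)).trans hPv.symm)
    · exact hτtv ((hval _ htvC (Or.inr e)).trans hFtv)

end Cfsg.Agent.Lib.SymEightThree6
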