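import Cfsg.Agent.Lib.SymEightThree6.Spec
import Cfsg.Agent.S3333

/-!
The centraliser of the involution `c` centralising both elements of order three: modulo `c` it
satisfies the hypotheses of the recognition of `S6` by a self-centralising Sylow three subgroup.
-/

set_option autoImplicit false
set_option linter.unusedSectionVars false
set_option linter.style.haveILetI false

namespace Cfsg.Agent.Lib.SymEightThree6.CentCPf

open Equiv Subgroup

universe u

abbrev Q3 := Perm (Fin 3)
abbrev Q5 := Perm (Fin 5)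

def z3 : Q3 := swap 0 1 * swap 1 2
def a5 : Q5 := swap 2 3 * swap 3 4
def c5 : Q5 := swap 0 1

theorem q3_facts : ∀ p : Q3, p * z3 = z3 * p → p = 1 ∨ p = z3 ∨ p = z3 * z3 := by decide +kernel

theorem q5_inv : ∀ q : Q5, q * c5 = c5 * q → q * a5 * q⁻¹ = a5 ∨ q * a5 * q⁻¹ = a5⁻¹ := by
  decide +kernel

theorem q5_cent : ∀ q : Q5, q * a5 = a5 * q →
    ∃ q' : Q5, (q' = 1 ∨ q' = a5 ∨ q' = a5 * a5) ∧ (q = q' ∨ q = q' * c5) := by
  decide +kernel

theorem p35_facts : zP ^ 3 = 1 ∧ aP ^ 3 = 1 ∧ cP ^ 2 = 1 ∧ zP ≠ 1 ∧ aP ≠ 1 ∧ cP ≠ 1 ∧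
    zP * aP = aP * zP ∧ zP * cP = cP * zP ∧ aP * cP = cP * aP ∧
    rP * zP * rP⁻¹ = zP⁻¹ ∧ rP * aP * rP⁻¹ = aP ∧ rP * cP = cP * rP ∧
    sP * zP * sP⁻¹ = zP ∧ sP * aP * sP⁻¹ = aP⁻¹ ∧ sP * cP = cP * sP := by
  refine ⟨?_, ?_, ?_, ?_, ?_, ?_, ?_, ?_, ?_, ?_, ?_, ?_, ?_, ?_, ?_⟩ <;> decide +kernel

/-! ### The dihedral group of order eight as a permutation group -/

def inv4 : Perm (Fin 4) := swap 0 2 * swap 1 3

def dFun : DihedralGroup 4 → Perm (Fin 4)
  | .r i => Equiv.addRight (show Fin 4 from i)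
  | .sr i => (Equiv.addRight (show Fin 4 from i)).trans (Equiv.neg (Fin 4))

theorem dFun_mul_aux : (∀ i j : Fin 4, dFun (.r i * .r j) = dFun (.r i) * dFun (.r j)) ∧
    (∀ i j : Fin 4, dFun (.r i * .sr j) = dFun (.r i) * dFun (.sr j)) ∧
    (∀ i j : Fin 4, dFun (.sr i * .r j) = dFun (.sr i) * dFun (.r j)) ∧
    (∀ i j : Fin 4, dFun (.sr i * .sr j) = dFun (.sr i) * dFun (.sr j)) := by
  decide +kernel

theorem dFun_one : dFun 1 = 1 := by decide +kernel

def dHom : DihedralGroup 4 →* Perm (Fin 4) where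
  toFun := dFun
  map_one' := dFun_one
  map_mul' := by
    rintro (i | i) (j | j)
    · exact dFun_mul_aux.1 i j
    · exact dFun_mul_aux.2.1 i j
    · exact dFun_mul_aux.2.2.1 i j
    · exact dFun_mul_aux.2.2.2 i j

theorem dFun_inj_aux : (∀ i : Fin 4, dFun (.r i) = 1 → i = 0) ∧
    ∀ i : Fin 4, dFun (.sr i) ≠ 1 := by
  decide +kernel

theorem dHom_inj : Function.Injective dHom := by
  rw [injective_iff_map_eq_one]
  rintro (i | i) h
  · rw [dFun_inj_aux.1 i h]; rfl
  · exact absurd h (dFun_inj_aux.2 i)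

theorem dFun_cover : ∀ σ : Perm (Fin 4), σ * inv4 = inv4 * σ →
    (∃ i : Fin 4, dFun (.r i) = σ) ∨ ∃ i : Fin 4, dFun (.sr i) = σ := by
  decide +kernel

theorem mem_dHom_range {σ : Perm (Fin 4)} (h : σ * inv4 = inv4 * σ) : σ ∈ dHom.range := by
  rcases dFun_cover σ h with ⟨i, hi⟩ | ⟨i, hi⟩
  · exact ⟨.r i, hi⟩
  · exact ⟨.sr i, hi⟩

/-- The permutations induced by `r` and by the element exchanging the two systems. -/
def rho : Perm (Fin 4) := swap 0 2
def gam : Perm (Fin 4) := swap 0 1 * swap 2 3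

theorem generated : ∀ σ : Perm (Fin 4), σ * inv4 = inv4 * σ →
    σ = 1 ∨ σ = rho ∨ σ = gam ∨ σ = rho * gam ∨ σ = gam * rho ∨ σ = gam * rho * gam ∨
      σ = rho * gam * rho ∨ σ = rho * gam * rho * gam := by
  decide +kernel

/-! ### The data -/

variable {G : Type u} [Group G] (d : Data G)

def z : G := d.φ zP
def a : G := d.φ aP
def c : G := d.φ cP

def D : Subgroup G := closure ({z d, a d} : Set G)

theorem D_eq : D d = ((zpowers z3).prod (zpowers a5)).map d.φ := by
  apply le_antisymm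
  · rw [D, closure_le]
    rintro x (rfl | rfl)
    · exact ⟨zP, mem_prod.2 ⟨mem_zpowers z3, one_mem _⟩, rfl⟩
    · exact ⟨aP, mem_prod.2 ⟨one_mem _, mem_zpowers a5⟩, rfl⟩
  · rw [map_le_iff_le_comap]
    rintro ⟨p, q⟩ h
    obtain ⟨⟨i, hi⟩, ⟨j, hj⟩⟩ := mem_prod.1 h
    simp only at hi hj
    have : ((p, q) : P35) = zP ^ i * aP ^ j := by
      rw [show zP = ((z3, 1) : P35) from rfl, show aP = ((1, a5) : P35) from rfl]
      simp [hi, hj]
    rw [mem_comap, this, map_mul, map_zpow, map_zpow]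
    have h1 : z d ∈ D d := Subgroup.subset_closure (Or.inl rfl)
    have h2 : a d ∈ D d := Subgroup.subset_closure (Or.inr rfl)
    exact mul_mem (zpow_mem h1 i) (zpow_mem h2 j)

theorem z3_order : orderOf z3 = 3 := orderOf_eq_prime (by decide +kernel) (by decide +kernel)

theorem a5_order : orderOf a5 = 3 := orderOf_eq_prime (by decide +kernel) (by decide +kernel)

theorem card_D : Nat.card (D d) = 9 := by
  rw [D_eq, card_map_of_injective d.φ_inj, Nat.card_congr (prodEquiv _ _).toEquiv, Nat.card_prod,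
    Nat.card_zpowers, Nat.card_zpowers, z3_order, a5_order]

theorem mem_three {H : Type*} [Group H] {w x : H} (hw : orderOf w = 3) (h : x ∈ zpowers w) :
    x = 1 ∨ x = w ∨ x = w⁻¹ := by
  obtain ⟨i, rfl⟩ := h
  show w ^ i = 1 ∨ w ^ i = w ∨ w ^ i = w⁻¹
  rw [← zpow_mod_orderOf, hw]
  have h1 := Int.emod_nonneg i (by norm_num : ((3 : ℕ) : ℤ) ≠ 0)
  have h2 := Int.emod_lt_of_pos i (by norm_num : (0 : ℤ) < ((3 : ℕ) : ℤ))
  rcases (show i % ((3 : ℕ) : ℤ) = 0 ∨ i % ((3 : ℕ) : ℤ) = 1 ∨ i % ((3 : ℕ) : ℤ) = 2 by omega) with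
    h | h | h <;> rw [h]
  · exact Or.inl (zpow_zero w)
  · exact Or.inr (Or.inl (zpow_one w))
  · refine Or.inr (Or.inr (eq_inv_of_mul_eq_one_left ?_))
    rw [show (2 : ℤ) = ((2 : ℕ) : ℤ) from rfl, zpow_natCast, ← pow_succ]
    exact orderOf_dvd_iff_pow_eq_one.1 (by rw [hw])

theorem mem_D {x : G} (hx : x ∈ D d) :
    ∃ i j, (i = 1 ∨ i = z d ∨ i = (z d)⁻¹) ∧ (j = 1 ∨ j = a d ∨ j = (a d)⁻¹) ∧ x = i * j := by
  rw [D_eq] at hx
  obtain ⟨⟨p, q⟩, hpq, rfl⟩ := hx
  obtain ⟨hp, hq⟩ := mem_prod.1 hpq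
  refine ⟨d.φ (p, 1), d.φ (1, q), ?_, ?_, by rw [← map_mul]; simp⟩
  · rcases mem_three z3_order hp with h | h | h <;> simp only at h <;> subst h
    · exact Or.inl (map_one d.φ)
    · exact Or.inr (Or.inl rfl)
    · refine Or.inr (Or.inr ?_); rw [z, ← map_inv]; congr 1
  · rcases mem_three a5_order hq with h | h | h <;> simp only at h <;> subst h
    · exact Or.inl (map_one d.φ)
    · exact Or.inr (Or.inl rfl)
    · refine Or.inr (Or.inr ?_); rw [a, ← map_inv]; congr 1

theorem z_mem : z d ∈ D d := Subgroup.subset_closure (Or.inl rfl)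
theorem a_mem : a d ∈ D d := Subgroup.subset_closure (Or.inr rfl)

theorem basic : (z d) ^ 3 = 1 ∧ (a d) ^ 3 = 1 ∧ (c d) ^ 2 = 1 ∧ c d ≠ 1 ∧ z d ≠ 1 ∧ a d ≠ 1 ∧
    z d * a d = a d * z d ∧ z d * c d = c d * z d ∧ a d * c d = c d * a d := by
  obtain ⟨h1, h2, h3, h4, h5, h6, h7, h8, h9, -⟩ := p35_facts
  refine ⟨?_, ?_, ?_, (map_ne_one_iff d.φ d.φ_inj).2 h6, (map_ne_one_iff d.φ d.φ_inj).2 h4,
    (map_ne_one_iff d.φ d.φ_inj).2 h5, ?_, ?_, ?_⟩ <;>
    simp only [z, a, c, ← map_pow, ← map_mul, h1, h2, h3, h7, h8, h9, map_one]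

theorem cube_D {x : G} (hx : x ∈ D d) : x ^ 3 = 1 := by
  rw [D_eq] at hx
  obtain ⟨⟨p, q⟩, hpq, rfl⟩ := hx
  obtain ⟨hp, hq⟩ := mem_prod.1 hpq
  have e1 : p ^ 3 = 1 := orderOf_dvd_iff_pow_eq_one.1 ((orderOf_dvd_of_mem_zpowers hp).trans (dvd_of_eq z3_order))
  have e2 : q ^ 3 = 1 := orderOf_dvd_iff_pow_eq_one.1 ((orderOf_dvd_of_mem_zpowers hq).trans (dvd_of_eq a5_order))
  rw [← map_pow, Prod.pow_mk, e1, e2]
  exact map_one d.φ

theorem D_comm_c {x : G} (hx : x ∈ D d) : x * c d = c d * x := by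
  obtain ⟨-, -, -, -, -, -, -, hz, ha⟩ := basic d
  have hle : D d ≤ centralizer ({c d} : Set G) := by
    rw [D, closure_le]
    rintro y (rfl | rfl)
    · exact mem_centralizer_singleton_iff.2 hz
    · exact mem_centralizer_singleton_iff.2 ha
  exact mem_centralizer_singleton_iff.1 (hle hx)

variable [Finite G]

theorem mem_norm {h : G} (hz : h * z d * h⁻¹ ∈ D d) (ha : h * a d * h⁻¹ ∈ D d) :
    h ∈ normalizer (D d : Set G) := by
  have hle : (D d).map (MulAut.conj h).toMonoidHom ≤ D d := by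
    rw [map_le_iff_le_comap, D, closure_le]
    rintro y (rfl | rfl)
    · exact hz
    · exact ha
  have heq := eq_of_le_of_card_ge hle
    (card_map_of_injective (MulAut.conj h).injective).ge
  refine Subgroup.mem_normalizer_iff.2 fun x => ⟨fun hx => hle ⟨x, hx, rfl⟩, fun hx => ?_⟩
  have hx' := heq.ge hx
  obtain ⟨w, hw, hwx⟩ := hx'
  rwa [(MulAut.conj h).injective hwx] at hw

theorem conj_D {h x : G} (hh : h ∈ normalizer (D d : Set G)) (hx : x ∈ D d) :
    h * x * h⁻¹ ∈ D d :=
  (Subgroup.mem_normalizer_iff.1 hh x).1 hx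

theorem cent_z {h : G} (hh : h * z d = z d * h) : ∃ p q, p * z3 = z3 * p ∧ h = d.φ (p, q) := by
  have hmem : h ∈ normalizer (zpowers (d.φ zP) : Set G) := by
    have hle : centralizer (zpowers (d.φ zP) : Set G) ≤ normalizer (zpowers (d.φ zP) : Set G) :=
      centralizer_le_normalizer _
    refine hle (mem_centralizer_iff.2 ?_)
    rintro _ ⟨i, rfl⟩
    exact ((show Commute h (d.φ zP) from hh).zpow_right i).symm.eq
  rw [← d.φ_range] at hmem
  obtain ⟨⟨p, q⟩, rfl⟩ := hmem
  refine ⟨p, q, ?_, rfl⟩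
  rw [z, ← map_mul, ← map_mul] at hh
  exact congrArg Prod.fst (d.φ_inj hh)

theorem g_norm : d.g ∈ normalizer (D d : Set G) :=
  mem_norm d (by rw [show d.g * z d * d.g⁻¹ = a d from d.g_z]; exact a_mem d)
    (by rw [show d.g * a d * d.g⁻¹ = z d from d.g_a]; exact z_mem d)

theorem g_c' : d.g * c d = c d * d.g := mul_inv_eq_iff_eq_mul.1 d.g_c

theorem rs_facts : ∀ p ∈ ({rP, sP} : Set P35),
    d.φ p ∈ normalizer (D d : Set G) ∧ d.φ p * c d = c d * d.φ p := by
  obtain ⟨-, -, -, -, -, -, -, -, -, r1, r2, r3, s1, s2, s3⟩ := p35_facts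
  rintro p (rfl | rfl)
  · refine ⟨mem_norm d ?_ ?_, by rw [c, ← map_mul, ← map_mul, r3]⟩
    · rw [z, ← map_inv, ← map_mul, ← map_mul, r1, map_inv]; exact inv_mem (z_mem d)
    · rw [a, ← map_inv, ← map_mul, ← map_mul, r2]; exact a_mem d
  · refine ⟨mem_norm d ?_ ?_, by rw [c, ← map_mul, ← map_mul, s3]⟩
    · rw [z, ← map_inv, ← map_mul, ← map_mul, s1]; exact z_mem d
    · rw [a, ← map_inv, ← map_mul, ← map_mul, s2, map_inv]; exact inv_mem (a_mem d)

/-- The centralisers in `C(c)` of the non-trivial elements of `D` normalise `D`. -/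
theorem cent_le {x h : G} (hx : x ∈ D d) (hx1 : x ≠ 1) (hc : h * c d = c d * h)
    (hh : h * x = x * h) : h ∈ normalizer (D d : Set G) := by
  obtain ⟨hz3, ha3, -, -, -, -, hza, -, -⟩ := basic d
  have onz : ∀ k : G, k * c d = c d * k → k * z d = z d * k →
      k ∈ normalizer (D d : Set G) := by
    intro k hkc hkz
    obtain ⟨p, q, -, rfl⟩ := cent_z d hkz
    refine mem_norm d (by rw [hkz, mul_inv_cancel_right]; exact z_mem d) ?_
    have hq : q * c5 = c5 * q := by
      rw [c, ← map_mul, ← map_mul] at hkc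
      exact congrArg Prod.snd (d.φ_inj hkc)
    rw [a, ← map_inv, ← map_mul, ← map_mul,
      show ((p, q) : P35) * aP * (p, q)⁻¹ = (1, q * a5 * q⁻¹) by simp [aP, a5]]
    rcases q5_inv q hq with e | e <;> rw [e]
    · exact a_mem d
    · rw [show ((1, a5⁻¹) : P35) = aP⁻¹ by simp [aP, a5], map_inv]; exact inv_mem (a_mem d)
  have ona : ∀ k : G, k * c d = c d * k → k * a d = a d * k →
      k ∈ normalizer (D d : Set G) := by
    intro k hkc hka
    have hk : d.g⁻¹ * k * d.g ∈ normalizer (D d : Set G) := by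
      have hg : Commute d.g (c d) := g_c' d
      refine onz _ ((hg.inv_left.mul_left hkc).mul_left hg) ?_
      have e : d.g * z d = a d * d.g := mul_inv_eq_iff_eq_mul.1 d.g_z
      have e' : d.g⁻¹ * a d = z d * d.g⁻¹ := by
        rw [inv_mul_eq_iff_eq_mul, ← mul_assoc, e, mul_inv_cancel_right]
      calc d.g⁻¹ * k * d.g * z d = d.g⁻¹ * (k * a d) * d.g := by simp only [mul_assoc, e]
        _ = d.g⁻¹ * a d * (k * d.g) := by rw [hka]; simp only [mul_assoc]
        _ = z d * (d.g⁻¹ * k * d.g) := by rw [e']; simp only [mul_assoc]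
    have hkk := mul_mem (mul_mem (g_norm d) hk) (inv_mem (g_norm d))
    rwa [show d.g * (d.g⁻¹ * k * d.g) * d.g⁻¹ = k by group] at hkk
  have ony : ∀ k : G, k * (z d * a d) = z d * a d * k → k ∈ normalizer (D d : Set G) := by
    intro k hk
    have key : ∀ e : G, e ∈ D d → k * e * k⁻¹ ∈ D d := by
      intro e he
      have hee : e * (z d * a d) = z d * a d * e := by
        obtain ⟨i, j, hi, hj, rfl⟩ := mem_D d he
        have cz : Commute i (z d * a d) := by
          rcases hi with rfl | rfl | rfl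
          · exact Commute.one_left _
          · exact (Commute.refl _).mul_right hza
          · exact ((Commute.refl (z d)).mul_right hza).inv_left
        have ca : Commute j (z d * a d) := by
          rcases hj with rfl | rfl | rfl
          · exact Commute.one_left _
          · exact (show Commute (a d) (z d) from hza.symm).mul_right (Commute.refl _)
          · exact ((show Commute (a d) (z d) from hza.symm).mul_right (Commute.refl _)).inv_left
        exact (cz.mul_left ca).eq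
      have hmem : k * (e * e) * k⁻¹ ∈ centralizer ({z d * a d} : Set G) :=
        mul_mem (mul_mem (mem_centralizer_singleton_iff.2 hk)
          (mul_mem (mem_centralizer_singleton_iff.2 hee) (mem_centralizer_singleton_iff.2 hee)))
          (inv_mem (mem_centralizer_singleton_iff.2 hk))
      have h2 := d.sq_cent _ hmem
      have e4 : (k * (e * e) * k⁻¹) ^ 2 = k * e * k⁻¹ := by
        rw [conj_pow]
        have : (e * e) ^ 2 = e ^ 3 * e := by simp only [pow_succ, pow_zero, one_mul, mul_assoc]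
        rw [this, cube_D d he, one_mul]
      rwa [e4] at h2
    exact mem_norm d (key _ (z_mem d)) (key _ (a_mem d))
  have ony' : ∀ k : G, k * (z d * (a d)⁻¹) = z d * (a d)⁻¹ * k →
      k ∈ normalizer (D d : Set G) := by
    intro k hk
    obtain ⟨hs, -⟩ := rs_facts d sP (Or.inr rfl)
    set s := d.φ sP
    obtain ⟨-, -, -, -, -, -, -, -, -, -, -, -, s1, s2, -⟩ := p35_facts
    have e1 : s * z d * s⁻¹ = z d := by rw [z, ← map_inv, ← map_mul, ← map_mul, s1]
    have e2 : s * a d * s⁻¹ = (a d)⁻¹ := by rw [a, ← map_inv, ← map_mul, ← map_mul, s2, map_inv]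
    have e3 : z d * (a d)⁻¹ = s * (z d * a d) * s⁻¹ := by
      conv_lhs => rw [← e2, ← e1]
      group
    have hk2 : s⁻¹ * k * s ∈ normalizer (D d : Set G) := by
      apply ony
      rw [e3] at hk
      calc s⁻¹ * k * s * (z d * a d) = s⁻¹ * (k * (s * (z d * a d) * s⁻¹)) * s := by group
        _ = s⁻¹ * (s * (z d * a d) * s⁻¹ * k) * s := by rw [hk]
        _ = z d * a d * (s⁻¹ * k * s) := by group
    have hkk := mul_mem (mul_mem hs hk2) (inv_mem hs)
    rwa [show s * (s⁻¹ * k * s) * s⁻¹ = k by group] at hkk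
  have invs : ∀ {k y : G}, k * y⁻¹ = y⁻¹ * k → k * y = y * k := fun {k y} e =>
    by simpa using ((show Commute k y⁻¹ from e).inv_right).eq
  obtain ⟨i, j, hi, hj, rfl⟩ := mem_D d hx
  rcases hi with rfl | rfl | rfl <;> rcases hj with rfl | rfl | rfl
  · exact absurd (one_mul 1) hx1
  · exact ona h hc (by simpa using hh)
  · exact ona h hc (invs (by simpa using hh))
  · exact onz h hc (by simpa using hh)
  · exact ony h hh
  · exact ony' h hh
  · exact onz h hc (invs (by simpa using hh))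
  · refine ony' h (invs ?_)
    rwa [mul_inv_rev, inv_inv, ((show Commute (z d) (a d) from hza).inv_left).symm.eq]
  · refine ony h (invs ?_)
    rwa [mul_inv_rev, ((show Commute (z d) (a d) from hza).inv_inv).symm.eq]

theorem cent_D {h : G} (hz : h * z d = z d * h) (ha : h * a d = a d * h) :
    ∃ e ∈ D d, h = e ∨ h = e * c d := by
  obtain ⟨p, q, hp, rfl⟩ := cent_z d hz
  have hq : q * a5 = a5 * q := by
    rw [a, ← map_mul, ← map_mul] at ha
    exact congrArg Prod.snd (d.φ_inj ha)
  obtain ⟨q', hq', hqq⟩ := q5_cent q hq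
  refine ⟨d.φ (p, q'), ?_, ?_⟩
  · rw [D_eq]
    refine ⟨(p, q'), mem_prod.2 ⟨?_, ?_⟩, rfl⟩
    · rcases q3_facts p hp with rfl | rfl | rfl
      · exact one_mem _
      · exact mem_zpowers _
      · exact mul_mem (mem_zpowers _) (mem_zpowers _)
    · rcases hq' with rfl | rfl | rfl
      · exact one_mem _
      · exact mem_zpowers _
      · exact mul_mem (mem_zpowers _) (mem_zpowers _)
  · rcases hqq with rfl | rfl
    · exact Or.inl rfl
    · refine Or.inr ?_
      rw [c, ← map_mul]
      simp [cP, c5]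

theorem eq_of_cube {u v : G} (hu : u ∈ D d) (hv : v ^ 3 = 1) (h : v = u ∨ v = u * c d) : v = u := by
  rcases h with h | h
  · exact h
  · exfalso
    obtain ⟨-, -, h2, h1, -⟩ := basic d
    rw [h, (show Commute u (c d) from D_comm_c d hu).mul_pow, cube_D d hu, one_mul, pow_succ, h2,
      one_mul] at hv
    exact h1 hv

theorem norm_c {n : G} (hn : n ∈ normalizer (D d : Set G)) : n * c d = c d * n := by
  obtain ⟨-, -, h2, h1, -⟩ := basic d
  have key : ∀ x ∈ D d, n * c d * n⁻¹ * x = x * (n * c d * n⁻¹) := by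
    intro x hx
    have hx' : n⁻¹ * x * n ∈ D d := by simpa using conj_D d (inv_mem hn) hx
    calc n * c d * n⁻¹ * x = n * (c d * (n⁻¹ * x * n)) * n⁻¹ := by group
      _ = n * (n⁻¹ * x * n * c d) * n⁻¹ := by rw [D_comm_c d hx']
      _ = x * (n * c d * n⁻¹) := by group
  obtain ⟨e, he, hh⟩ := cent_D d (key _ (z_mem d)) (key _ (a_mem d))
  have hsq : (n * c d * n⁻¹) ^ 2 = 1 := by rw [conj_pow, h2, mul_one, mul_inv_cancel]
  have he2 : e ^ 2 = 1 := by
    rcases hh with hh | hh <;> rw [hh] at hsq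
    · exact hsq
    · rwa [(show Commute e (c d) from D_comm_c d he).mul_pow, h2, mul_one] at hsq
  have he1 : e = 1 := by
    have h3 := cube_D d he
    rwa [pow_succ, he2, one_mul] at h3
  rcases hh with hh | hh <;> rw [he1] at hh
  · exact absurd (conj_eq_one_iff.1 hh) h1
  · rw [one_mul] at hh
    exact mul_inv_eq_iff_eq_mul.1 hh

/-! ### The action of the normaliser of `D` on the four special generators -/

def e4 : Fin 4 → G := ![z d, a d, (z d)⁻¹, (a d)⁻¹]

theorem e4_inj : Function.Injective (e4 d) := by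
  have key : Function.Injective ![zP, aP, zP⁻¹, aP⁻¹] := by
    intro i j; revert i j; decide +kernel
  intro i j h
  refine key (d.φ_inj ?_)
  have he : ∀ k, e4 d k = d.φ (![zP, aP, zP⁻¹, aP⁻¹] k) := by
    intro k; fin_cases k <;> simp [e4, z, a]
  rw [← he, ← he, h]

theorem big_ne {n x : G} (hn : n * z d * n⁻¹ = x) :
    Nat.card (centralizer ({x} : Set G)) ≠ 36 := by
  intro h36
  have hle : Nat.card Q5 ≤ Nat.card (centralizer ({x} : Set G)) := by
    refine Nat.card_le_card_of_injective (fun q : Q5 => (⟨n * d.φ (1, q) * n⁻¹, ?_⟩ :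
      centralizer ({x} : Set G))) ?_
    · rw [mem_centralizer_singleton_iff, ← hn]
      have : d.φ (1, q) * z d = z d * d.φ (1, q) := by
        rw [z, ← map_mul, ← map_mul]; simp [zP]
      calc n * d.φ (1, q) * n⁻¹ * (n * z d * n⁻¹) = n * (d.φ (1, q) * z d) * n⁻¹ := by group
        _ = n * z d * n⁻¹ * (n * d.φ (1, q) * n⁻¹) := by rw [this]; group
    · intro p q hpq
      have := congrArg Subtype.val hpq
      simp only [mul_left_inj, mul_right_inj] at this
      exact congrArg Prod.snd (d.φ_inj this)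
  rw [h36, Nat.card_perm, Nat.card_fin] at hle
  norm_num [Nat.factorial] at hle

theorem card_conj (n x : G) : Nat.card (centralizer ({n * x * n⁻¹} : Set G)) =
    Nat.card (centralizer ({x} : Set G)) := by
  have : centralizer ({n * x * n⁻¹} : Set G) =
      (centralizer ({x} : Set G)).map (MulAut.conj n).toMonoidHom := by
    ext y
    simp only [mem_map, mem_centralizer_singleton_iff]
    constructor
    · intro hy
      refine ⟨n⁻¹ * y * n, ?_, by simp [mul_assoc]⟩
      calc n⁻¹ * y * n * x = n⁻¹ * (y * (n * x * n⁻¹)) * n := by group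
        _ = x * (n⁻¹ * y * n) := by rw [hy]; group
    · rintro ⟨w, hw, rfl⟩
      simp only [MulEquiv.coe_toMonoidHom, MulAut.conj_apply]
      calc n * w * n⁻¹ * (n * x * n⁻¹) = n * (w * x) * n⁻¹ := by group
        _ = n * x * n⁻¹ * (n * w * n⁻¹) := by rw [hw]; group
  rw [this, card_map_of_injective (MulAut.conj n).injective]

theorem conj_z_mem {n : G} (hn : n ∈ normalizer (D d : Set G)) :
    n * z d * n⁻¹ ∈ Set.range (e4 d) := by
  obtain ⟨-, -, -, -, hz1, -, hza, -, -⟩ := basic d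
  have hinv : ∀ w : G, centralizer ({w⁻¹} : Set G) = centralizer ({w} : Set G) := by
    intro w
    ext y
    simp only [mem_centralizer_singleton_iff]
    exact Commute.inv_right_iff
  have hy' : Nat.card (centralizer ({z d * (a d)⁻¹} : Set G)) = 36 := by
    obtain ⟨-, -, -, -, -, -, -, -, -, -, -, -, s1, s2, -⟩ := p35_facts
    have : z d * (a d)⁻¹ = d.φ sP * (z d * a d) * (d.φ sP)⁻¹ := by
      simp only [z, a, ← map_inv, ← map_mul]
      congr 1
      conv_lhs => rw [← s2, ← s1]
      group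
    rw [this, card_conj]
    exact d.card_cent
  have hbig := big_ne d (n := n) (x := n * z d * n⁻¹) rfl
  obtain ⟨i, j, hi, hj, hij⟩ := mem_D d (conj_D d hn (z_mem d))
  rw [hij] at hbig ⊢
  rcases hi with rfl | rfl | rfl <;> rcases hj with rfl | rfl | rfl
  · exact absurd (conj_eq_one_iff.1 (hij.trans (one_mul 1))) hz1
  · exact ⟨1, by simp [e4]⟩
  · exact ⟨3, by simp [e4]⟩
  · exact ⟨0, by simp [e4]⟩
  · exact absurd d.card_cent hbig
  · exact absurd hy' hbig
  · exact ⟨2, by simp [e4]⟩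
  · refine absurd ?_ hbig
    rw [show (z d)⁻¹ * a d = (z d * (a d)⁻¹)⁻¹ by
      rw [mul_inv_rev, inv_inv]; exact ((show Commute (z d) (a d) from hza).inv_left).eq,
      hinv]
    exact hy'
  · refine absurd ?_ hbig
    rw [show (z d)⁻¹ * (a d)⁻¹ = (z d * a d)⁻¹ by
      rw [mul_inv_rev]; exact ((show Commute (z d) (a d) from hza).inv_inv).eq, hinv]
    exact d.card_cent

theorem conj_e4_mem {n : G} (hn : n ∈ normalizer (D d : Set G)) (i : Fin 4) :
    n * e4 d i * n⁻¹ ∈ Set.range (e4 d) := by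
  have hinv : ∀ w, w ∈ Set.range (e4 d) → w⁻¹ ∈ Set.range (e4 d) := by
    rintro _ ⟨k, rfl⟩
    refine ⟨inv4 k, ?_⟩
    fin_cases k <;> simp [e4, inv4, Equiv.swap_apply_def]
  have ha : n * a d * n⁻¹ ∈ Set.range (e4 d) := by
    have h2 := conj_z_mem d (mul_mem hn (g_norm d))
    rwa [show n * d.g * z d * (n * d.g)⁻¹ = n * (d.g * z d * d.g⁻¹) * n⁻¹ by group,
      show d.g * z d * d.g⁻¹ = a d from d.g_z] at h2
  fin_cases i
  · simpa [e4] using conj_z_mem d hn
  · simpa [e4] using ha
  · simpa [e4, mul_assoc] using hinv _ (conj_z_mem d hn)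
  · simpa [e4, mul_assoc] using hinv _ ha

noncomputable def sigFun (n : normalizer (D d : Set G)) (i : Fin 4) : Fin 4 :=
  (conj_e4_mem d n.2 i).choose

theorem sigFun_spec (n : normalizer (D d : Set G)) (i : Fin 4) :
    e4 d (sigFun d n i) = (n : G) * e4 d i * (n : G)⁻¹ :=
  (conj_e4_mem d n.2 i).choose_spec

noncomputable def sig : normalizer (D d : Set G) →* Perm (Fin 4) where
  toFun n := Equiv.ofBijective (sigFun d n) (Finite.injective_iff_bijective.1 fun i j h => by
    have h' := congrArg (e4 d) h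
    rw [sigFun_spec, sigFun_spec] at h'
    exact e4_inj d (mul_left_cancel (mul_right_cancel h')))
  map_one' := by
    ext i : 1
    apply e4_inj d
    simp [sigFun_spec]
  map_mul' m n := by
    ext i : 1
    apply e4_inj d
    simp only [Equiv.ofBijective_apply, Perm.mul_apply, sigFun_spec, coe_mul]
    group

theorem sig_spec (n : normalizer (D d : Set G)) (i : Fin 4) :
    e4 d (sig d n i) = (n : G) * e4 d i * (n : G)⁻¹ := sigFun_spec d n i

theorem sig_mem (n : normalizer (D d : Set G)) : sig d n ∈ dHom.range := by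
  refine mem_dHom_range (Equiv.ext fun i => e4_inj d ?_)
  have he : ∀ k, e4 d (inv4 k) = (e4 d k)⁻¹ := by
    intro k; fin_cases k <;> simp [e4, inv4, Equiv.swap_apply_def]
  rw [Perm.mul_apply, Perm.mul_apply, sig_spec, he, he, sig_spec]
  group

noncomputable def pi : normalizer (D d : Set G) →* DihedralGroup 4 :=
  (MonoidHom.ofInjective dHom_inj).symm.toMonoidHom.comp ((sig d).codRestrict dHom.range (sig_mem d))

theorem dHom_pi (n : normalizer (D d : Set G)) : dHom (pi d n) = sig d n := by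
  show dHom ((MonoidHom.ofInjective dHom_inj).symm ⟨sig d n, sig_mem d n⟩) = _
  exact MonoidHom.apply_ofInjective_symm dHom_inj _

theorem pi_surj : Function.Surjective (pi d) := by
  intro w
  suffices h : dHom w ∈ (sig d).range by
    obtain ⟨n, hn⟩ := h
    exact ⟨n, dHom_inj ((dHom_pi d n).trans hn)⟩
  obtain ⟨-, -, -, -, -, -, -, -, -, r1, r2, -⟩ := p35_facts
  have hr : rho ∈ (sig d).range := by
    refine ⟨⟨d.φ rP, (rs_facts d rP (Or.inl rfl)).1⟩, Equiv.ext fun i => e4_inj d ?_⟩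
    have e1 : d.φ rP * z d * (d.φ rP)⁻¹ = (z d)⁻¹ := by
      simp only [z, ← map_inv, ← map_mul, r1]
    have e2 : d.φ rP * a d * (d.φ rP)⁻¹ = a d := by
      simp only [a, ← map_inv, ← map_mul, r2]
    rw [sig_spec]
    fin_cases i <;>
      simp [e4, rho, Equiv.swap_apply_def, e1, e2, ← conj_inv]
  have hg : gam ∈ (sig d).range := by
    refine ⟨⟨d.g, g_norm d⟩, Equiv.ext fun i => e4_inj d ?_⟩
    rw [sig_spec]
    fin_cases i <;>
      simp [e4, gam, Equiv.swap_apply_def, ← conj_inv,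
        show d.g * z d * d.g⁻¹ = a d from d.g_z, show d.g * a d * d.g⁻¹ = z d from d.g_a]
  have hc : dHom w * inv4 = inv4 * dHom w := by
    have : ∀ v : DihedralGroup 4, dFun v * inv4 = inv4 * dFun v := by
      have h1 : (∀ i : Fin 4, dFun (.r i) * inv4 = inv4 * dFun (.r i)) ∧
          ∀ i : Fin 4, dFun (.sr i) * inv4 = inv4 * dFun (.sr i) := by decide +kernel
      rintro (i | i)
      · exact h1.1 i
      · exact h1.2 i
    exact this w
  rcases generated _ hc with h | h | h | h | h | h | h | h <;> rw [h] <;>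
    first | exact one_mem _ | exact hr | exact hg | exact mul_mem hr hg | exact mul_mem hg hr
          | exact mul_mem (mul_mem hg hr) hg | exact mul_mem (mul_mem hr hg) hr
          | exact mul_mem (mul_mem (mul_mem hr hg) hr) hg

theorem pi_eq_one (n : normalizer (D d : Set G)) :
    pi d n = 1 ↔ ∃ e ∈ D d, (n : G) = e ∨ (n : G) = e * c d := by
  obtain ⟨-, -, -, -, -, -, hza, hzc, hac⟩ := basic d
  rw [← map_eq_one_iff dHom dHom_inj, dHom_pi]
  constructor
  · intro h
    have key : ∀ i, (n : G) * e4 d i = e4 d i * (n : G) := by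
      intro i
      have h' := sig_spec d n i
      rw [h, Perm.one_apply] at h'
      exact mul_inv_eq_iff_eq_mul.1 h'.symm
    exact cent_D d (by simpa [e4] using key 0) (by simpa [e4] using key 1)
  · rintro ⟨e, he, h⟩
    obtain ⟨i, j, hi, hj, rfl⟩ := mem_D d he
    have cz : Commute (i * j) (z d) := by
      have c1 : Commute i (z d) := by
        rcases hi with rfl | rfl | rfl
        · exact Commute.one_left _
        · exact Commute.refl _
        · exact (Commute.refl (z d)).inv_left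
      have c2 : Commute j (z d) := by
        rcases hj with rfl | rfl | rfl
        · exact Commute.one_left _
        · exact hza.symm
        · exact (show Commute (a d) (z d) from hza.symm).inv_left
      exact c1.mul_left c2
    have ca : Commute (i * j) (a d) := by
      have c1 : Commute i (a d) := by
        rcases hi with rfl | rfl | rfl
        · exact Commute.one_left _
        · exact hza
        · exact (show Commute (z d) (a d) from hza).inv_left
      have c2 : Commute j (a d) := by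
        rcases hj with rfl | rfl | rfl
        · exact Commute.one_left _
        · exact Commute.refl _
        · exact (Commute.refl (a d)).inv_left
      exact c1.mul_left c2
    have hnz : Commute (n : G) (z d) := by
      rcases h with h | h <;> rw [h]
      · exact cz
      · exact cz.mul_left (show Commute (c d) (z d) from hzc.symm)
    have hna : Commute (n : G) (a d) := by
      rcases h with h | h <;> rw [h]
      · exact ca
      · exact ca.mul_left (show Commute (c d) (a d) from hac.symm)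
    refine Equiv.ext fun k => e4_inj d ?_
    rw [sig_spec, Perm.one_apply]
    fin_cases k <;>
      simp [e4, hnz.mul_inv_cancel, hna.mul_inv_cancel, hnz.inv_right.mul_inv_cancel,
        hna.inv_right.mul_inv_cancel]

/-! ### The quotient -/

abbrev H : Subgroup G := centralizer ({c d} : Set G)

def cH : H d := ⟨c d, mem_centralizer_singleton_iff.2 rfl⟩

instance : (zpowers (cH d)).Normal := by
  refine ⟨fun x hx h => ?_⟩
  obtain ⟨k, rfl⟩ := hx
  have hc : Commute h (cH d) :=
    Subtype.ext (mem_centralizer_singleton_iff.1 h.2)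
  rw [(hc.zpow_right k).eq, mul_inv_cancel_right]
  exact zpow_mem (mem_zpowers _) k

abbrev X := H d ⧸ zpowers (cH d)

theorem mem_zc (x : H d) : x ∈ zpowers (cH d) ↔ (x : G) = 1 ∨ (x : G) = c d := by
  obtain ⟨-, -, h2, -⟩ := basic d
  constructor
  · rintro ⟨i, rfl⟩
    rcases Int.even_or_odd' i with ⟨k, rfl | rfl⟩
    · left; simp [cH, zpow_mul, h2, zpow_ofNat]
    · right; simp [cH, zpow_add, zpow_mul, h2, zpow_ofNat]
  · rintro (h | h)
    · rw [show x = 1 from Subtype.ext h]; exact one_mem _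
    · rw [show x = cH d from Subtype.ext h]; exact mem_zpowers _

def Db : Subgroup (X d) := ((D d).subgroupOf (H d)).map (QuotientGroup.mk' _)

theorem D_le : D d ≤ H d := fun _ hx => mem_centralizer_singleton_iff.2 (D_comm_c d hx)

theorem mem_Db (x : H d) : (x : X d) ∈ Db d ↔ ∃ e ∈ D d, (x : G) = e ∨ (x : G) = e * c d := by
  constructor
  · rintro ⟨w, hw, hwx⟩
    refine ⟨w, hw, ?_⟩
    rcases (mem_zc d (w⁻¹ * x)).1 (QuotientGroup.eq.1 hwx) with h | h
    · left
      simpa using (inv_mul_eq_one.1 h).symm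
    · right
      exact inv_mul_eq_iff_eq_mul.1 h
  · rintro ⟨e, he, h⟩
    refine ⟨⟨e, D_le d he⟩, he, QuotientGroup.eq.2 ((mem_zc d _).2 ?_)⟩
    rcases h with h | h
    · left; simp [h]
    · right; simp [h]

theorem card_Db : Nat.card (Db d) = 9 := by
  have hinj : Function.Injective
      ((QuotientGroup.mk' (zpowers (cH d))).comp ((D d).subgroupOf (H d)).subtype) := by
    rw [injective_iff_map_eq_one]
    rintro ⟨w, hw⟩ h
    have h' : w ∈ zpowers (cH d) := (QuotientGroup.eq_one_iff w).1 h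
    refine Subtype.ext (Subtype.ext (?_ : (w : G) = 1))
    rcases (mem_zc d w).1 h' with e | e
    · exact e
    · exact eq_of_cube d (one_mem _) (cube_D d hw) (Or.inr (by rw [e, one_mul]))
  rw [Db, ← card_D d, ← Nat.card_congr (subgroupOfEquivOfLe (D_le d)).toEquiv]
  conv_lhs => rw [← Subgroup.range_subtype ((D d).subgroupOf (H d)), MonoidHom.map_range]
  exact (Nat.card_congr (MonoidHom.ofInjective hinj).toEquiv).symm

theorem conj_mem_of_mk {h e : H d} (he : (e : G) ∈ D d)
    (hm : ((h : X d) * (e : X d) * (h : X d)⁻¹) ∈ Db d) : (h : G) * e * (h : G)⁻¹ ∈ D d := by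
  rw [← QuotientGroup.mk_mul, ← QuotientGroup.mk_inv, ← QuotientGroup.mk_mul, mem_Db] at hm
  obtain ⟨w, hw, h'⟩ := hm
  have h3 : ((h : G) * e * (h : G)⁻¹) ^ 3 = 1 := by
    rw [conj_pow, cube_D d he, mul_one, mul_inv_cancel]
  rw [eq_of_cube d hw h3 (by simpa using h')]
  exact hw

theorem mem_norm_Db (h : H d) :
    (h : X d) ∈ normalizer (Db d : Set (X d)) ↔ (h : G) ∈ normalizer (D d : Set G) := by
  constructor
  · intro hh
    refine mem_norm d ?_ ?_
    · exact conj_mem_of_mk d (e := ⟨z d, D_le d (z_mem d)⟩) (z_mem d)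
        ((Subgroup.mem_normalizer_iff.1 hh _).1 ((mem_Db d _).2 ⟨z d, z_mem d, Or.inl rfl⟩))
    · exact conj_mem_of_mk d (e := ⟨a d, D_le d (a_mem d)⟩) (a_mem d)
        ((Subgroup.mem_normalizer_iff.1 hh _).1 ((mem_Db d _).2 ⟨a d, a_mem d, Or.inl rfl⟩))
  · intro hh
    have fwd : ∀ k : H d, (k : G) ∈ normalizer (D d : Set G) → ∀ y ∈ Db d,
        (k : X d) * y * (k : X d)⁻¹ ∈ Db d := by
      rintro k hk _ ⟨w, hw, rfl⟩
      exact (mem_Db d (k * w * k⁻¹)).2 ⟨_, conj_D d hk hw, Or.inl rfl⟩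
    refine Subgroup.mem_normalizer_iff.2 fun y => ⟨fwd h hh y, fun hy => ?_⟩
    have := fwd h⁻¹ (inv_mem hh) _ hy
    simpa [mul_assoc] using this

theorem commute_of_mk {h e : H d} (he : (e : G) ∈ D d)
    (hc : (h : X d) * (e : X d) = (e : X d) * (h : X d)) : (h : G) * e = (e : G) * h := by
  have h' : ((h * e * h⁻¹ : H d) : X d) = (e : X d) := by
    rw [QuotientGroup.mk_mul, QuotientGroup.mk_mul, QuotientGroup.mk_inv, hc, mul_inv_cancel_right]
  have h3 : ((h : G) * e * (h : G)⁻¹) ^ 3 = 1 := by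
    rw [conj_pow, cube_D d he, mul_one, mul_inv_cancel]
  refine mul_inv_eq_iff_eq_mul.1 (eq_of_cube d he h3 ?_)
  rcases (mem_zc d _).1 (QuotientGroup.eq.1 h'.symm) with e1 | e1
  · left; simpa using (inv_mul_eq_one.1 e1).symm
  · right
    simpa using inv_mul_eq_iff_eq_mul.1 e1

theorem main : centralizer ({c d} : Set G) ≤ normalizer (D d : Set G) ∨
    ∃ f : centralizer ({c d} : Set G) →* Perm (Fin 6),
      Function.Surjective f ∧ ∀ x, f x = 1 ↔ (x : G) ∈ zpowers (c d) := by
  haveI : Fact (Nat.Prime 3) := ⟨Nat.prime_three⟩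
  have hp3 : IsPGroup 3 (Db d) := IsPGroup.of_card (n := 2) (by rw [card_Db]; norm_num)
  obtain ⟨P, hP⟩ := hp3.exists_le_sylow
  have hPD : Db d = P := by
    refine eq_of_le_of_card_ge hP ?_
    have hdvd : Nat.card (X d) ∣ Nat.card G :=
      (Subgroup.card_quotient_dvd_card _).trans (Subgroup.card_subgroup_dvd_card _)
    have h27 : ¬ 3 ^ 3 ∣ Nat.card (P : Subgroup (X d)) := fun h =>
      d.sylow ((h.trans (Subgroup.card_subgroup_dvd_card _)).trans hdvd)
    obtain ⟨m, hm⟩ := IsPGroup.iff_card.1 P.isPGroup'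
    rw [hm, card_Db]
    rcases le_or_gt m 2 with h | h
    · exact (Nat.pow_le_pow_right (by norm_num) h).trans (by norm_num)
    · exact absurd (hm ▸ Nat.pow_dvd_pow 3 h) h27
  have hC : centralizer (Db d : Set (X d)) = Db d := by
    apply le_antisymm
    · intro y hy
      obtain ⟨h, rfl⟩ := QuotientGroup.mk_surjective y
      rw [mem_Db]
      exact cent_D d
        (commute_of_mk d (e := ⟨z d, D_le d (z_mem d)⟩) (z_mem d)
          (mem_centralizer_iff.1 hy _ ((mem_Db d _).2 ⟨z d, z_mem d, Or.inl rfl⟩)).symm)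
        (commute_of_mk d (e := ⟨a d, D_le d (a_mem d)⟩) (a_mem d)
          (mem_centralizer_iff.1 hy _ ((mem_Db d _).2 ⟨a d, a_mem d, Or.inl rfl⟩)).symm)
    · rintro _ ⟨w, hw, rfl⟩
      refine mem_centralizer_iff.2 ?_
      rintro _ ⟨v, hv, rfl⟩
      simp only [QuotientGroup.mk'_apply]
      have hDab : ∀ x ∈ D d, ∀ y ∈ D d, x * y = y * x := by
        intro x hx y hy
        rw [D_eq] at hx hy
        obtain ⟨⟨p, q⟩, h1, rfl⟩ := hx
        obtain ⟨⟨p', q'⟩, h2, rfl⟩ := hy
        rw [← map_mul, ← map_mul]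
        congr 1
        obtain ⟨⟨i, hi⟩, ⟨j, hj⟩⟩ := mem_prod.1 h1
        obtain ⟨⟨i', hi'⟩, ⟨j', hj'⟩⟩ := mem_prod.1 h2
        simp only at hi hj hi' hj'
        subst hi hj hi' hj'
        exact Prod.ext (zpow_mul_comm _ _ _) (zpow_mul_comm _ _ _)
      rw [← QuotientGroup.mk_mul, ← QuotientGroup.mk_mul,
        show v * w = w * v from Subtype.ext (hDab _ hv _ hw)]
  let α : normalizer (D d : Set G) →* normalizer (Db d : Set (X d)) :=
    { toFun := fun n => ⟨((⟨(n : G), mem_centralizer_singleton_iff.2 (norm_c d n.2)⟩ : H d) : X d),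
        (mem_norm_Db d _).2 n.2⟩
      map_one' := rfl
      map_mul' := fun _ _ => rfl }
  have hα : Function.Surjective α := by
    rintro ⟨y, hy⟩
    obtain ⟨h, rfl⟩ := QuotientGroup.mk_surjective y
    exact ⟨⟨h, (mem_norm_Db d h).1 hy⟩, rfl⟩
  have hker : α.ker ≤ (pi d).ker := by
    intro n hn
    rw [MonoidHom.mem_ker, pi_eq_one]
    have h1 := congrArg Subtype.val (MonoidHom.mem_ker.1 hn)
    have hmem := (mem_zc d _).1 ((QuotientGroup.eq_one_iff _).1 h1)
    exact ⟨1, one_mem _, by simpa using hmem⟩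
  let q := MonoidHom.liftOfSurjective α hα ⟨pi d, hker⟩
  have hqα : ∀ n, q (α n) = pi d n := MonoidHom.liftOfRightInverse_comp_apply _ _ _ ⟨pi d, hker⟩
  have hqs : Function.Surjective q := fun w => by
    obtain ⟨n, hn⟩ := pi_surj d w
    exact ⟨α n, by rw [hqα, hn]⟩
  have hqker : q.ker = (Db d).subgroupOf (normalizer (Db d : Set (X d))) := by
    ext y
    obtain ⟨n, rfl⟩ := hα y
    rw [MonoidHom.mem_ker, hqα, pi_eq_one, mem_subgroupOf]
    exact (mem_Db d ⟨(n : G), mem_centralizer_singleton_iff.2 (norm_c d n.2)⟩).symm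
  haveI hn' : ((Db d).subgroupOf (normalizer (Db d : Set (X d)))).Normal := hqker ▸ inferInstance
  have eN : normalizer (Db d : Set (X d)) ⧸ (Db d).subgroupOf (normalizer (Db d : Set (X d))) ≃*
      DihedralGroup 4 :=
    (QuotientGroup.quotientMulEquivOfEq hqker.symm).trans
      (QuotientGroup.quotientKerEquivOfSurjective q hqs)
  have hcent : ∀ y ∈ Db d, y ≠ 1 →
      centralizer ({y} : Set (X d)) ≤ normalizer (Db d : Set (X d)) := by
    rintro _ ⟨w, hw, rfl⟩ hy1 y hy
    obtain ⟨h, rfl⟩ := QuotientGroup.mk_surjective y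
    rw [mem_norm_Db]
    refine cent_le d hw (fun e => hy1 ?_) (mem_centralizer_singleton_iff.1 h.2)
      (commute_of_mk d hw (mem_centralizer_singleton_iff.1 hy))
    rw [show w = 1 from Subtype.ext e]
    rfl
  rcases Cfsg.Agent.S3333.result P (Db d) hPD (card_Db d) hC eN hcent with h | ⟨⟨e⟩⟩
  · left
    intro x hx
    exact (mem_norm_Db d ⟨x, hx⟩).1 ((normalizer_eq_top_iff.2 h).symm ▸ mem_top _)
  · right
    refine ⟨e.toMonoidHom.comp (QuotientGroup.mk' _), e.surjective.comp (QuotientGroup.mk'_surjective _), fun x => ?_⟩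
    rw [MonoidHom.comp_apply, MulEquiv.coe_toMonoidHom, map_eq_one_iff _ e.injective,
      QuotientGroup.mk'_apply, QuotientGroup.eq_one_iff]
    exact ⟨fun ⟨i, hi⟩ => ⟨i, by rw [← hi]; simp [cH]⟩,
      fun ⟨i, hi⟩ => ⟨i, Subtype.ext (by simpa [cH] using hi)⟩⟩

end Cfsg.Agent.Lib.SymEightThree6.CentCPf

namespace Cfsg.Agent.Lib.SymEightThree6

universe u

/-- The centraliser of the involution centralising both elements of order three. -/
theorem centC : CentCStmt.{u} := fun _ _ _ d => CentCPf.main d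

end Cfsg.Agent.Lib.SymEightThree6
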