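import Cfsg.Agent.Lib.SymEightThree6.Spec
import Cfsg.Agent.Lib.BrauerSuzukiQ.ZStarFinal
import Cfsg.Agent.Lib.PronormalSp1.Main
import Cfsg.Agent.Lib.Signalizer.LayerBasic
import Cfsg.Agent.Lib.Coprime.Generation
import Cfsg.Agent.Lib.Involution.Basic

/-!
The centraliser of a product of involutions of the two factors lies in the normaliser of the
product (brick CentEB of row S3330, written by helper17).

In the centraliser `X` of `e = t t'` the involution `t` is isolated modulo `e`: its conjugates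
commuting with it are `t` and `t'`, since an involution centralising an element of order three of
diagonal type is not conjugate to `t`, and neither is `e`, as 64 divides its centraliser order.
So the commutators with `t` lie in the odd core, which is generated by its centralisers of
conjugates of `t` and so lies in the normaliser.
-/

set_option autoImplicit false
set_option linter.unusedSectionVars false

namespace Cfsg.Agent.Lib.SymEightThree6

open Equiv Subgroup Cfsg

universe u

namespace CentEBAux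

/-- The alternating group of degree five. -/
abbrev A5 := alternatingGroup (Fin 5)

/-- An even permutation as an element of `A5`. -/
def ev (p : Perm (Fin 5)) (h : Perm.sign p = 1 := by decide +kernel) : A5 :=
  ⟨p, Perm.mem_alternatingGroup.2 h⟩

def tA : A5 := ev (swap 1 2 * swap 3 4)
def vA : A5 := ev (swap 1 3 * swap 2 4)
def aA : A5 := ev (swap 2 3 * swap 3 4)
def fA : A5 := ev (swap 0 1 * swap 1 2 * (swap 2 3 * swap 3 4))
def σA : A5 := ev (swap 1 2 * swap 0 1)
def ρA : A5 := ev (swap 0 1 * swap 3 4)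

/-- Conjugation by the transposition `(01)`. -/
def tw (p : A5) : A5 :=
  ⟨swap 0 1 * (p : Perm (Fin 5)) * swap 0 1, by
    have hp := Perm.mem_alternatingGroup.1 p.2
    rw [Perm.mem_alternatingGroup, map_mul, map_mul, hp, Perm.sign_swap (by decide)]
    decide⟩

theorem fin_facts :
    tA * tA = 1 ∧ tA ≠ 1 ∧ vA * vA = 1 ∧ vA ≠ 1 ∧ vA ≠ tA ∧ tA * vA = vA * tA ∧ vA * tA ≠ 1 ∧
    aA ^ 3 = 1 ∧ aA ≠ 1 ∧ fA ^ 5 = 1 ∧ fA ≠ 1 ∧ σA * tw tA * σA⁻¹ = tA ∧
    ρA * tw tA * ρA⁻¹ = tA := by decide +kernel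

theorem invol_conj : ∀ a : A5, a * a = 1 → a ≠ 1 → ∃ σ : A5, σ * tA * σ⁻¹ = a := by decide +kernel

theorem three_conj : ∀ a : A5, a ^ 3 = 1 → a ≠ 1 → ∃ σ : A5, σ * aA * σ⁻¹ = a := by decide +kernel

theorem three_cent_t : ∀ a : A5, a ^ 3 = 1 → a * tA = tA * a → a = 1 := by decide +kernel

theorem cent_t_sq : ∀ a : A5, a * tA = tA * a → a * a = 1 := by decide +kernel

theorem card_cent_t : Nat.card (centralizer ({tA} : Set A5)) = 4 := by
  rw [Nat.card_congr (Equiv.subtypeEquivRight fun _ => mem_centralizer_singleton_iff),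
    Nat.card_eq_fintype_card]
  decide +kernel

theorem odd_invol : ∀ p : A5, tw p * p = 1 →
    ∃ k : A5, k ^ 3 = 1 ∧ k ≠ 1 ∧ tw k * p = p * k := by decide +kernel

theorem tw_outer : ∀ σ : A5, ∃ p : A5, σ * p * σ⁻¹ ≠ tw p := by decide +kernel

theorem tw_one : tw 1 = 1 := by decide +kernel

theorem eq_one_of_tw : ∀ p : A5, tw p = 1 → p = 1 := by decide +kernel

theorem eq_of_pow_three {G : Type*} [Group G] {x : G} (h : x ^ 3 = 1) : (x ^ 2) ^ 2 = x := by
  rw [← pow_mul, show 2 * 2 = 3 + 1 by norm_num, pow_add, h, one_mul, pow_one]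

section
variable {G : Type u} [Group G] [Finite G] (d : Data G)

/-- The alternating group of the first system. -/
def f1 : A5 →* G :=
  d.φ.comp ((MonoidHom.inr (Perm (Fin 3)) (Perm (Fin 5))).comp (alternatingGroup (Fin 5)).subtype)

/-- The alternating group of the second system. -/
def f2 : A5 →* G :=
  d.ψ.comp ((MonoidHom.inr (Perm (Fin 3)) (Perm (Fin 5))).comp (alternatingGroup (Fin 5)).subtype)

theorem f1_apply (p : A5) : f1 d p = d.φ (1, (p : Perm (Fin 5))) := rfl
theorem f2_apply (p : A5) : f2 d p = d.ψ (1, (p : Perm (Fin 5))) := rfl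

theorem f1_inj : Function.Injective (f1 d) := fun _ _ h =>
  Subtype.ext (Prod.ext_iff.1 (d.φ_inj h)).2

theorem f2_eq (p : A5) : d.g * f1 d p * d.g⁻¹ = f2 d p := rfl

theorem c_conj_f1 (p : A5) : d.φ cP * f1 d p * (d.φ cP)⁻¹ = f1 d (tw p) := by
  rw [f1_apply, f1_apply, ← map_inv, ← map_mul, ← map_mul]
  refine congrArg d.φ (Prod.ext ?_ ?_)
  · simp [cP]
  · show swap 0 1 * (p : Perm (Fin 5)) * (swap 0 1)⁻¹ = _
    rw [swap_inv]; rfl

theorem c_conj_f2 (p : A5) : d.φ cP * f2 d p * (d.φ cP)⁻¹ = f2 d (tw p) := by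
  rw [← d.ψ_c, f2_apply, f2_apply, ← map_inv, ← map_mul, ← map_mul]
  refine congrArg d.ψ (Prod.ext ?_ ?_)
  · simp [cP]
  · show swap 0 1 * (p : Perm (Fin 5)) * (swap 0 1)⁻¹ = _
    rw [swap_inv]; rfl

theorem g_conj_f2 : (∀ p : A5, d.g * f2 d p * d.g⁻¹ = f1 d p) ∨
    (∀ p : A5, d.g * f2 d p * d.g⁻¹ = f1 d (tw p)) := by
  have e : ∀ p, d.g * f2 d p * d.g⁻¹ = d.g * d.g * f1 d p * (d.g * d.g)⁻¹ := by
    intro p; rw [← f2_eq]; group
  rcases d.g_sq with h | h
  · exact Or.inl fun p => by rw [e, h]; group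
  · exact Or.inr fun p => by rw [e, h, c_conj_f1]

variable {d}

theorem comm (hd : d.Exc) (p q : A5) : Commute (f1 d p) (f2 d q) :=
  hd.2.2 _ _ (Perm.mem_alternatingGroup.1 p.2) (Perm.mem_alternatingGroup.1 q.2)

/-- The product of the two alternating groups. -/
def pair (hd : d.Exc) : A5 × A5 →* G := MonoidHom.noncommCoprod (f1 d) (f2 d) (comm hd)

theorem pair_apply (hd : d.Exc) (p q : A5) : pair hd (p, q) = f1 d p * f2 d q := rfl

theorem pair_range (hd : d.Exc) : (pair hd).range = d.base := by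
  rw [pair, MonoidHom.noncommCoprod_range, f1, f2, ← MonoidHom.comp_assoc, ← MonoidHom.comp_assoc,
    MonoidHom.range_comp, MonoidHom.range_comp, range_subtype]
  rfl

theorem card_base (hF : ExcFacts d) : Nat.card d.base = 3600 := by
  obtain ⟨i⟩ := hF.base_iso
  rw [Nat.card_congr i.toEquiv, Nat.card_prod, nat_card_alternatingGroup, Nat.card_eq_fintype_card,
    Fintype.card_fin]
  rfl

theorem pair_inj (hd : d.Exc) (hF : ExcFacts d) : Function.Injective (pair hd) := by
  have hc : Nat.card (A5 × A5) = Nat.card (pair hd).range := by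
    rw [pair_range, card_base hF, Nat.card_prod, nat_card_alternatingGroup,
      Nat.card_eq_fintype_card, Fintype.card_fin]
    rfl
  have hs := (pair hd).rangeRestrict_surjective
  intro x y h
  exact ((Nat.bijective_iff_surjective_and_card _).2 ⟨hs, hc⟩).1 (Subtype.ext h)

theorem f_sep (hd : d.Exc) (hF : ExcFacts d) {p q : A5} (h : f1 d p = f2 d q) : p = 1 ∧ q = 1 := by
  have := pair_inj hd hF (a₁ := (p, 1)) (a₂ := (1, q)) (by simp [pair_apply, h])
  exact ⟨(Prod.ext_iff.1 this).1, ((Prod.ext_iff.1 this).2).symm⟩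

theorem mem_base (hd : d.Exc) {x : G} : x ∈ d.base ↔ ∃ p q, x = f1 d p * f2 d q := by
  rw [← pair_range hd, MonoidHom.mem_range]
  constructor
  · rintro ⟨⟨p, q⟩, rfl⟩; exact ⟨p, q, rfl⟩
  · rintro ⟨p, q, rfl⟩; exact ⟨(p, q), rfl⟩

theorem f1_mem (hd : d.Exc) (p : A5) : f1 d p ∈ d.base :=
  (mem_base hd).2 ⟨p, 1, by simp⟩

theorem f2_mem (hd : d.Exc) (p : A5) : f2 d p ∈ d.base :=
  (mem_base hd).2 ⟨1, p, by simp⟩

theorem mem_normBase_of {x : G} (h : ∀ b ∈ d.base, x * b * x⁻¹ ∈ d.base) : x ∈ d.normBase := by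
  refine mem_normalizer_iff.2 fun b => ⟨h b, fun hb => ?_⟩
  let f : d.base → d.base := fun y => ⟨x * y * x⁻¹, h _ y.2⟩
  have hf : Function.Injective f := fun y z e =>
    Subtype.ext (mul_left_cancel (mul_right_cancel (congrArg Subtype.val e)))
  obtain ⟨⟨y, hy⟩, e⟩ := Finite.surjective_of_injective hf ⟨_, hb⟩
  have : y = b := mul_left_cancel (mul_right_cancel (congrArg Subtype.val e))
  rwa [← this]

theorem base_le : d.base ≤ d.normBase := le_normalizer

theorem c_mem (hd : d.Exc) : d.φ cP ∈ d.normBase := by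
  refine mem_normBase_of fun b hb => ?_
  obtain ⟨p, q, rfl⟩ := (mem_base hd).1 hb
  exact (mem_base hd).2 ⟨tw p, tw q, by rw [← c_conj_f1, ← c_conj_f2]; group⟩

theorem g_mem (hd : d.Exc) : d.g ∈ d.normBase := by
  refine mem_normBase_of fun b hb => ?_
  obtain ⟨p, q, rfl⟩ := (mem_base hd).1 hb
  rcases g_conj_f2 d with h | h
  · refine (mem_base hd).2 ⟨q, p, ?_⟩
    rw [(comm hd q p).eq, ← f2_eq d p, ← h q]; group
  · refine (mem_base hd).2 ⟨tw q, p, ?_⟩
    rw [(comm hd _ p).eq, ← f2_eq d p, ← h q]; group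

theorem c_not_mem (hd : d.Exc) : d.φ cP ∉ d.base := by
  intro h
  obtain ⟨σ, q, hc⟩ := (mem_base hd).1 h
  obtain ⟨p, hp⟩ := tw_outer σ
  refine hp (f1_inj d ?_)
  rw [← c_conj_f1, hc, map_mul, map_mul, map_inv]
  have e : f2 d q * f1 d p * (f2 d q)⁻¹ = f1 d p := by
    rw [← (comm hd p q).eq, mul_inv_cancel_right]
  conv_lhs => rw [← e]
  group

/-- Conjugation by an element not exchanging the factors does not send the first to the second. -/
theorem base_conj (hd : d.Exc) {b : G} (hb : b ∈ d.base) (r : A5) :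
    ∃ r', b * f1 d r * b⁻¹ = f1 d r' ∧ (r ≠ 1 → r' ≠ 1) := by
  obtain ⟨p, q, rfl⟩ := (mem_base hd).1 hb
  refine ⟨p * r * p⁻¹, ?_, fun h h' => h (conj_eq_one_iff.1 h')⟩
  rw [map_mul, map_mul, map_inv]
  have e : f2 d q * f1 d r * (f2 d q)⁻¹ = f1 d r := by
    rw [← (comm hd r q).eq, mul_inv_cancel_right]
  conv_rhs => rw [← e]
  group

/-- The four cosets of the product in its normaliser. -/
theorem cosets (hd : d.Exc) (hF : ExcFacts d) {x : G} (hx : x ∈ d.normBase) :
    ∃ b ∈ d.base, x = b ∨ x = d.φ cP * b ∨ x = d.g * b ∨ x = d.g * d.φ cP * b := by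
  classical
  set H := d.normBase
  set N := d.base.subgroupOf H
  haveI : N.Normal := normal_in_normalizer
  let π := QuotientGroup.mk' N
  let cH : H := ⟨d.φ cP, c_mem hd⟩
  let gH : H := ⟨d.g, g_mem hd⟩
  have hcard : Nat.card (H ⧸ N) = 4 := hF.index
  haveI : Fintype (H ⧸ N) := Fintype.ofFinite _
  have hker : ∀ y : H, π y = 1 ↔ (y : G) ∈ d.base := fun y =>
    (QuotientGroup.eq_one_iff y).trans mem_subgroupOf
  have hc1 : π cH ≠ 1 := fun h => c_not_mem hd ((hker _).1 h)
  have hg1 : π gH ≠ 1 := by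
    intro h
    obtain ⟨r, hr, hr1⟩ := base_conj hd ((hker _).1 h) tA
    rw [show ((gH : H) : G) = d.g from rfl, f2_eq] at hr
    exact fin_facts.2.1 (f_sep hd hF hr.symm).2
  have hgc : π gH ≠ π cH := by
    intro h
    have hm : (d.φ cP)⁻¹ * d.g ∈ d.base :=
      (hker (cH⁻¹ * gH)).1 (by rw [map_mul, map_inv, h, inv_mul_cancel])
    obtain ⟨r, hr, hr1⟩ := base_conj hd hm tA
    have e : f2 d tA = f1 d (tw r) := by
      rw [← f2_eq d tA, ← c_conj_f1, ← hr]; group
    exact fin_facts.2.1 (f_sep hd hF e.symm).2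
  have hgc1 : π (gH * cH) ≠ 1 := by
    intro h
    have hm : d.g * d.φ cP ∈ d.base := (hker (gH * cH)).1 h
    obtain ⟨r, hr, hr1⟩ := base_conj hd hm tA
    have e : f2 d (tw tA) = f1 d r := by
      rw [← f2_eq d, ← c_conj_f1, ← hr]; group
    exact fin_facts.2.1 (eq_one_of_tw _ (f_sep hd hF e.symm).2)
  have hall : ({1, π cH, π gH, π (gH * cH)} : Finset (H ⧸ N)) = Finset.univ := by
    apply Finset.eq_univ_of_card
    rw [← Nat.card_eq_fintype_card, hcard, Finset.card_eq_succ]
    refine ⟨1, {π cH, π gH, π (gH * cH)}, ?_, rfl, ?_⟩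
    · simp only [Finset.mem_insert, Finset.mem_singleton, not_or]
      exact ⟨hc1.symm, hg1.symm, hgc1.symm⟩
    · rw [Finset.card_eq_three]
      refine ⟨_, _, _, hgc.symm, ?_, ?_, rfl⟩
      · rw [map_mul]; exact fun h => hg1 (mul_eq_right.1 h.symm)
      · rw [map_mul]; exact fun h => hc1 (mul_eq_left.1 h.symm)
  have hmem := Finset.mem_univ (π ⟨x, hx⟩)
  rw [← hall] at hmem
  simp only [Finset.mem_insert, Finset.mem_singleton] at hmem
  have key : ∀ y : H, π ⟨x, hx⟩ = π y → (y : G)⁻¹ * x ∈ d.base := fun y h =>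
    (hker (y⁻¹ * ⟨x, hx⟩)).1 (by rw [map_mul, map_inv, h, inv_mul_cancel])
  rcases hmem with h | h | h | h
  · exact ⟨x, (hker _).1 h, Or.inl rfl⟩
  · exact ⟨_, key cH h, Or.inr (Or.inl (by simp [cH]))⟩
  · exact ⟨_, key gH h, Or.inr (Or.inr (Or.inl (by simp [gH])))⟩
  · exact ⟨_, key _ h, Or.inr (Or.inr (Or.inr (by simp [gH, cH, mul_assoc])))⟩

/-- An element exchanging the factors. -/
theorem swap_of_not_fix (hd : d.Exc) {x b : G} (hb : b ∈ d.base)
    (hx : x = d.g * b ∨ x = d.g * d.φ cP * b) (r : A5) :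
    ∃ r', x * f1 d r * x⁻¹ = f2 d r' ∧ (r ≠ 1 → r' ≠ 1) := by
  obtain ⟨s, hs, hs1⟩ := base_conj hd hb r
  rcases hx with rfl | rfl
  · exact ⟨s, by rw [← f2_eq, ← hs]; group, hs1⟩
  · refine ⟨tw s, ?_, fun h h' => hs1 h (eq_one_of_tw _ h')⟩
    rw [← f2_eq, ← c_conj_f1, ← hs]; group

theorem fix_of_fix (hd : d.Exc) {x b : G} (hb : b ∈ d.base)
    (hx : x = b ∨ x = d.φ cP * b) (r : A5) :
    ∃ r', x * f1 d r * x⁻¹ = f1 d r' ∧ (r ≠ 1 → r' ≠ 1) := by
  obtain ⟨s, hs, hs1⟩ := base_conj hd hb r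
  rcases hx with rfl | rfl
  · exact ⟨s, hs, hs1⟩
  · refine ⟨tw s, ?_, fun h h' => hs1 h (eq_one_of_tw _ h')⟩
    rw [← c_conj_f1, ← hs]; group

omit [Finite G] in
theorem card_cent_eq (x y : G) :
    Nat.card (centralizer ({x * y * x⁻¹} : Set G)) = Nat.card (centralizer ({y} : Set G)) := by
  have e : (centralizer ({y} : Set G)).map (MulAut.conj x).toMonoidHom =
      centralizer ({x * y * x⁻¹} : Set G) := by
    ext z
    rw [Subgroup.mem_map, mem_centralizer_singleton_iff]
    constructor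
    · rintro ⟨c, hc, rfl⟩
      rw [mem_centralizer_singleton_iff] at hc
      simp only [MulEquiv.coe_toMonoidHom, MulAut.conj_apply]
      calc x * c * x⁻¹ * (x * y * x⁻¹) = x * (c * y) * x⁻¹ := by group
        _ = x * y * x⁻¹ * (x * c * x⁻¹) := by rw [hc]; group
    · intro hz
      refine ⟨x⁻¹ * z * x, ?_, by simp [mul_assoc]⟩
      rw [mem_centralizer_singleton_iff]
      calc x⁻¹ * z * x * y = x⁻¹ * (z * (x * y * x⁻¹)) * x := by group
        _ = y * (x⁻¹ * z * x) := by rw [hz]; group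
  rw [← e, card_map_of_injective (MulAut.conj x).injective]

theorem zP_eq : d.φ zP = f2 d aA := d.ψ_a.symm

/-- An involution centralising a diagonal element of order three is not conjugate to `t`. -/
theorem not_conj_t (hd : d.Exc) (hF : ExcFacts d)
    (hT : centralizer ({d.φ tP} : Set G) ≤ d.normBase) {x : G} {k l : A5} (hk : k ^ 3 = 1)
    (hk1 : k ≠ 1) (hl : l ^ 3 = 1) (hl1 : l ≠ 1)
    (h : Commute (x * f1 d tA * x⁻¹) (f1 d k * f2 d l)) : False := by
  obtain ⟨σ, hσ⟩ := three_conj k hk hk1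
  obtain ⟨τ, hτ⟩ := three_conj l hl hl1
  have hD : f1 d k * f2 d l = pair hd (σ, τ) * (d.φ zP * d.φ aP) * (pair hd (σ, τ))⁻¹ := by
    rw [zP_eq, show d.φ aP = f1 d aA from rfl, ← (comm hd aA aA).eq, ← pair_apply hd aA aA,
      ← map_inv, ← map_mul, ← map_mul, ← pair_apply hd k l]
    refine congrArg _ (Prod.ext hσ.symm hτ.symm)
  set D := f1 d k * f2 d l with hDdef
  have h36 : Nat.card (centralizer ({D} : Set G)) = 36 := by
    rw [hD, card_cent_eq, d.card_cent]
  have hD3 : D ^ 3 = 1 := by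
    rw [hDdef, (comm hd k l).mul_pow, ← map_pow, ← map_pow, hk, hl, map_one, map_one, one_mul]
  set D' := x⁻¹ * D * x⁻¹⁻¹ with hD'
  have hD'3 : D' ^ 3 = 1 := by rw [hD', conj_pow, hD3, mul_one, mul_inv_cancel]
  have hcomm : D' * f1 d tA = f1 d tA * D' := by
    rw [hD']
    calc x⁻¹ * D * x⁻¹⁻¹ * f1 d tA = x⁻¹ * (D * (x * f1 d tA * x⁻¹)) * x := by group
      _ = f1 d tA * (x⁻¹ * D * x⁻¹⁻¹) := by rw [← h.eq]; group
  have hH : D' ∈ d.normBase := hT (mem_centralizer_singleton_iff.2 hcomm)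
  have hB : D' ∈ d.base := by
    rw [← eq_of_pow_three hD'3]
    exact hF.sq _ (pow_mem hH 2)
  obtain ⟨p, q, hpq⟩ := (mem_base hd).1 hB
  have hp1 : p = 1 := by
    have e3 : ((p, q) : A5 × A5) ^ 3 = 1 := pair_inj hd hF (by
      rw [map_pow, pair_apply, ← hpq, hD'3, map_one])
    have et : ((p, q) : A5 × A5) * (tA, 1) = (tA, 1) * (p, q) := pair_inj hd hF (by
      rw [map_mul, map_mul, pair_apply, ← hpq, pair_apply, map_one (f2 d), mul_one, hcomm])
    exact three_cent_t p (congrArg Prod.fst e3) (congrArg Prod.fst et)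
  have h5 : f1 d fA ∈ centralizer ({D'} : Set G) := by
    rw [mem_centralizer_singleton_iff, hpq, hp1, map_one, one_mul]
    exact (comm hd fA q).eq
  have hord : orderOf (f1 d fA) = 5 := by
    haveI : Fact (Nat.Prime 5) := ⟨by norm_num⟩
    rw [orderOf_injective _ (f1_inj d)]
    exact orderOf_eq_prime fin_facts.2.2.2.2.2.2.2.2.2.1 fin_facts.2.2.2.2.2.2.2.2.2.2.1
  have := Subgroup.orderOf_dvd_natCard _ h5
  rw [hord, hD', card_cent_eq, h36] at this
  omega

/-- The product of involutions of the two factors is not conjugate to one of them. -/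
theorem not_conj_e (hd : d.Exc) (hF : ExcFacts d)
    (hT : centralizer ({d.φ tP} : Set G) ≤ d.normBase) {x : G}
    (h : x * f1 d tA * x⁻¹ = f1 d tA * f2 d tA) : False := by
  classical
  set H := d.normBase
  set N := d.base.subgroupOf H
  haveI : N.Normal := normal_in_normalizer
  let π := QuotientGroup.mk' N
  set e := f1 d tA * f2 d tA with he
  set Ct := (centralizer ({f1 d tA} : Set G)).subgroupOf H with hCt
  set Ce := (centralizer ({e} : Set G)).subgroupOf H with hCe
  have hcard : Nat.card (H ⧸ N) = 4 := hF.index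
  have hker : ∀ y : H, π y = 1 ↔ (y : G) ∈ d.base := fun y =>
    (QuotientGroup.eq_one_iff y).trans mem_subgroupOf
  -- the image of the centraliser of `t` is proper
  have hne : Ct.map π ≠ ⊤ := by
    intro htop
    obtain ⟨y, hy, hyg⟩ : π ⟨d.g, g_mem hd⟩ ∈ Ct.map π := htop ▸ mem_top _
    have hyb : d.g⁻¹ * (y : G) ∈ d.base :=
      (hker ((⟨d.g, g_mem hd⟩ : H)⁻¹ * y)).1 (by rw [map_mul, map_inv, hyg, inv_mul_cancel])
    obtain ⟨r, hr, hr1⟩ := swap_of_not_fix (x := (y : G)) hd hyb (Or.inl (by group)) tA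
    have hyt := mem_centralizer_singleton_iff.1 (mem_subgroupOf.1 hy)
    rw [hyt, mul_inv_cancel_right] at hr
    exact fin_facts.2.1 (f_sep hd hF hr).1
  have hdiv : ∀ C : Subgroup H, Nat.card (C.map π) * Nat.card (N.subgroupOf C) = Nat.card C := by
    intro C
    have hk : (π.comp C.subtype).ker = N.subgroupOf C := by
      rw [← MonoidHom.comap_ker, QuotientGroup.ker_mk']; rfl
    have hr : (π.comp C.subtype).range = C.map π := by
      rw [MonoidHom.range_comp, range_subtype]
    rw [← hr, ← hk, ← index_ker, mul_comm, card_mul_index]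
  have h64 : 64 ∣ Nat.card Ce := by
    rw [← hdiv]
    refine Nat.mul_dvd_mul (a := 4) (c := 16) ?_ ?_
    · have htop : Ce.map π = ⊤ := by
        set c2 := f1 d σA * f2 d σA * d.φ cP with hc2
        have hc2m : c2 ∈ H :=
          mul_mem (base_le (mul_mem (f1_mem hd _) (f2_mem hd _))) (c_mem hd)
        have hc2e : c2 * e * c2⁻¹ = e := by
          calc c2 * e * c2⁻¹ = f1 d σA * f2 d σA * ((d.φ cP * f1 d tA * (d.φ cP)⁻¹) *
                (d.φ cP * f2 d tA * (d.φ cP)⁻¹)) * (f1 d σA * f2 d σA)⁻¹ := by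
                rw [hc2, he]; group
            _ = e := by
                rw [c_conj_f1, c_conj_f2, ← pair_apply hd, ← pair_apply hd, ← map_inv, ← map_mul,
                  ← map_mul, he, ← pair_apply hd]
                exact congrArg _ (Prod.ext fin_facts.2.2.2.2.2.2.2.2.2.2.2.1
                  fin_facts.2.2.2.2.2.2.2.2.2.2.2.1)
        have hswap : ∃ ρ : A5, f1 d ρ * d.g * e * (f1 d ρ * d.g)⁻¹ = e := by
          rcases g_conj_f2 d with hg | hg
          · refine ⟨1, ?_⟩
            rw [map_one, one_mul, he]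
            calc d.g * (f1 d tA * f2 d tA) * d.g⁻¹
                = (d.g * f1 d tA * d.g⁻¹) * (d.g * f2 d tA * d.g⁻¹) := by group
              _ = f1 d tA * f2 d tA := by rw [f2_eq, hg, ← (comm hd tA tA).eq]
          · refine ⟨ρA, ?_⟩
            rw [he]
            calc f1 d ρA * d.g * (f1 d tA * f2 d tA) * (f1 d ρA * d.g)⁻¹
                = f1 d ρA * ((d.g * f1 d tA * d.g⁻¹) * (d.g * f2 d tA * d.g⁻¹)) * (f1 d ρA)⁻¹ := by
                  group
              _ = f1 d tA * f2 d tA := by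
                  rw [f2_eq, hg, ← (comm hd (tw tA) tA).eq, mul_assoc, mul_assoc,
                    ← ((comm hd ρA tA).inv_left).eq, ← mul_assoc, ← mul_assoc, ← map_inv, ← map_mul,
                    ← map_mul, fin_facts.2.2.2.2.2.2.2.2.2.2.2.2]
        obtain ⟨ρ, hρ⟩ := hswap
        have hc : π ⟨d.φ cP, c_mem hd⟩ ∈ Ce.map π := by
          refine ⟨⟨c2, hc2m⟩, mem_subgroupOf.2 (mem_centralizer_singleton_iff.2
            (mul_inv_eq_iff_eq_mul.1 hc2e)), ?_⟩
          refine mul_inv_eq_one.1 ?_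
          rw [← map_inv, ← map_mul, hker]
          show c2 * (d.φ cP)⁻¹ ∈ d.base
          rw [hc2, mul_inv_cancel_right]; exact mul_mem (f1_mem hd _) (f2_mem hd _)
        have hg : π ⟨d.g, g_mem hd⟩ ∈ Ce.map π := by
          refine ⟨⟨f1 d ρ * d.g, mul_mem (base_le (f1_mem hd _)) (g_mem hd)⟩,
            mem_subgroupOf.2 (mem_centralizer_singleton_iff.2 (mul_inv_eq_iff_eq_mul.1 hρ)), ?_⟩
          refine mul_inv_eq_one.1 ?_
          rw [← map_inv, ← map_mul, hker]
          show f1 d ρ * d.g * d.g⁻¹ ∈ d.base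
          rw [mul_inv_cancel_right]; exact f1_mem hd _
        refine eq_top_iff.2 fun q _ => ?_
        obtain ⟨⟨y, hy⟩, rfl⟩ := QuotientGroup.mk'_surjective N q
        obtain ⟨b, hb, hcases⟩ := cosets hd hF hy
        have hbq : ∀ s : H, y = (s : G) * b → π ⟨y, hy⟩ = π s := fun s hs =>
          inv_mul_eq_one.1 (by
            rw [← map_inv, ← map_mul, hker]
            show y⁻¹ * (s : G) ∈ d.base
            rw [hs, mul_inv_rev, inv_mul_cancel_right]; exact inv_mem hb)
        rcases hcases with r | r | r | r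
        · show π ⟨y, hy⟩ ∈ _
          rw [hbq 1 (by rw [r]; simp), map_one]; exact one_mem _
        · show π ⟨y, hy⟩ ∈ _
          rw [hbq ⟨_, c_mem hd⟩ r]; exact hc
        · show π ⟨y, hy⟩ ∈ _
          rw [hbq ⟨_, g_mem hd⟩ r]; exact hg
        · show π ⟨y, hy⟩ ∈ _
          rw [hbq (⟨_, g_mem hd⟩ * ⟨_, c_mem hd⟩) r, map_mul]; exact mul_mem hg hc
      rw [htop, card_top, hcard]
    · set C4 := centralizer ({tA} : Set A5)
      have hle : ((C4.prod C4).map (pair hd)) ≤ d.base ⊓ centralizer ({e} : Set G) := by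
        rintro _ ⟨⟨p, q⟩, ⟨hp, hq⟩, rfl⟩
        refine ⟨pair_range hd ▸ ⟨_, rfl⟩, mem_centralizer_singleton_iff.2 ?_⟩
        rw [he, ← pair_apply hd tA tA, ← map_mul, ← map_mul]
        exact congrArg _ (Prod.ext (mem_centralizer_singleton_iff.1 hp)
          (mem_centralizer_singleton_iff.1 hq))
      have h16 : Nat.card ((C4.prod C4).map (pair hd)) = 16 := by
        rw [card_map_of_injective (pair_inj hd hF),
          Nat.card_congr (C4.prodEquiv C4).toEquiv, Nat.card_prod, card_cent_t]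
      rw [← h16]
      refine (card_dvd_of_le hle).trans ?_
      apply dvd_of_eq
      apply Nat.card_congr
      exact
        { toFun := fun y => ⟨⟨⟨y.1, base_le y.2.1⟩, mem_subgroupOf.2 y.2.2⟩,
            mem_subgroupOf.2 (mem_subgroupOf.2 y.2.1)⟩
          invFun := fun y => ⟨(((y : Ce) : H) : G), mem_subgroupOf.1 (mem_subgroupOf.1 y.2),
            mem_subgroupOf.1 y.1.2⟩
          left_inv := fun _ => rfl
          right_inv := fun _ => rfl }
  have hCeT : Nat.card Ce ∣ Nat.card Ct := by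
    have h1 : Nat.card Ce ∣ Nat.card (centralizer ({e} : Set G)) :=
      (card_map_of_injective (K := Ce) H.subtype_injective) ▸
        card_dvd_of_le (map_subgroupOf_le_left_aux H _)
    refine h1.trans (dvd_of_eq ?_)
    rw [← h, card_cent_eq, hCt]
    exact (Nat.card_congr (subgroupOfEquivOfLe hT).toEquiv).symm
  have h2 : Nat.card (Ct.map π) ∣ 2 := by
    have hd4 : Nat.card (Ct.map π) ∣ 4 := hcard ▸ card_subgroup_dvd_card _
    have hn : Nat.card (Ct.map π) ≠ 4 := fun h4 =>
      hne ((card_eq_iff_eq_top _).1 (h4.trans hcard.symm))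
    have hle := Nat.le_of_dvd (by norm_num) hd4
    generalize Nat.card (Ct.map π) = n at hd4 hn hle ⊢
    interval_cases n <;> omega
  have hK : Nat.card (N.subgroupOf Ct) ∣ 3600 := by
    rw [← card_base hF, ← Nat.card_congr (subgroupOfEquivOfLe base_le).toEquiv,
      ← card_map_of_injective (K := N.subgroupOf Ct) Ct.subtype_injective]
    exact card_dvd_of_le (map_subgroupOf_le_left_aux Ct N)
  have := (h64.trans hCeT).trans (hdiv Ct ▸ Nat.mul_dvd_mul h2 hK)
  omega
where
  map_subgroupOf_le_left_aux {G : Type u} [Group G] (H K : Subgroup G) :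
      (K.subgroupOf H).map H.subtype ≤ K := by
    rintro _ ⟨y, hy, rfl⟩; exact hy

/-- The conjugates of `t` commuting with `t` inside the centraliser of `e`. -/
theorem fusion (hd : d.Exc) (hF : ExcFacts d) (hT : centralizer ({d.φ tP} : Set G) ≤ d.normBase)
    {x : G} (hx : Commute x (f1 d tA * f2 d tA))
    (hc : Commute (x * f1 d tA * x⁻¹) (f1 d tA)) :
    x * f1 d tA * x⁻¹ = f1 d tA ∨ x * f1 d tA * x⁻¹ = f2 d tA := by
  set u := x * f1 d tA * x⁻¹ with hu
  have huH : u ∈ d.normBase := hT (mem_centralizer_singleton_iff.2 hc.eq)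
  have hne : tA ≠ 1 := fin_facts.2.1
  have huu : u * u = 1 := by
    rw [hu, conj_mul, ← map_mul, fin_facts.1, map_one, mul_one, mul_inv_cancel]
  have hue : u * (f1 d tA * f2 d tA) = x * d.g * f1 d tA * (x * d.g)⁻¹ := by
    calc u * (f1 d tA * f2 d tA) = x * f1 d tA * x⁻¹ * (x * (f1 d tA * f2 d tA) * x⁻¹) := by
          rw [hx.eq, mul_inv_cancel_right]
      _ = x * (f1 d (tA * tA) * f2 d tA) * x⁻¹ := by rw [map_mul]; group
      _ = x * d.g * f1 d tA * (x * d.g)⁻¹ := by
          rw [fin_facts.1, map_one, one_mul, ← f2_eq]; group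
  have hmix : ∀ {a b : A5} {y : G}, a ≠ 1 → b ≠ 1 → a * a = 1 → b * b = 1 →
      y * f1 d tA * y⁻¹ = f1 d a * f2 d b → False := by
    intro a b y ha hb ha2 hb2 hy
    obtain ⟨σ, hσ⟩ := invol_conj a ha2 ha
    obtain ⟨τ, hτ⟩ := invol_conj b hb2 hb
    refine not_conj_e hd hF hT (x := (pair hd (σ, τ))⁻¹ * y) ?_
    have hσt : ((σ, τ) : A5 × A5) * (tA, tA) * ((σ, τ) : A5 × A5)⁻¹ = (a, b) := Prod.ext hσ hτ
    calc (pair hd (σ, τ))⁻¹ * y * f1 d tA * ((pair hd (σ, τ))⁻¹ * y)⁻¹
        = (pair hd (σ, τ))⁻¹ * (y * f1 d tA * y⁻¹) * pair hd (σ, τ) := by group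
      _ = f1 d tA * f2 d tA := by
          rw [hy, ← pair_apply hd, ← hσt, map_mul, map_mul, map_inv, pair_apply hd tA tA]; group
  obtain ⟨b, hb, hcases⟩ := cosets hd hF huH
  have hsame : u = b ∨ u = d.φ cP * b := by
    rcases hcases with r | r | r | r
    · exact Or.inl r
    · exact Or.inr r
    all_goals
      exfalso
      obtain ⟨r', hr', -⟩ := swap_of_not_fix (x := u) hd hb (by tauto) tA
      rw [hc.eq, mul_inv_cancel_right] at hr'
      exact hne (f_sep hd hF hr').1
  rcases hsame with r | r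
  · obtain ⟨p, q, hpq⟩ := (mem_base hd).1 hb
    rw [← r] at hpq
    have hp2 : ((p, q) : A5 × A5) * (p, q) = 1 := pair_inj hd hF (by
      rw [map_mul, pair_apply, ← hpq, huu, map_one])
    have hue' : f1 d (p * tA) * f2 d (q * tA) = x * d.g * f1 d tA * (x * d.g)⁻¹ := by
      rw [← hue, hpq, ← pair_apply hd p q, ← pair_apply hd tA tA, ← map_mul]; rfl
    have he2 : ((p * tA, q * tA) : A5 × A5) * (p * tA, q * tA) = 1 := pair_inj hd hF (by
      rw [map_mul, pair_apply, hue', conj_mul, ← map_mul, fin_facts.1]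
      simp)
    rcases eq_or_ne p 1 with hp | hp
    · right
      subst hp
      rcases eq_or_ne q tA with hq | hq
      · rw [hpq, hq, map_one, one_mul]
      · exfalso
        refine hmix (by rwa [one_mul]) (fun h' => hq ?_) (congrArg Prod.fst he2)
          (congrArg Prod.snd he2) hue'.symm
        have := congrArg (· * tA) h'
        simpa [mul_assoc, fin_facts.1] using this
    · rcases eq_or_ne q 1 with hq | hq
      · left
        subst hq
        rcases eq_or_ne p tA with hp' | hp'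
        · rw [hpq, hp', map_one, mul_one]
        · exfalso
          refine hmix (fun h' => hp' ?_) (by rwa [one_mul]) (congrArg Prod.fst he2)
            (congrArg Prod.snd he2) hue'.symm
          have := congrArg (· * tA) h'
          simpa [mul_assoc, fin_facts.1] using this
      · exact (hmix hp hq (congrArg Prod.fst hp2) (congrArg Prod.snd hp2) (hu.symm.trans hpq)).elim
  · exfalso
    obtain ⟨p, q, hpq⟩ := (mem_base hd).1 hb
    rw [hpq] at r
    have hp2 : ((tw p * p, tw q * q) : A5 × A5) = 1 := pair_inj hd hF (by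
      rw [pair_apply, map_one]
      rw [← huu, r]
      have hcc : (d.φ cP)⁻¹ = d.φ cP := by
        rw [← map_inv]; exact congrArg d.φ (by decide +kernel)
      rw [map_mul, map_mul, ← c_conj_f1, ← c_conj_f2]
      calc d.φ cP * f1 d p * (d.φ cP)⁻¹ * f1 d p * (d.φ cP * f2 d q * (d.φ cP)⁻¹ * f2 d q)
          = d.φ cP * f1 d p * (d.φ cP)⁻¹ * (f1 d p * (d.φ cP * f2 d q * (d.φ cP)⁻¹)) * f2 d q := by
            group
        _ = d.φ cP * (f1 d p * f2 d q) * ((d.φ cP)⁻¹ * (f1 d p * f2 d q)) := by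
            rw [c_conj_f2, (comm hd p _).eq, ← c_conj_f2]; group
        _ = d.φ cP * (f1 d p * f2 d q) * (d.φ cP * (f1 d p * f2 d q)) := by rw [hcc])
    obtain ⟨k, hk, hk1, hkp⟩ := odd_invol p (congrArg Prod.fst hp2)
    obtain ⟨l, hl, hl1, hlq⟩ := odd_invol q (congrArg Prod.snd hp2)
    refine not_conj_t hd hF hT hk hk1 hl hl1 (x := x) ?_
    rw [← hu, r]
    have e1 : pair hd (tw k, tw l) = d.φ cP * pair hd (k, l) * (d.φ cP)⁻¹ := by
      rw [pair_apply, pair_apply, ← c_conj_f1, ← c_conj_f2]; group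
    have e2 : ((tw k, tw l) : A5 × A5) * (p, q) = (p, q) * (k, l) := Prod.ext hkp hlq
    have e2' := congrArg (pair hd) e2
    rw [map_mul, map_mul, e1] at e2'
    rw [← pair_apply hd p q, ← pair_apply hd k l]
    show _ * _ = _ * _
    rw [mul_assoc, ← e2']
    have hcc : d.φ cP * d.φ cP = 1 := by
      rw [← map_mul, ← map_one d.φ]; exact congrArg d.φ (by decide +kernel)
    have hci : (d.φ cP)⁻¹ = d.φ cP := inv_eq_of_mul_eq_one_right hcc
    rw [hci]
    simp only [← mul_assoc]
    rw [hcc, one_mul]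

/-- No conjugate of `t` exchanges `t` and its partner. -/
theorem not_swap (hd : d.Exc) (hF : ExcFacts d) (hT : centralizer ({d.φ tP} : Set G) ≤ d.normBase)
    {x : G} (h : (x * f1 d tA * x⁻¹) * f1 d tA * (x * f1 d tA * x⁻¹)⁻¹ = f2 d tA) : False := by
  set u := x * f1 d tA * x⁻¹ with hu
  have huH : u ∈ d.normBase := by
    have hm : d.g⁻¹ * u ∈ d.normBase := hT (mem_centralizer_singleton_iff.2 (by
      show d.g⁻¹ * u * f1 d tA = f1 d tA * (d.g⁻¹ * u)
      calc d.g⁻¹ * u * f1 d tA = d.g⁻¹ * (u * f1 d tA * u⁻¹) * u := by group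
        _ = f1 d tA * (d.g⁻¹ * u) := by rw [h, ← f2_eq]; group))
    simpa using mul_mem (g_mem hd) hm
  have huu : u * u = 1 := by
    rw [hu, conj_mul, ← map_mul, fin_facts.1, map_one, mul_one, mul_inv_cancel]
  obtain ⟨b, hb, hcases⟩ := cosets hd hF huH
  have hsw : u = d.g * b ∨ u = d.g * d.φ cP * b := by
    rcases hcases with r | r | r | r
    · exfalso
      obtain ⟨r', hr', -⟩ := fix_of_fix (x := u) hd hb (Or.inl r) tA
      exact fin_facts.2.1 (f_sep hd hF (hr'.symm.trans h)).2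
    · exfalso
      obtain ⟨r', hr', -⟩ := fix_of_fix (x := u) hd hb (Or.inr r) tA
      exact fin_facts.2.1 (f_sep hd hF (hr'.symm.trans h)).2
    · exact Or.inl r
    · exact Or.inr r
  obtain ⟨l, hl, hl1⟩ := swap_of_not_fix hd hb hsw aA
  have hl3 : l ^ 3 = 1 := by
    have := pair_inj hd hF (a₁ := (1, l ^ 3)) (a₂ := (1, 1)) (by
      rw [pair_apply, pair_apply, map_pow, ← hl, conj_pow, ← map_pow,
        fin_facts.2.2.2.2.2.2.2.1, map_one, map_one, mul_one, mul_inv_cancel])
    exact congrArg Prod.snd this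
  refine not_conj_t hd hF hT fin_facts.2.2.2.2.2.2.2.1 fin_facts.2.2.2.2.2.2.2.2.1 hl3
    (hl1 fin_facts.2.2.2.2.2.2.2.2.1) (x := x) ?_
  rw [← hu, ← hl]
  have hui : u⁻¹ = u := inv_eq_of_mul_eq_one_right huu
  have hco : f1 d aA * (u * f1 d aA * u⁻¹) = u * f1 d aA * u⁻¹ * f1 d aA := by
    rw [hl]; exact (comm hd aA l).eq
  show u * _ = _ * u
  rw [hui] at hco ⊢
  calc u * (f1 d aA * (u * f1 d aA * u))
      = u * f1 d aA * u * f1 d aA * u := by group
    _ = f1 d aA * (u * f1 d aA * u) * u := by rw [← hco]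

/-- Centralisers of conjugates of `t` inside the normaliser lie in it. -/
theorem cent_conj_le (hT : centralizer ({d.φ tP} : Set G) ≤ d.normBase) {h : G}
    (hh : h ∈ d.normBase) : centralizer ({h * f1 d tA * h⁻¹} : Set G) ≤ d.normBase := by
  intro y hy
  rw [mem_centralizer_singleton_iff] at hy
  have hm : h⁻¹ * y * h ∈ d.normBase := hT (mem_centralizer_singleton_iff.2 (by
    show h⁻¹ * y * h * f1 d tA = f1 d tA * (h⁻¹ * y * h)
    calc h⁻¹ * y * h * f1 d tA = h⁻¹ * (y * (h * f1 d tA * h⁻¹)) * h := by group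
      _ = f1 d tA * (h⁻¹ * y * h) := by rw [hy]; group))
  simpa [mul_assoc] using mul_mem (mul_mem hh hm) (inv_mem hh)

end

end CentEBAux

open CentEBAux in
/-- The centraliser of a product of involutions of the two factors. -/
theorem centEB : CentEBStmt.{u} := by
  intro G _ _ d hd hF hT _ x hx
  classical
  set T := f1 d tA with hT'
  set T2 := f2 d tA with hT2
  have hTT : T * T = 1 := by rw [hT', ← map_mul, fin_facts.1, map_one]
  have hT2T2 : T2 * T2 = 1 := by rw [hT2, ← map_mul, fin_facts.1, map_one]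
  have hT1 : T ≠ 1 := fun h => fin_facts.2.1 (f1_inj d (by rwa [map_one]))
  have hTc : Commute T T2 := comm hd tA tA
  set e := T * T2 with he
  set X := centralizer ({e} : Set G)
  have hxX : x ∈ X := hx
  have hee : e * e = 1 := by
    rw [he, mul_assoc, ← mul_assoc T2, ← hTc.eq, mul_assoc T, hT2T2, mul_one, hTT]
  have he1 : e ≠ 1 := by
    intro h
    have := pair_inj hd hF (a₁ := (tA, tA)) (a₂ := 1) (by rw [pair_apply, map_one]; exact h)
    exact fin_facts.2.1 (congrArg Prod.fst this)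
  have hTe : Commute T e := (Commute.refl T).mul_right hTc
  have heT : e * T = T2 := by rw [← hTe.eq, he, ← mul_assoc, hTT, one_mul]
  let tX : X := ⟨T, mem_centralizer_singleton_iff.2 hTe.eq⟩
  let eX : X := ⟨e, mem_centralizer_singleton_iff.2 rfl⟩
  have ho : orderOf eX = 2 := by
    haveI : Fact (Nat.Prime 2) := ⟨Nat.prime_two⟩
    exact orderOf_eq_prime (by rw [pow_two]; exact Subtype.ext hee)
      fun h => he1 (congrArg Subtype.val h)
  haveI hnor : (zpowers eX).Normal := by
    refine ⟨fun a ha y => ?_⟩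
    obtain ⟨n, rfl⟩ := ha
    have hy : Commute y eX := Subtype.ext (mem_centralizer_singleton_iff.1 y.2)
    rw [(hy.zpow_right n).eq, mul_inv_cancel_right]
    exact ⟨n, rfl⟩
  let π := QuotientGroup.mk' (zpowers eX)
  have hmem : ∀ y : X, y ∈ zpowers eX → (y : G) = 1 ∨ (y : G) = e := by
    intro y hy
    obtain ⟨n, rfl⟩ := mem_zpowers_iff.1 hy
    rcases Int.even_or_odd' n with ⟨m, rfl | rfl⟩
    · left
      rw [zpow_mul, zpow_ofNat, pow_two, show eX * eX = 1 from Subtype.ext hee, one_zpow]; rfl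
    · right
      rw [zpow_add, zpow_mul, zpow_ofNat, pow_two, show eX * eX = 1 from Subtype.ext hee, one_zpow,
        one_mul, zpow_one]
  have hiso : IsIsolatedInvolution (π tX) := by
    haveI : Fact (Nat.Prime 2) := ⟨Nat.prime_two⟩
    refine ⟨orderOf_eq_prime (by
      rw [pow_two, ← map_mul, show tX * tX = 1 from Subtype.ext hTT, map_one]) ?_, ?_⟩
    · intro h
      rcases hmem tX ((QuotientGroup.eq_one_iff tX).1 h) with r | r
      · exact hT1 r
      · have r' : T = T * T2 := r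
        have hT21 : T2 = 1 := (mul_eq_left.1 r'.symm)
        exact fin_facts.2.1 (f_sep hd hF (p := 1) (q := tA) (by rw [map_one]; exact hT21.symm)).2
    · intro gb hcom
      obtain ⟨y, rfl⟩ := QuotientGroup.mk'_surjective (zpowers eX) gb
      have hy : Commute (y : G) e := mem_centralizer_singleton_iff.1 y.2
      set w := y * tX * y⁻¹ with hw
      have hk : w * tX * w⁻¹ * tX⁻¹ ∈ zpowers eX := by
        rw [← QuotientGroup.eq_one_iff]
        show π (w * tX * w⁻¹ * tX⁻¹) = 1
        have hc' : Commute (π tX) (π w) := by rw [hw, map_mul, map_mul, map_inv]; exact hcom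
        rw [map_mul, map_mul, map_mul, map_inv, map_inv, ← hc'.eq]; group
      show π y * π tX * (π y)⁻¹ = π tX
      rw [← map_inv, ← map_mul, ← map_mul, ← hw]
      rcases hmem _ hk with r | r
      · have hc : Commute (w : G) T := by
          have : (w : G) * T * (w : G)⁻¹ * T⁻¹ = 1 := r
          exact mul_inv_eq_iff_eq_mul.1 (mul_inv_eq_one.1 this)
        rcases fusion hd hF hT hy hc with f | f
        · exact congrArg π (Subtype.ext f)
        · have hw2 : w = eX * tX := Subtype.ext (f.trans heT.symm)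
          rw [hw2, map_mul, show π eX = 1 from (QuotientGroup.eq_one_iff eX).2 (mem_zpowers eX),
            one_mul]
      · exfalso
        have r' : (w : G) * T * (w : G)⁻¹ * T⁻¹ = e := r
        exact not_swap hd hF hT ((mul_inv_eq_iff_eq_mul.1 r').trans heT)
  -- the odd core
  set O := oddCore X with hO
  haveI : O.Normal := by rw [hO]; unfold oddCore; infer_instance
  set OG := O.map X.subtype
  have hodd : Odd (Nat.card OG) := by
    rw [card_map_of_injective X.subtype_injective]; exact PLayerBasic.oddCore_odd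
  set V := f1 d vA
  have hVe : Commute V e := by
    refine Commute.mul_right ?_ (comm hd vA tA)
    show f1 d vA * f1 d tA = f1 d tA * f1 d vA
    rw [← map_mul, ← map_mul, fin_facts.2.2.2.2.2.1]
  have hnorm : closure ({T, V} : Set G) ≤ normalizer (OG : Set G) := by
    have hn : ∀ y ∈ X, y ∈ normalizer (OG : Set G) := by
      intro y hy
      have hf : ∀ z : X, ∀ o ∈ OG, (z : G) * o * (z : G)⁻¹ ∈ OG := by
        rintro z _ ⟨o, ho, rfl⟩
        exact ⟨z * o * z⁻¹, (inferInstance : O.Normal).conj_mem o ho z, rfl⟩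
      rw [mem_normalizer_iff]
      refine fun o => ⟨hf ⟨y, hy⟩ o, fun h => ?_⟩
      have := hf ⟨y⁻¹, inv_mem hy⟩ _ h
      simpa [mul_assoc] using this
    rw [closure_le]
    rintro y (rfl | rfl)
    · exact hn _ tX.2
    · exact hn _ (mem_centralizer_singleton_iff.2 hVe.eq)
  have hOH : OG ≤ d.normBase := by
    refine Coprime.le_of_pair Nat.prime_two (a := T) (b := V) (Nat.coprime_two_left.2 hodd) hnorm
      ?_ (by rw [pow_two]; exact hTT) ?_ ?_ ?_ ?_
    · show f1 d tA * f1 d vA = f1 d vA * f1 d tA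
      rw [← map_mul, ← map_mul, fin_facts.2.2.2.2.2.1]
    · rw [pow_two]; show f1 d vA * f1 d vA = 1
      rw [← map_mul, fin_facts.2.2.1, map_one]
    · exact fun h => fin_facts.2.2.2.1 (f1_inj d (by rw [map_one]; exact h))
    · rintro ⟨n, hn⟩
      have hn' : f1 d (vA ^ n) = f1 d tA := by rw [map_zpow]; exact hn
      have h2 := f1_inj d hn'
      rcases Int.even_or_odd' n with ⟨m, rfl | rfl⟩
      · rw [zpow_mul, zpow_ofNat, pow_two, fin_facts.2.2.1, one_zpow] at h2
        exact fin_facts.2.1 h2.symm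
      · rw [zpow_add, zpow_mul, zpow_ofNat, pow_two, fin_facts.2.2.1, one_zpow, one_mul,
          zpow_one] at h2
        exact fin_facts.2.2.2.2.1 h2
    · intro y hy hy1
      have hle : closure ({T, V} : Set G) ≤ (centralizer ({tA} : Set A5)).map (f1 d) := by
        rw [closure_le]
        rintro z (rfl | rfl)
        · exact ⟨tA, mem_centralizer_singleton_iff.2 rfl, rfl⟩
        · exact ⟨vA, mem_centralizer_singleton_iff.2 fin_facts.2.2.2.2.2.1.symm, rfl⟩
      obtain ⟨k, hk, rfl⟩ := hle hy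
      have hk1 : k ≠ 1 := fun h => hy1 (by rw [h, map_one])
      obtain ⟨σ, rfl⟩ := invol_conj k (cent_t_sq k (mem_centralizer_singleton_iff.1 hk)) hk1
      rw [map_mul, map_mul, map_inv]
      exact inf_le_right.trans (cent_conj_le hT (base_le (f1_mem hd σ)))
  -- conclusion
  have hz := BrauerSuzukiQ.zstar hiso (π ⟨x, hxX⟩)
  rw [← map_inv, ← map_inv, ← map_mul, ← map_mul, ← map_mul] at hz
  set w := x * T * x⁻¹ with hw
  have hTi : T⁻¹ = T := inv_eq_of_mul_eq_one_right hTT
  have hww : w * w = 1 := by rw [hw, conj_mul, hTT, mul_one, mul_inv_cancel]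
  have hTH : T ∈ d.normBase := base_le (f1_mem hd _)
  have hT2H : T2 ∈ d.normBase := base_le (f2_mem hd _)
  have hcom : T * x * T⁻¹ * x⁻¹ = T * w := by rw [hw, hTi]; group
  have hfin : ∀ s : G, s * s = 1 → s ∈ d.normBase → s * w ∈ OG →
      ∀ h ∈ d.normBase, h * T * h⁻¹ = s → x ∈ d.normBase := by
    intro s hs hsH hsw h hh hhs
    have hwH : w ∈ d.normBase := by
      have := mul_mem hsH (hOH hsw)
      rwa [← mul_assoc, hs, one_mul] at this
    obtain ⟨k, hk, hk'⟩ := Involution.exists_conj_of_odd hs hww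
      (hodd.of_dvd_nat (Subgroup.orderOf_dvd_natCard _ hsw))
    have hkH : k ∈ d.normBase := by
      refine ((closure_le _).2 ?_) hk
      rintro z (rfl | rfl)
      · exact hsH
      · exact hwH
    have hm : (k * h)⁻¹ * x ∈ d.normBase := hT (mem_centralizer_singleton_iff.2 (by
      show (k * h)⁻¹ * x * T = T * ((k * h)⁻¹ * x)
      calc (k * h)⁻¹ * x * T = (k * h)⁻¹ * (x * T * x⁻¹) * x := by group
        _ = (k * h)⁻¹ * (k * (h * T * h⁻¹) * k⁻¹) * x := by rw [← hw, hhs, hk']
        _ = T * ((k * h)⁻¹ * x) := by group))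
    have := mul_mem (mul_mem hkH hh) hm
    rwa [mul_inv_cancel_left] at this
  rcases PronormalSp1.mem_oddCore_or_of_mk_mem ho hz with h' | h'
  · refine hfin T hTT hTH ?_ 1 (one_mem _) (by group)
    rw [← hcom]
    exact ⟨_, h', rfl⟩
  · refine hfin T2 hT2T2 hT2H ?_ d.g (g_mem hd) rfl
    have : e * (T * x * T⁻¹ * x⁻¹) ∈ OG := ⟨_, h', rfl⟩
    rwa [hcom, ← mul_assoc, heT] at this

end Cfsg.Agent.Lib.SymEightThree6
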