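import Mathlib

/-!
Linear maps of the elementary abelian group of order sixteen: certificates for row S3330
(brick CentT).
-/

set_option autoImplicit false

namespace Cfsg.Agent.Lib.SymEightThree6.CentTB

/-- Images of the four basis vectors. -/
abbrev Mx := Fin 16 × Fin 16 × Fin 16 × Fin 16

/-- Sum of two vectors. -/
def xr (a b : Fin 16) : Fin 16 := ⟨(a.val ^^^ b.val) % 16, Nat.mod_lt _ (by norm_num)⟩

/-- The vector `b` if the bit is set. -/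
def sel (w i : ℕ) (b : Fin 16) : Fin 16 := if w / i % 2 = 1 then b else 0

/-- Apply a map. -/
def app (m : Mx) (w : Fin 16) : Fin 16 :=
  xr (xr (sel w 1 m.1) (sel w 2 m.2.1)) (xr (sel w 4 m.2.2.1) (sel w 8 m.2.2.2))

/-- Compose two maps. -/
def comp (m n : Mx) : Mx := (app m n.1, app m n.2.1, app m n.2.2.1, app m n.2.2.2)

def mOne : Mx := (1, 2, 4, 8)
def mZ : Mx := (1, 2, 8, 12)
def mA : Mx := (2, 3, 4, 8)
def mS : Mx := (1, 3, 4, 12)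
def mG : Mx := (4, 8, 1, 2)

/-- The letters of the words. -/
def letter (x : Mx) (i : ℕ) : Mx :=
  if i = 1 then x else if i = 2 then mZ else if i = 3 then mA else if i = 4 then mS else mG

/-- Evaluate a word given by its digits to base eight. -/
def ev (x : Mx) : ℕ → ℕ → Mx
  | 0, _ => mOne
  | n + 1, c => if c = 0 then mOne else comp (letter x (c % 8)) (ev x n (c / 8))

/-- The certificates. -/
def codes : List (List (List ℕ)) := [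
  [
    [0, 0, 0, 0, 0, 0, 0, 0, 0, 0, 0, 0, 0, 0, 0, 0],
    [0, 0, 0, 0, 0, 0, 0, 0, 0, 0, 0, 0, 0, 0, 0, 0],
    [0, 0, 0, 0, 0, 0, 0, 0, 97, 97, 9, 9, 9, 9, 97, 97],
    [0, 0, 0, 0, 0, 0, 0, 0, 76, 76, 76, 76, 76, 76, 76, 76],
    [0, 0, 0, 0, 0, 0, 0, 0, 0, 0, 0, 0, 0, 0, 0, 0],
    [0, 0, 0, 0, 0, 0, 0, 0, 0, 0, 0, 0, 0, 0, 0, 0],
    [0, 0, 0, 0, 0, 0, 0, 0, 777, 73, 777, 73, 777, 73, 777, 73],
    [0, 0, 0, 0, 0, 0, 0, 0, 777, 73, 73, 777, 73, 777, 777, 73],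
    [0, 0, 81, 588, 0, 0, 717, 717, 0, 0, 593, 717, 0, 0, 649, 649],
    [0, 0, 81, 652, 0, 0, 5201, 37516, 0, 0, 593, 673, 0, 0, 5196, 5196],
    [0, 0, 785, 652, 0, 0, 777, 588, 657, 5217, 0, 0, 593, 609, 0, 0],
    [0, 0, 785, 652, 0, 0, 588, 777, 5260, 657, 0, 0, 593, 609, 0, 0],
    [0, 0, 609, 652, 0, 0, 5257, 5257, 0, 0, 5733, 5733, 0, 0, 657, 588],
    [0, 0, 785, 609, 0, 0, 5201, 5201, 0, 0, 5217, 5193, 0, 0, 777, 588],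
    [0, 0, 81, 652, 0, 0, 4745, 609, 777, 588, 0, 0, 649, 649, 0, 0],
    [0, 0, 81, 652, 0, 0, 609, 4753, 777, 588, 0, 0, 5196, 673, 0, 0]],
  [
    [0, 0, 0, 0, 0, 0, 0, 0, 0, 0, 0, 0, 0, 0, 0, 0],
    [0, 0, 0, 0, 0, 0, 0, 0, 0, 0, 0, 0, 0, 0, 0, 0],
    [0, 0, 0, 0, 0, 0, 0, 0, 76, 76, 76, 76, 76, 76, 76, 76],
    [0, 0, 0, 0, 0, 0, 0, 0, 97, 97, 9, 9, 9, 9, 97, 97],
    [0, 0, 0, 0, 0, 0, 0, 0, 0, 0, 0, 0, 0, 0, 0, 0],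
    [0, 0, 0, 0, 0, 0, 0, 0, 0, 0, 0, 0, 0, 0, 0, 0],
    [0, 0, 0, 0, 0, 0, 0, 0, 777, 73, 777, 73, 73, 777, 73, 777],
    [0, 0, 0, 0, 0, 0, 0, 0, 777, 73, 73, 777, 777, 73, 73, 777],
    [0, 0, 588, 81, 0, 0, 4689, 38985, 0, 0, 4748, 593, 0, 0, 649, 649],
    [0, 0, 652, 81, 0, 0, 37516, 5201, 0, 0, 673, 593, 0, 0, 5196, 5196],
    [0, 0, 652, 785, 0, 0, 777, 588, 5260, 657, 0, 0, 593, 609, 0, 0],
    [0, 0, 652, 785, 0, 0, 588, 777, 657, 5217, 0, 0, 593, 609, 0, 0],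
    [0, 0, 652, 609, 0, 0, 5257, 5257, 0, 0, 5837, 5837, 0, 0, 588, 657],
    [0, 0, 609, 785, 0, 0, 5201, 5201, 0, 0, 5193, 5217, 0, 0, 588, 777],
    [0, 0, 652, 81, 0, 0, 4753, 609, 777, 588, 0, 0, 5196, 673, 0, 0],
    [0, 0, 652, 81, 0, 0, 609, 4745, 777, 588, 0, 0, 649, 649, 0, 0]],
  [
    [0, 0, 0, 0, 0, 0, 0, 0, 0, 0, 0, 0, 0, 0, 0, 0],
    [0, 0, 0, 0, 0, 0, 0, 0, 0, 0, 0, 0, 0, 0, 0, 0],
    [0, 0, 0, 0, 0, 0, 0, 0, 609, 73, 609, 73, 609, 73, 609, 73],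
    [0, 0, 0, 0, 0, 0, 0, 0, 609, 73, 73, 609, 609, 73, 73, 609],
    [0, 0, 0, 0, 0, 0, 0, 0, 333, 41612, 9, 9, 2381, 174892629, 9, 9],
    [0, 0, 0, 0, 0, 0, 0, 0, 76, 76, 152397, 21325, 76, 76, 76, 76],
    [0, 0, 0, 0, 0, 0, 0, 0, 0, 0, 0, 0, 0, 0, 0, 0],
    [0, 0, 0, 0, 0, 0, 0, 0, 0, 0, 0, 0, 0, 0, 0, 0],
    [0, 0, 4705, 4705, 2637, 609, 0, 0, 0, 0, 649, 649, 14157, 588, 0, 0],
    [0, 0, 4705, 4705, 1357401, 652, 0, 0, 0, 0, 5196, 5196, 673, 588, 0, 0],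
    [0, 0, 609, 4876, 81, 652, 0, 0, 4881, 588, 0, 0, 0, 0, 657, 4873],
    [0, 0, 4876, 609, 81, 652, 0, 0, 4881, 588, 0, 0, 0, 0, 4873, 657],
    [0, 0, 4689, 4689, 1869, 588, 0, 0, 593, 609, 0, 0, 0, 0, 4705, 4705],
    [0, 0, 4745, 4745, 588, 652, 0, 0, 593, 1356505, 0, 0, 0, 0, 4689, 4689],
    [0, 0, 4769, 588, 81, 4873, 0, 0, 0, 0, 657, 673, 593, 4748, 0, 0],
    [0, 0, 588, 4769, 81, 4873, 0, 0, 0, 0, 673, 657, 593, 4748, 0, 0]],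
  [
    [0, 0, 0, 0, 0, 0, 0, 0, 0, 0, 0, 0, 0, 0, 0, 0],
    [0, 0, 0, 0, 0, 0, 0, 0, 0, 0, 0, 0, 0, 0, 0, 0],
    [0, 0, 0, 0, 0, 0, 0, 0, 609, 73, 73, 609, 73, 609, 609, 73],
    [0, 0, 0, 0, 0, 0, 0, 0, 609, 73, 609, 73, 73, 609, 73, 609],
    [0, 0, 0, 0, 0, 0, 0, 0, 333, 170698571, 9, 9, 2381, 41617, 9, 9],
    [0, 0, 0, 0, 0, 0, 0, 0, 76, 76, 76, 76, 76, 76, 21325, 152397],
    [0, 0, 0, 0, 0, 0, 0, 0, 0, 0, 0, 0, 0, 0, 0, 0],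
    [0, 0, 0, 0, 0, 0, 0, 0, 0, 0, 0, 0, 0, 0, 0, 0],
    [0, 0, 5193, 5193, 2637, 652, 0, 0, 0, 0, 649, 649, 588, 673, 0, 0],
    [0, 0, 37513, 37513, 4753, 609, 0, 0, 0, 0, 4873, 4873, 588, 1353305, 0, 0],
    [0, 0, 609, 4876, 81, 4705, 0, 0, 4881, 588, 0, 0, 0, 0, 657, 673],
    [0, 0, 4876, 609, 81, 4705, 0, 0, 4881, 588, 0, 0, 0, 0, 673, 657],
    [0, 0, 5257, 5257, 588, 652, 0, 0, 2637, 593, 0, 0, 0, 0, 5217, 5217],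
    [0, 0, 4689, 4689, 2929421, 588, 0, 0, 609, 593, 0, 0, 0, 0, 37516, 37516],
    [0, 0, 4769, 588, 81, 652, 0, 0, 0, 0, 657, 4705, 593, 4748, 0, 0],
    [0, 0, 588, 4769, 81, 652, 0, 0, 0, 0, 4705, 657, 593, 4748, 0, 0]]]

/-- The certificate of a map. -/
def code (i : Fin 4) (p q : Fin 16) : ℕ := ((codes.getD i []).getD p []).getD q 0

/-- The second image of a map. -/
def img (i : Fin 4) : Fin 16 := if i = 0 then 4 else if i = 1 then 5 else if i = 2 then 6 else 7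

/-- The pairs induced by the powers of the element of order three. -/
def turns : List (Fin 16 × Fin 16) := [(4, 8), (8, 12), (12, 4)]

theorem cert : ∀ (i : Fin 4) (p q : Fin 16),
    p ∉ [0, 1, img i, xr 1 (img i)] →
    q ∉ [0, 1, img i, xr 1 (img i), p, xr 1 p, xr (img i) p, xr (xr 1 (img i)) p] →
    (ev (1, img i, p, q) 16 (code i p q)).1 = 1 ∧
      (ev (1, img i, p, q) 16 (code i p q)).2.1 = 2 ∧
      (ev (1, img i, p, q) 16 (code i p q)).2.2 ∉ turns := by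
  decide +kernel

end Cfsg.Agent.Lib.SymEightThree6.CentTB
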