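import Cfsg.Agent.Lib.SymEightThree6.Spec
import Cfsg.Agent.Lib.SymEightThree6.CentTTables
import Cfsg.Agent.Lib.AltEightThree6.CentTCore

/-!
The centraliser of an involution of a factor in the exceptional configuration
(brick CentT of row S3330).
-/

set_option autoImplicit false
set_option linter.unusedSectionVars false
set_option linter.style.haveILetI false

namespace Cfsg.Agent.Lib.SymEightThree6

open Subgroup Equiv Cfsg

universe u

namespace CentTB

abbrev E5 := Perm (Fin 5)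
abbrev A5s : Subgroup E5 := alternatingGroup (Fin 5)

/-- The elements of the four group. -/
def P (i : Fin 4) : E5 :=
  if i = 0 then 1 else if i = 1 then tP.2 else if i = 2 then vP.2 else tP.2 * vP.2

def lo (w : Fin 16) : Fin 4 := ⟨w.val % 4, Nat.mod_lt _ (by norm_num)⟩
def hi (w : Fin 16) : Fin 4 := ⟨w.val / 4 % 4, Nat.mod_lt _ (by norm_num)⟩
/-- A five cycle. -/
def five : E5 := swap 0 1 * swap 1 2 * (swap 2 3 * swap 3 4)

theorem P_sign : ∀ i, Perm.sign (P i) = 1 := by decide +kernel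
theorem P_xr : ∀ a b : Fin 16,
    P (lo (xr a b)) = P (lo a) * P (lo b) ∧ P (hi (xr a b)) = P (hi a) * P (hi b) := by
  decide +kernel
theorem P_inj : ∀ i j, P i = P j → i = j := by decide +kernel
theorem lohi : ∀ a b : Fin 16, lo a = lo b → hi a = hi b → a = b := by decide +kernel
theorem P_values : P 0 = 1 ∧ P 1 = tP.2 ∧ P 2 = vP.2 ∧ P 3 = tP.2 * vP.2 := by decide +kernel
theorem vals : P (lo 0) = 1 ∧ P (hi 0) = 1 ∧ P (lo 1) = tP.2 ∧ P (hi 1) = 1 ∧ P (lo 2) = vP.2 ∧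
    P (hi 2) = 1 ∧ P (lo 4) = 1 ∧ P (hi 4) = tP.2 ∧ P (lo 8) = 1 ∧ P (hi 8) = vP.2 := by
  decide +kernel
theorem sign_facts : Perm.sign tP.2 = 1 ∧ Perm.sign vP.2 = 1 ∧ Perm.sign aP.2 = 1 ∧
    Perm.sign five = 1 ∧ Perm.sign dP.2 = 1 ∧ Perm.sign (cP.2 * swap 3 4) = 1 := by decide +kernel
theorem centre : ∀ p : E5, p * aP.2 = aP.2 * p → p * five = five * p → p = 1 := by decide +kernel
theorem cent_t : ∀ p : E5, Perm.sign p = 1 → p * tP.2 = tP.2 * p → ∃ i, p = P i := by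
  decide +kernel
theorem cent_tv : ∀ p : E5, Perm.sign p = 1 → p * tP.2 = tP.2 * p → p * vP.2 = vP.2 * p →
    ∃ i, p = P i := fun p h h' _ => cent_t p h h'
theorem five_c : ∀ p : E5, p * cP.2 = cP.2 * p → p ^ 5 = 1 → p = 1 := by decide +kernel
theorem five_facts : five ^ 5 = 1 ∧ five ≠ 1 := by decide +kernel
theorem invol_conj : ∀ p : E5, Perm.sign p = 1 → p * cP.2 * (p * cP.2) = 1 →
    ∃ j : E5, Perm.sign j = 1 ∧ j * (p * cP.2) * j⁻¹ = cP.2 := by decide +kernel
theorem invol_conj_even : ∀ p : E5, Perm.sign p = 1 → p * p = 1 → p ≠ 1 →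
    ∃ j : E5, Perm.sign j = 1 ∧ j * p * j⁻¹ = tP.2 := by decide +kernel
theorem norm_four : ∀ p : E5, Perm.sign p = 1 → ∀ i j, p * tP.2 * p⁻¹ = P i →
    p * vP.2 * p⁻¹ = P j → (i, j) ∈ [((1 : Fin 4), (2 : Fin 4)), (2, 3), (3, 1)] := by
  decide +kernel
theorem turn_of : ∀ a b : Fin 16, lo a = 0 → lo b = 0 →
    (hi a, hi b) ∈ [((1 : Fin 4), (2 : Fin 4)), (2, 3), (3, 1)] → (a, b) ∈ turns := by
  decide +kernel
theorem P_sq : ∀ i, P i * P i = 1 := by decide +kernel
theorem conj_z : ∀ w : Fin 16, P (lo (app mZ w)) = P (lo w) ∧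
    P (hi (app mZ w)) = aP.2 * P (hi w) * aP.2⁻¹ := by decide +kernel
theorem conj_a : ∀ w : Fin 16, P (hi (app mA w)) = P (hi w) ∧
    P (lo (app mA w)) = aP.2 * P (lo w) * aP.2⁻¹ := by decide +kernel
theorem conj_s : ∀ w : Fin 16,
    P (lo (app mS w)) = swap 3 4 * P (lo w) * (swap 3 4 : E5)⁻¹ ∧
    P (hi (app mS w)) = (dP.2 * cP.2) * P (hi w) * (dP.2 * cP.2)⁻¹ := by decide +kernel
theorem conj_g : ∀ w : Fin 16, lo (app mG w) = hi w ∧ hi (app mG w) = lo w := by decide +kernel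
theorem s_facts : (swap 3 4 : E5) * tP.2 * (swap 3 4 : E5)⁻¹ = tP.2 ∧
    (swap 3 4 : E5) * vP.2 * (swap 3 4 : E5)⁻¹ = vP.2 * tP.2 := by decide +kernel
theorem tv_comm : tP.2 * vP.2 = vP.2 * tP.2 := by decide +kernel
theorem sign_conj (p q : E5) : Perm.sign (p * q * p⁻¹) = Perm.sign q := by
  rw [map_mul, map_mul, map_inv, mul_comm (Perm.sign p), mul_inv_cancel_right]

variable {G : Type u} [Group G] [Finite G] (d : Data G)

/-- The first copy. -/
def f1 : E5 →* G := d.φ.comp (MonoidHom.inr (Perm (Fin 3)) E5)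
/-- The second copy. -/
def f2 : E5 →* G := d.ψ.comp (MonoidHom.inr (Perm (Fin 3)) E5)

theorem f1_inj : Function.Injective (f1 d) := fun _ _ h => (Prod.ext_iff.1 (d.φ_inj h)).2

theorem f2_inj : Function.Injective (f2 d) := fun _ _ h => (Prod.ext_iff.1 (d.ψ_inj h)).2

theorem f1_tP : d.φ tP = f1 d tP.2 := rfl
theorem f1_vP : d.φ vP = f1 d vP.2 := rfl
theorem f1_aP : d.φ aP = f1 d aP.2 := rfl
theorem f1_cP : d.φ cP = f1 d cP.2 := rfl
theorem f2_tP : d.ψ tP = f2 d tP.2 := rfl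
theorem f2_cP : f2 d cP.2 = f1 d cP.2 := d.ψ_c
theorem f2_aP : f2 d aP.2 = d.φ zP := d.ψ_a
theorem f2_conj (p : E5) : f2 d p = d.g * f1 d p * d.g⁻¹ := rfl

variable {d} (he : d.Exc)

theorem comm (he : d.Exc) {p q : E5} (hp : Perm.sign p = 1) (hq : Perm.sign q = 1) :
    Commute (f1 d p) (f2 d q) := he.2.2 p q hp hq

theorem f1_f2_eq (he : d.Exc) {p r : E5} (hr : Perm.sign r = 1) (h : f1 d p = f2 d r) : p = 1 := by
  have key : ∀ q : E5, Perm.sign q = 1 → p * q = q * p := fun q hq => by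
    refine f1_inj d ?_
    rw [map_mul, map_mul, h]
    exact (comm he hq hr).eq.symm
  exact centre p (key _ sign_facts.2.2.1) (key _ sign_facts.2.2.2.1)

theorem pair_inj (he : d.Exc) {p q p' q' : E5}
    (_hp' : Perm.sign p' = 1) (hq : Perm.sign q = 1) (hq' : Perm.sign q' = 1)
    (h : f1 d p * f2 d q = f1 d p' * f2 d q') : p = p' ∧ q = q' := by
  have h1 : f1 d (p'⁻¹ * p) = f2 d (q' * q⁻¹) := by
    rw [map_mul, map_mul, map_inv, map_inv]
    calc (f1 d p')⁻¹ * f1 d p = (f1 d p')⁻¹ * (f1 d p * f2 d q) * (f2 d q)⁻¹ := by group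
      _ = _ := by rw [h]; group
  have hs : Perm.sign (q' * q⁻¹) = 1 := by rw [map_mul, map_inv, hq, hq', inv_one, mul_one]
  have h2 := f1_f2_eq he hs h1
  rw [h2, map_one] at h1
  have h3 : q' * q⁻¹ = 1 := f2_inj d (h1.symm.trans (map_one _).symm)
  exact ⟨(inv_mul_eq_one.1 h2).symm, (mul_inv_eq_one.1 h3).symm⟩

/-- The product map. -/
def μ (he : d.Exc) : A5s × A5s →* G :=
  ((f1 d).comp A5s.subtype).noncommCoprod ((f2 d).comp A5s.subtype)
    (fun p q => comm he (Perm.mem_alternatingGroup.1 p.2) (Perm.mem_alternatingGroup.1 q.2))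

theorem μ_apply (he : d.Exc) (p q : A5s) : μ he (p, q) = f1 d p * f2 d q := rfl

theorem base_eq (he : d.Exc) : d.base = (μ he).range := by
  refine le_antisymm (sup_le ?_ ?_) ?_
  · rintro _ ⟨p, hp, rfl⟩
    exact ⟨(⟨p, hp⟩, 1), by rw [μ_apply, OneMemClass.coe_one, map_one, mul_one]; rfl⟩
  · rintro _ ⟨p, hp, rfl⟩
    exact ⟨(1, ⟨p, hp⟩), by rw [μ_apply, OneMemClass.coe_one, map_one, one_mul]; rfl⟩
  · rintro _ ⟨⟨p, q⟩, rfl⟩
    rw [μ_apply]
    exact mul_mem (mem_sup_left ⟨p, p.2, rfl⟩) (mem_sup_right ⟨q, q.2, rfl⟩)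

theorem exists_of_mem_base (he : d.Exc) {x : G} (hx : x ∈ d.base) :
    ∃ p q : E5, Perm.sign p = 1 ∧ Perm.sign q = 1 ∧ x = f1 d p * f2 d q := by
  rw [base_eq he] at hx
  obtain ⟨⟨p, q⟩, rfl⟩ := hx
  exact ⟨p, q, Perm.mem_alternatingGroup.1 p.2, Perm.mem_alternatingGroup.1 q.2, rfl⟩

/-- The elements centralising the four group. -/
theorem exists_of_mem_CV (he : d.Exc) {x : G} (hx : x ∈ d.CV) :
    ∃ (i : Fin 4) (q : E5), Perm.sign q = 1 ∧ x = f1 d (P i) * f2 d q := by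
  let F : Fin 4 × A5s → d.CV := fun w => ⟨f1 d (P w.1) * f2 d w.2, by
    refine mem_centralizer_iff.2 ?_
    intro r hr
    have key : ∀ i, Commute (f1 d (P i)) (f1 d (P w.1) * f2 d w.2) := fun i => by
      refine Commute.mul_right ?_ (comm he (P_sign i) (Perm.mem_alternatingGroup.1 w.2.2))
      show _ = _
      rw [← map_mul, ← map_mul]
      congr 1
      revert i
      have : ∀ a i : Fin 4, P i * P a = P a * P i := by decide +kernel
      exact this w.1
    rcases hr with rfl | hr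
    · rw [f1_tP, ← P_values.2.1]; exact (key 1).eq
    · rw [Set.mem_singleton_iff.1 hr, f1_vP, ← P_values.2.2.1]; exact (key 2).eq⟩
  have hF : Function.Injective F := fun w w' h => by
    have h' := pair_inj he (P_sign w'.1) (Perm.mem_alternatingGroup.1 w.2.2)
      (Perm.mem_alternatingGroup.1 w'.2.2) (congrArg Subtype.val h)
    exact Prod.ext (P_inj _ _ h'.1) (Subtype.ext h'.2)
  have hc : Nat.card (Fin 4 × A5s) = Nat.card d.CV := by
    rw [Nat.card_prod, Nat.card_fin, nat_card_alternatingGroup, Nat.card_fin, he.2.1]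
    norm_num [Nat.factorial]
  obtain ⟨w, hw⟩ := ((Nat.bijective_iff_injective_and_card F).2 ⟨hF, hc⟩).2 ⟨x, hx⟩
  exact ⟨w.1, w.2, Perm.mem_alternatingGroup.1 w.2.2, (congrArg Subtype.val hw).symm⟩

theorem c_not_mem (he : d.Exc) : d.φ cP ∉ d.base := fun h => by
  obtain ⟨p, q, hp, hq, hpq⟩ := exists_of_mem_base he h
  have h1 : f1 d (p⁻¹ * cP.2) = f2 d q := by
    rw [map_mul, map_inv, ← f1_cP, hpq]
    group
  have h2 := inv_mul_eq_one.1 (f1_f2_eq he hq h1)
  rw [h2] at hp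
  revert hp
  decide +kernel

theorem c_conj_mem : ∀ p : E5, Perm.sign (cP.2 * p * cP.2⁻¹) = Perm.sign p := fun p => sign_conj _ _

theorem g_sq_one (he : d.Exc) (hf : ExcFacts d) : d.g * d.g = 1 := by
  rcases d.g_sq with h | h
  · exact h
  exfalso
  have h12 : ∀ p : E5, d.g * f2 d p * d.g⁻¹ = f1 d (cP.2 * p * cP.2⁻¹) := fun p => by
    rw [map_mul, map_mul, map_inv, ← f1_cP, ← h, f2_conj]
    group
  have hmap : d.base.map (MulAut.conj d.g).toMonoidHom = d.base := by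
    refine Subgroup.eq_of_le_of_card_ge ?_ (le_of_eq
      (card_map_of_injective (MulAut.conj d.g).injective).symm)
    rintro _ ⟨x, hx, rfl⟩
    obtain ⟨p, q, hp, hq, rfl⟩ := exists_of_mem_base he hx
    show d.g * (f1 d p * f2 d q) * d.g⁻¹ ∈ d.base
    rw [show d.g * (f1 d p * f2 d q) * d.g⁻¹ =
      (d.g * f1 d p * d.g⁻¹) * (d.g * f2 d q * d.g⁻¹) by group, ← f2_conj, h12]
    exact mul_mem (mem_sup_right ⟨p, hp, rfl⟩)
      (mem_sup_left ⟨_, (c_conj_mem q).trans hq, rfl⟩)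
  have hg : d.g ∈ d.normBase := mem_normalizer_iff.2 fun x => by
    conv_rhs => rw [← hmap]
    refine ⟨fun hx => ⟨x, hx, rfl⟩, ?_⟩
    rintro ⟨y, hy, hyx⟩
    exact ((MulAut.conj d.g).injective hyx) ▸ hy
  refine c_not_mem he ?_
  rw [← h, ← pow_two]
  exact hf.sq _ hg

/-- The embedding of vectors. -/
def ι (d : Data G) (w : Fin 16) : G := f1 d (P (lo w)) * f2 d (P (hi w))

theorem ι_xr (he : d.Exc) (a b : Fin 16) : ι d (xr a b) = ι d a * ι d b := by
  show f1 d _ * f2 d _ = _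
  rw [(P_xr a b).1, (P_xr a b).2, map_mul, map_mul]
  show _ = f1 d _ * f2 d _ * (f1 d _ * f2 d _)
  rw [mul_assoc, mul_assoc]
  congr 1
  rw [← mul_assoc, ← mul_assoc, (comm he (P_sign _) (P_sign _)).eq]

theorem ι_inj (he : d.Exc) {a b : Fin 16} (h : ι d a = ι d b) : a = b := by
  obtain ⟨h1, h2⟩ := pair_inj he (P_sign _) (P_sign _) (P_sign _) h
  exact lohi _ _ (P_inj _ _ h1) (P_inj _ _ h2)

theorem ι_zero : ι d 0 = 1 := by
  rw [ι, vals.1, vals.2.1, map_one, map_one, one_mul]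

theorem ι_vals : ι d 1 = f1 d tP.2 ∧ ι d 2 = f1 d vP.2 ∧ ι d 4 = f2 d tP.2 ∧
    ι d 8 = f2 d vP.2 := by
  obtain ⟨-, -, a, b, c, e, f, g, h, i⟩ := vals
  simp only [ι, a, b, c, e, f, g, h, i, map_one, mul_one, one_mul, and_self]

/-- Conjugation acts by the map on the four basis vectors. -/
def Act (d : Data G) (h : G) (m : Mx) : Prop :=
  h * ι d 1 * h⁻¹ = ι d m.1 ∧ h * ι d 2 * h⁻¹ = ι d m.2.1 ∧ h * ι d 4 * h⁻¹ = ι d m.2.2.1 ∧
    h * ι d 8 * h⁻¹ = ι d m.2.2.2

theorem app_one : ∀ w, app mOne w = w := by decide +kernel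

theorem act_all (he : d.Exc) {h : G} {m : Mx} (H : Act d h m) (w : Fin 16) :
    h * ι d w * h⁻¹ = ι d (app m w) := by
  have hs : ∀ (n : ℕ) (e b : Fin 16), h * ι d e * h⁻¹ = ι d b →
      h * ι d (sel w n e) * h⁻¹ = ι d (sel w n b) := by
    intro n e b he'
    unfold sel
    split
    · exact he'
    · rw [ι_zero, mul_one, mul_inv_cancel]
  nth_rw 1 [← app_one w]
  simp only [app, mOne, ι_xr he]
  rw [show ∀ a b c e : G, h * (a * b * (c * e)) * h⁻¹ =
    (h * a * h⁻¹) * (h * b * h⁻¹) * ((h * c * h⁻¹) * (h * e * h⁻¹)) by intros; group,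
    hs _ _ _ H.1, hs _ _ _ H.2.1, hs _ _ _ H.2.2.1, hs _ _ _ H.2.2.2]

theorem act_of {h : G} (m : Mx) (hm : app m 1 = m.1 ∧ app m 2 = m.2.1 ∧ app m 4 = m.2.2.1 ∧
    app m 8 = m.2.2.2) (H : ∀ w, h * ι d w * h⁻¹ = ι d (app m w)) : Act d h m :=
  ⟨hm.1 ▸ H 1, hm.2.1 ▸ H 2, hm.2.2.1 ▸ H 4, hm.2.2.2 ▸ H 8⟩

theorem act_mul (he : d.Exc) {h k : G} {m n : Mx} (H : Act d h m) (K : Act d k n) :
    Act d (h * k) (comp m n) := by
  have key : ∀ w w', k * ι d w * k⁻¹ = ι d w' →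
      (h * k) * ι d w * (h * k)⁻¹ = ι d (app m w') := fun w w' hw => by
    rw [← act_all he H w', ← hw]
    group
  exact ⟨key _ _ K.1, key _ _ K.2.1, key _ _ K.2.2.1, key _ _ K.2.2.2⟩

theorem conj_two (h a b : G) : h * (a * b) * h⁻¹ = (h * a * h⁻¹) * (h * b * h⁻¹) := by group

theorem conj_fix {h a : G} (hc : Commute h a) : h * a * h⁻¹ = a := by
  rw [hc.eq, mul_inv_cancel_right]

theorem map_conj' {H : Type*} [Group H] (f : E5 →* H) (p q : E5) :
    f (p * q * p⁻¹) = f p * f q * (f p)⁻¹ := by rw [map_mul, map_mul, map_inv]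

theorem act_z (he : d.Exc) : Act d (d.φ zP) mZ := by
  refine act_of _ (by decide +kernel) fun w => ?_
  show _ = f1 d _ * f2 d _
  rw [ι, (conj_z w).1, (conj_z w).2, conj_two, map_conj', ← f2_aP,
    conj_fix (comm he (P_sign _) sign_facts.2.2.1).symm]

theorem act_a (he : d.Exc) : Act d (d.φ aP) mA := by
  refine act_of _ (by decide +kernel) fun w => ?_
  show _ = f1 d _ * f2 d _
  rw [ι, (conj_a w).1, (conj_a w).2, conj_two, map_conj', f1_aP,
    conj_fix (comm he sign_facts.2.2.1 (P_sign _))]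

theorem rP_comm (p : E5) : Commute (d.φ rP) (f1 d p) := by
  show _ = _
  rw [show f1 d p = d.φ (1, p) from rfl, ← map_mul, ← map_mul]
  congr 1

theorem act_s (he : d.Exc) : Act d (d.φ rP * f1 d (swap 3 4)) mS := by
  refine act_of _ (by decide +kernel) fun w => ?_
  show _ = f1 d _ * f2 d _
  rw [ι, (conj_s w).1, (conj_s w).2, conj_two]
  congr 1
  · rw [map_conj',
      show d.φ rP * f1 d (swap 3 4) * f1 d (P (lo w)) * (d.φ rP * f1 d (swap 3 4))⁻¹ =
        d.φ rP * (f1 d (swap 3 4) * f1 d (P (lo w)) * (f1 d (swap 3 4))⁻¹) * (d.φ rP)⁻¹ by group,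
      ← map_conj', conj_fix (rP_comm _)]
  · have e : f1 d (swap 3 4) = f1 d cP.2 * f1 d (cP.2 * swap 3 4) := by
      rw [← map_mul]
      exact congrArg _ (by decide +kernel)
    have hc := conj_fix (comm he sign_facts.2.2.2.2.2 (P_sign (hi w)))
    rw [e, show d.φ rP = f2 d dP.2 from he.1, ← f2_cP, map_conj', map_mul (f2 d) dP.2 cP.2]
    calc f2 d dP.2 * (f2 d cP.2 * f1 d (cP.2 * swap 3 4)) * f2 d (P (hi w)) *
          (f2 d dP.2 * (f2 d cP.2 * f1 d (cP.2 * swap 3 4)))⁻¹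
        = f2 d dP.2 * f2 d cP.2 * (f1 d (cP.2 * swap 3 4) * f2 d (P (hi w)) *
            (f1 d (cP.2 * swap 3 4))⁻¹) * (f2 d dP.2 * f2 d cP.2)⁻¹ := by group
      _ = _ := by rw [hc]

theorem g_f2 (he : d.Exc) (hf : ExcFacts d) (p : E5) : d.g * f2 d p * d.g⁻¹ = f1 d p := by
  rw [f2_conj, show d.g * (d.g * f1 d p * d.g⁻¹) * d.g⁻¹ =
    (d.g * d.g) * f1 d p * (d.g * d.g)⁻¹ by group, g_sq_one he hf, one_mul, inv_one, mul_one]

theorem act_g (he : d.Exc) (hf : ExcFacts d) : Act d d.g mG := by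
  refine act_of _ (by decide +kernel) fun w => ?_
  show _ = f1 d _ * f2 d _
  rw [ι, (conj_g w).1, (conj_g w).2, conj_two, g_f2 he hf, ← f2_conj]
  exact ((comm he (P_sign _) (P_sign _)).eq).symm

theorem exists_act (he : d.Exc) (hf : ExcFacts d) {x : G} {m : Mx} (H : Act d x m) :
    ∀ n c, ∃ h, Act d h (ev m n c)
  | 0, c => by
    refine ⟨1, ?_⟩
    show Act d 1 mOne
    exact act_of _ (by decide +kernel) fun w => by rw [app_one, one_mul, inv_one, mul_one]
  | n + 1, c => by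
    obtain ⟨k, hk⟩ := exists_act he hf H n (c / 8)
    by_cases hc : c = 0
    · refine ⟨1, ?_⟩
      simp only [ev, hc, if_true]
      exact act_of _ (by decide +kernel) fun w => by rw [app_one, one_mul, inv_one, mul_one]
    have hl : ∃ l, Act d l (letter m (c % 8)) := by
      unfold letter
      split
      · exact ⟨x, H⟩
      split
      · exact ⟨_, act_z he⟩
      split
      · exact ⟨_, act_a he⟩
      split
      · exact ⟨_, act_s he⟩
      · exact ⟨_, act_g he hf⟩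
    obtain ⟨l, hl⟩ := hl
    refine ⟨l * k, ?_⟩
    simp only [ev, hc, if_false]
    exact act_mul he hl hk

theorem apps : ∀ (i : Fin 4) (p q : Fin 16),
    app (1, img i, p, q) 0 = 0 ∧ app (1, img i, p, q) 1 = 1 ∧ app (1, img i, p, q) 2 = img i ∧
    app (1, img i, p, q) 3 = xr 1 (img i) ∧ app (1, img i, p, q) 4 = p ∧
    app (1, img i, p, q) 5 = xr 1 p ∧ app (1, img i, p, q) 6 = xr (img i) p ∧
    app (1, img i, p, q) 7 = xr (xr 1 (img i)) p ∧ app (1, img i, p, q) 8 = q := by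
  decide +kernel

/-- No element normalising the sixteen group moves `v` out of the four group fixing `t`. -/
theorem no_fusion (he : d.Exc) (hf : ExcFacts d) {x : G} {i : Fin 4} {p q : Fin 16}
    (H : Act d x (1, img i, p, q)) : False := by
  obtain ⟨a0, a1, a2, a3, a4, a5, a6, a7, a8⟩ := apps i p q
  have hinj : ∀ {w w' : Fin 16}, app (1, img i, p, q) w = app (1, img i, p, q) w' → w = w' :=
    fun {w w'} e => ι_inj he (mul_left_cancel (mul_right_cancel
      ((act_all he H w).trans ((congrArg (ι d) e).trans (act_all he H w').symm))))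
  have hp : p ∉ [0, 1, img i, xr 1 (img i)] := by
    intro h
    simp only [List.mem_cons, List.not_mem_nil, or_false] at h
    rcases h with h | h | h | h
    · exact absurd (hinj (a4.trans (h.trans a0.symm))) (by decide)
    · exact absurd (hinj (a4.trans (h.trans a1.symm))) (by decide)
    · exact absurd (hinj (a4.trans (h.trans a2.symm))) (by decide)
    · exact absurd (hinj (a4.trans (h.trans a3.symm))) (by decide)
  have hq : q ∉ [0, 1, img i, xr 1 (img i), p, xr 1 p, xr (img i) p,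
      xr (xr 1 (img i)) p] := by
    intro h
    simp only [List.mem_cons, List.not_mem_nil, or_false] at h
    rcases h with h | h | h | h | h | h | h | h
    · exact absurd (hinj (a8.trans (h.trans a0.symm))) (by decide)
    · exact absurd (hinj (a8.trans (h.trans a1.symm))) (by decide)
    · exact absurd (hinj (a8.trans (h.trans a2.symm))) (by decide)
    · exact absurd (hinj (a8.trans (h.trans a3.symm))) (by decide)
    · exact absurd (hinj (a8.trans (h.trans a4.symm))) (by decide)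
    · exact absurd (hinj (a8.trans (h.trans a5.symm))) (by decide)
    · exact absurd (hinj (a8.trans (h.trans a6.symm))) (by decide)
    · exact absurd (hinj (a8.trans (h.trans a7.symm))) (by decide)
  obtain ⟨c1, c2, c3⟩ := cert i p q hp hq
  obtain ⟨h, hh⟩ := exists_act he hf H 16 (code i p q)
  generalize ev (1, img i, p, q) 16 (code i p q) = m at c1 c2 c3 hh
  obtain ⟨h1, h2, h4, h8⟩ := hh
  obtain ⟨vt, vv, vk, vl⟩ := ι_vals (d := d)
  have hfix : ∀ {w : Fin 16}, h * ι d w * h⁻¹ = ι d w → Commute h (ι d w) := fun {w} e =>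
    mul_inv_eq_iff_eq_mul.1 e
  rw [c1] at h1
  rw [c2] at h2
  have hCV : h ∈ d.CV := mem_centralizer_iff.2 fun r hr => by
    rcases hr with rfl | hr
    · rw [f1_tP, ← vt]; exact (hfix h1).eq.symm
    · rw [Set.mem_singleton_iff.1 hr, f1_vP, ← vv]; exact (hfix h2).eq.symm
  obtain ⟨j, r, hr, rfl⟩ := exists_of_mem_CV he hCV
  have hact : ∀ s : E5, Perm.sign s = 1 → f1 d (P j) * f2 d r * f2 d s * (f1 d (P j) * f2 d r)⁻¹ =
      f1 d 1 * f2 d (r * s * r⁻¹) := fun s hs => by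
    rw [map_one, one_mul, map_conj']
    have hc := conj_fix (comm he (P_sign j) (show Perm.sign (r * s * r⁻¹) = 1 by rw [sign_conj, hs]))
    rw [map_conj'] at hc
    calc f1 d (P j) * f2 d r * f2 d s * (f1 d (P j) * f2 d r)⁻¹
        = f1 d (P j) * (f2 d r * f2 d s * (f2 d r)⁻¹) * (f1 d (P j))⁻¹ := by group
      _ = _ := hc
  have k4 := pair_inj he (P_sign (lo m.2.2.1))
    (show Perm.sign (r * tP.2 * r⁻¹) = 1 by rw [sign_conj]; exact sign_facts.1) (P_sign _)
    ((hact _ sign_facts.1).symm.trans (by rw [← vk]; exact h4))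
  have k8 := pair_inj he (P_sign (lo m.2.2.2))
    (show Perm.sign (r * vP.2 * r⁻¹) = 1 by rw [sign_conj]; exact sign_facts.2.1) (P_sign _)
    ((hact _ sign_facts.2.1).symm.trans (by rw [← vl]; exact h8))
  exact c3 (turn_of _ _ (P_inj _ _ (k4.1.symm.trans P_values.1.symm))
    (P_inj _ _ (k8.1.symm.trans P_values.1.symm)) (norm_four r hr _ _ k4.2 k8.2))

theorem c_sq (d : Data G) : f1 d cP.2 * f1 d cP.2 = 1 := by
  rw [← map_mul, show cP.2 * cP.2 = (1 : E5) by decide +kernel, map_one]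

theorem c_conj (p q : E5) : f1 d cP.2 * (f1 d p * f2 d q) * (f1 d cP.2)⁻¹ =
    f1 d (cP.2 * p * cP.2⁻¹) * f2 d (cP.2 * q * cP.2⁻¹) := by
  rw [map_conj', map_conj', f2_cP, conj_two]

/-- The involution `v` is not conjugate to `c`. -/
theorem not_conj_c (he : d.Exc) (hf : ExcFacts d) (y : G) :
    y * f1 d vP.2 * y⁻¹ ≠ f1 d cP.2 := by
  intro hy
  set e := y * f2 d five * y⁻¹ with hedef
  have hec : Commute e (f1 d cP.2) := by
    rw [← hy]
    exact (Commute.conj_iff y).2 (comm he sign_facts.2.1 sign_facts.2.2.2.1).symm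
  have he5 : e ^ 5 = 1 := by
    rw [hedef, conj_pow, ← map_pow, five_facts.1, map_one, mul_one, mul_inv_cancel]
  have heM : e ∈ d.normBase := hf.centC_le (mem_centralizer_singleton_iff.2 hec.eq)
  have heb : e ∈ d.base := by
    have h := pow_mem (hf.sq e heM) 3
    rwa [← pow_mul, show 2 * 3 = 5 + 1 by norm_num, pow_succ, he5, one_mul] at h
  obtain ⟨p, q, hp, hq, hpq⟩ := exists_of_mem_base he heb
  have hc : f1 d (cP.2 * p * cP.2⁻¹) * f2 d (cP.2 * q * cP.2⁻¹) = f1 d p * f2 d q := by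
    rw [← c_conj, ← hpq, hec.symm.eq, mul_inv_cancel_right]
  obtain ⟨hp', hq'⟩ := pair_inj he hp ((c_conj_mem q).trans hq) hq hc
  have h5 : f1 d (p ^ 5) * f2 d (q ^ 5) = f1 d 1 * f2 d 1 := by
    rw [map_one, map_one, one_mul, map_pow, map_pow, ← (comm he hp hq).mul_pow, ← hpq, he5]
  obtain ⟨hp5, hq5⟩ := pair_inj he (map_one _) (by rw [map_pow, hq, one_pow]) (map_one _) h5
  have p1 := five_c p (mul_inv_eq_iff_eq_mul.1 hp').symm hp5
  have q1 := five_c q (mul_inv_eq_iff_eq_mul.1 hq').symm hq5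
  rw [p1, q1, map_one, map_one, one_mul] at hpq
  exact five_facts.2 (f2_inj d ((conj_eq_one_iff.1 hpq).trans (map_one _).symm))

theorem lohi_img : ∀ i, lo (img i) = i ∧ hi (img i) = 1 := by decide +kernel

theorem xr_comm : ∀ a b, xr a b = xr b a := by decide +kernel

theorem xr_self : ∀ a, xr a a = 0 := by decide +kernel

/-- The sixteen group. -/
def A16 (he : d.Exc) : Subgroup G where
  carrier := {x | ∃ w, ι d w = x}
  one_mem' := ⟨0, ι_zero⟩
  mul_mem' := by
    rintro _ _ ⟨a, rfl⟩ ⟨b, rfl⟩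
    exact ⟨xr a b, ι_xr he a b⟩
  inv_mem' := by
    rintro _ ⟨a, rfl⟩
    exact ⟨a, (inv_eq_of_mul_eq_one_right (by rw [← ι_xr he, xr_self, ι_zero])).symm⟩

theorem card_A16 (he : d.Exc) : Nat.card (A16 he) = 16 := by
  refine (Nat.card_eq_of_bijective (fun w => (⟨ι d w, w, rfl⟩ : A16 he)) ⟨?_, ?_⟩).symm.trans
    (by simp)
  · exact fun a b h => ι_inj he (congrArg Subtype.val h)
  · rintro ⟨_, w, rfl⟩
    exact ⟨w, rfl⟩

theorem fusion_img (he : d.Exc) (hf : ExcFacts d) {g : G} (hg : Commute g (f1 d tP.2)) (i : Fin 4) :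
    g * f1 d vP.2 * g⁻¹ ≠ ι d (img i) := by
  intro hgv
  haveI : Fact (Nat.Prime 2) := ⟨Nat.prime_two⟩
  obtain ⟨vt, vv, -, -⟩ := ι_vals (d := d)
  set Ku : Subgroup G := centralizer ({f1 d tP.2, ι d (img i)} : Set G)
  set A := A16 he
  have hAc : ∀ a b, ι d a * ι d b = ι d b * ι d a := fun a b => by
    rw [← ι_xr he, ← ι_xr he, xr_comm]
  have hA : A ≤ Ku := by
    rintro _ ⟨w, rfl⟩
    refine mem_centralizer_iff.2 fun r hr => ?_
    rcases hr with rfl | hr
    · rw [← vt]; exact hAc _ _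
    · rw [Set.mem_singleton_iff.1 hr]; exact hAc _ _
  have hgt : g * f1 d tP.2 * g⁻¹ = f1 d tP.2 := conj_fix hg
  have hKu : Ku = d.CV.map (MulAut.conj g).toMonoidHom := by
    ext r
    constructor
    · intro hr
      refine ⟨g⁻¹ * r * g, mem_centralizer_iff.2 fun s hs => ?_, by
        show g * (g⁻¹ * r * g) * g⁻¹ = r; group⟩
      have h : g * s * g⁻¹ * r = r * (g * s * g⁻¹) := by
        refine mem_centralizer_iff.1 hr _ ?_
        rcases hs with rfl | hs
        · exact Or.inl (by rw [f1_tP, hgt])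
        · rw [Set.mem_singleton_iff.1 hs, f1_vP, hgv]; exact Or.inr rfl
      calc s * (g⁻¹ * r * g) = g⁻¹ * (g * s * g⁻¹ * r) * g := by group
        _ = g⁻¹ * r * g * s := by rw [h]; group
    · rintro ⟨r, hr, rfl⟩
      refine mem_centralizer_iff.2 fun s hs => ?_
      show s * (g * r * g⁻¹) = g * r * g⁻¹ * s
      have h : ∀ u ∈ ({f1 d tP.2, f1 d vP.2} : Set G), g * u * g⁻¹ * (g * r * g⁻¹) =
          g * r * g⁻¹ * (g * u * g⁻¹) := fun u hu =>
        ((Commute.conj_iff g).2 (show Commute u r from mem_centralizer_iff.1 hr u hu)).eq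
      rcases hs with rfl | hs
      · have := h _ (Or.inl rfl); rwa [hgt] at this
      · rw [Set.mem_singleton_iff.1 hs]
        have := h _ (Or.inr rfl); rwa [hgv] at this
  have hcard : Nat.card Ku = 240 := by
    rw [hKu, card_map_of_injective (MulAut.conj g).injective]
    exact he.2.1
  have hAg : A.map (MulAut.conj g).toMonoidHom ≤ Ku := by
    rw [hKu]
    refine map_mono ?_
    rintro _ ⟨w, rfl⟩
    refine mem_centralizer_iff.2 fun r hr => ?_
    rcases hr with rfl | hr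
    · rw [f1_tP, ← vt]; exact hAc _ _
    · rw [Set.mem_singleton_iff.1 hr, f1_vP, ← vv]; exact hAc _ _
  have h4 : (Nat.card Ku).factorization 2 = 4 := by
    rw [hcard, show (240 : ℕ) = 2 ^ 4 * 15 by norm_num, Nat.factorization_mul (by norm_num)
      (by norm_num), Nat.Prime.factorization_pow Nat.prime_two]
    simp [Nat.factorization_eq_zero_of_not_dvd (show ¬ 2 ∣ 15 by norm_num)]
  let S1 : Sylow 2 Ku := Sylow.ofCard ((A.map (MulAut.conj g).toMonoidHom).subgroupOf Ku) (by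
    rw [Nat.card_congr (subgroupOfEquivOfLe hAg).toEquiv,
      card_map_of_injective (MulAut.conj g).injective, card_A16, h4]; norm_num)
  let S2 : Sylow 2 Ku := Sylow.ofCard (A.subgroupOf Ku) (by
    rw [Nat.card_congr (subgroupOfEquivOfLe hA).toEquiv, card_A16, h4]; norm_num)
  obtain ⟨⟨h, hh⟩, hS⟩ := MulAction.exists_smul_eq Ku S1 S2
  have key : ∀ w, ∃ w', (h * g) * ι d w * (h * g)⁻¹ = ι d w' := fun w => by
    let y : Ku := ⟨g * ι d w * g⁻¹, hAg ⟨ι d w, ⟨w, rfl⟩, rfl⟩⟩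
    have hy : y ∈ (S1 : Subgroup Ku) := ⟨ι d w, ⟨w, rfl⟩, rfl⟩
    have : (⟨h, hh⟩ * y * ⟨h, hh⟩⁻¹ : Ku) ∈ ((⟨h, hh⟩ : Ku) • S1 : Sylow 2 Ku) :=
      Subgroup.smul_mem_pointwise_smul y (MulAut.conj (⟨h, hh⟩ : Ku)) _ hy
    rw [hS] at this
    obtain ⟨w', hw'⟩ := (this : h * (g * ι d w * g⁻¹) * h⁻¹ ∈ A)
    refine ⟨w', (?_ : _ = _).trans (hw'.symm)⟩
    show _ = h * (g * ι d w * g⁻¹) * h⁻¹
    group
  obtain ⟨p, hp⟩ := key 4
  obtain ⟨q, hq⟩ := key 8
  refine no_fusion he hf (x := h * g) (i := i) (p := p) (q := q) ⟨?_, ?_, hp, hq⟩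
  · rw [vt, show h * g * f1 d tP.2 * (h * g)⁻¹ = h * (g * f1 d tP.2 * g⁻¹) * h⁻¹ by group, hgt]
    exact conj_fix (mem_centralizer_iff.1 hh _ (Or.inl rfl)).symm
  · rw [vv, show h * g * f1 d vP.2 * (h * g)⁻¹ = h * (g * f1 d vP.2 * g⁻¹) * h⁻¹ by group, hgv]
    exact conj_fix (mem_centralizer_iff.1 hh _ (Or.inr rfl)).symm

theorem mul_c (he : d.Exc) (p k p' k' : E5) (hk : Perm.sign k = 1) (hp' : Perm.sign p' = 1) :
    f1 d p * f2 d k * f1 d cP.2 * (f1 d p' * f2 d k') =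
      f1 d (p * (cP.2 * p' * cP.2⁻¹)) * f2 d (k * (cP.2 * k' * cP.2⁻¹)) * f1 d cP.2 := by
  rw [map_mul (f1 d) p, map_mul (f2 d) k]
  calc f1 d p * f2 d k * f1 d cP.2 * (f1 d p' * f2 d k')
      = f1 d p * f2 d k * (f1 d cP.2 * (f1 d p' * f2 d k') * (f1 d cP.2)⁻¹) * f1 d cP.2 := by group
    _ = f1 d p * (f2 d k * f1 d (cP.2 * p' * cP.2⁻¹)) * f2 d (cP.2 * k' * cP.2⁻¹) *
          f1 d cP.2 := by rw [c_conj]; group
    _ = _ := by
      rw [(comm he ((c_conj_mem p').trans hp') hk).symm.eq]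
      group

theorem s_conj : f1 d (swap 3 4) * f1 d tP.2 * (f1 d (swap 3 4))⁻¹ = f1 d tP.2 ∧
    f1 d (swap 3 4) * f1 d vP.2 * (f1 d (swap 3 4))⁻¹ = f1 d vP.2 * f1 d tP.2 := by
  rw [← map_conj', ← map_conj', s_facts.1, s_facts.2, map_mul]
  exact ⟨rfl, rfl⟩

theorem swap_mem_CV {x : G} (hxt : Commute x (f1 d tP.2))
    (hx : x * f1 d vP.2 * x⁻¹ = f1 d vP.2 * f1 d tP.2) : x * f1 d (swap 3 4) ∈ d.CV := by
  obtain ⟨st, sv⟩ := s_conj (d := d)
  have tt : f1 d tP.2 * f1 d tP.2 = 1 := by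
    rw [← map_mul, ← P_values.2.1, P_sq, map_one]
  refine mem_centralizer_iff.2 fun r hr => ?_
  have key : (x * f1 d (swap 3 4)) * r * (x * f1 d (swap 3 4))⁻¹ = r := by
    rw [show (x * f1 d (swap 3 4)) * r * (x * f1 d (swap 3 4))⁻¹ =
      x * (f1 d (swap 3 4) * r * (f1 d (swap 3 4))⁻¹) * x⁻¹ by group]
    rcases hr with rfl | hr
    · rw [f1_tP, st, conj_fix hxt]
    · rw [Set.mem_singleton_iff.1 hr, f1_vP, sv, conj_two, hx, conj_fix hxt, mul_assoc, tt, mul_one]
  exact (mul_inv_eq_iff_eq_mul.1 key).symm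

theorem fin4_cases : ∀ i : Fin 4, i = 0 ∨ i = 1 ∨ i = 2 ∨ i = 3 := by decide +kernel

theorem mem_two {H : Type*} [Group H] {t x : H} (ht : t * t = 1) (hx : x ∈ zpowers t) :
    x = 1 ∨ x = t := by
  obtain ⟨k, rfl⟩ := hx
  have h2 : t ^ (2 : ℤ) = 1 := by rw [zpow_two, ht]
  rcases Int.even_or_odd k with ⟨j, rfl⟩ | ⟨j, rfl⟩
  · left; show t ^ (j + j) = 1
    rw [← two_mul, _root_.zpow_mul, h2, _root_.one_zpow]
  · right; show t ^ (2 * j + 1) = t
    rw [_root_.zpow_add, _root_.zpow_mul, h2, _root_.one_zpow, one_mul, _root_.zpow_one]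

theorem fusion (he : d.Exc) (hf : ExcFacts d) {g : G} (hg : Commute g (f1 d tP.2))
    (hu : let u := g * f1 d vP.2 * g⁻¹
      u * f1 d vP.2 * u⁻¹ = f1 d vP.2 ∨ u * f1 d vP.2 * u⁻¹ = f1 d vP.2 * f1 d tP.2) :
    g * f1 d vP.2 * g⁻¹ = f1 d vP.2 ∨ g * f1 d vP.2 * g⁻¹ = f1 d vP.2 * f1 d tP.2 := by
  set u := g * f1 d vP.2 * g⁻¹ with hudef
  have hvv : f1 d vP.2 * f1 d vP.2 = 1 := by rw [← map_mul, ← P_values.2.2.1, P_sq, map_one]
  have huu : u * u = 1 := by
    rw [hudef, ← conj_two, hvv, mul_one, mul_inv_cancel]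
  have hut : Commute u (f1 d tP.2) := by
    rw [← conj_fix hg, hudef]
    exact (Commute.conj_iff g).2 (by
      show _ = _
      rw [← map_mul, ← map_mul, tv_comm])
  rcases hu with hu | hu
  · have hm : u ∈ d.CV := mem_centralizer_iff.2 fun r hr => by
      rcases hr with rfl | hr
      · exact hut.eq.symm
      · rw [Set.mem_singleton_iff.1 hr]; exact (mul_inv_eq_iff_eq_mul.1 hu).symm
    obtain ⟨i, k, hk, hik⟩ := exists_of_mem_CV he hm
    have hkk : k * k = 1 := by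
      have : f1 d (P i * P i) * f2 d (k * k) = f1 d 1 * f2 d 1 := by
        rw [map_one, map_one, one_mul, map_mul, map_mul, ← huu, hik]
        exact ((comm he (P_sign i) hk).symm.mul_mul_mul_comm _ _).symm
      exact (pair_inj he (map_one _) (by rw [map_mul, hk, one_mul]) (map_one _) this).2
    by_cases hk1 : k = 1
    · rw [hk1, map_one, mul_one] at hik
      have hone : u ≠ 1 := fun e => by
        have : f1 d vP.2 = 1 := conj_eq_one_iff.1 e
        have := f1_inj d (this.trans (map_one _).symm)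
        revert this
        decide +kernel
      have ht' : u ≠ f1 d tP.2 := fun e => by
        have : f1 d vP.2 = f1 d tP.2 := mul_left_cancel (mul_right_cancel (e.trans (conj_fix hg).symm))
        have := f1_inj d this
        revert this
        decide +kernel
      obtain rfl | rfl | rfl | rfl := fin4_cases i
      · exact absurd (hik.trans (by rw [show P 0 = 1 from P_values.1, map_one])) hone
      · exact absurd (hik.trans (congrArg _ P_values.2.1)) ht'
      · exact Or.inl (hik.trans (congrArg _ P_values.2.2.1))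
      · refine Or.inr (hik.trans ?_)
        rw [show P 3 = _ from P_values.2.2.2, tv_comm, map_mul]
    · exfalso
      obtain ⟨j, hj, hjk⟩ := invol_conj_even k hk hkk hk1
      refine fusion_img he hf (g := f2 d j * g) ((comm he sign_facts.1 hj).symm.mul_left hg) i ?_
      rw [show f2 d j * g * f1 d vP.2 * (f2 d j * g)⁻¹ = f2 d j * u * (f2 d j)⁻¹ by
          rw [hudef]; group,
        hik, conj_two, conj_fix (comm he (P_sign i) hj).symm, ← map_conj', hjk, ι, (lohi_img i).1,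
        (lohi_img i).2, P_values.2.1]
  · exfalso
    obtain ⟨i, k, hk, hik⟩ := exists_of_mem_CV he (swap_mem_CV hut hu)
    obtain ⟨p, hpdef⟩ : ∃ p : E5, p = P i * (cP.2 * swap 3 4) := ⟨_, rfl⟩
    have hp : Perm.sign p = 1 := by rw [hpdef, map_mul, P_sign, sign_facts.2.2.2.2.2, one_mul]
    have hu' : u = f1 d p * f2 d k * f1 d cP.2 := by
      have e : (f1 d (swap 3 4))⁻¹ = f1 d (cP.2 * swap 3 4) * f1 d cP.2 := by
        rw [← map_inv, ← map_mul]
        exact congrArg _ (by decide +kernel)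
      calc u = u * f1 d (swap 3 4) * (f1 d (swap 3 4))⁻¹ := by group
        _ = f1 d (P i) * (f2 d k * f1 d (cP.2 * swap 3 4)) * f1 d cP.2 := by rw [hik, e]; group
        _ = _ := by
          rw [(comm he sign_facts.2.2.2.2.2 hk).symm.eq, hpdef, map_mul (f1 d) (P i)]
          group
    have hsq : f1 d (p * (cP.2 * p * cP.2⁻¹)) * f2 d (k * (cP.2 * k * cP.2⁻¹)) = f1 d 1 * f2 d 1 := by
      rw [map_one, map_one, one_mul]
      refine Eq.trans ?_ huu
      rw [hu', ← mul_assoc (f1 d p * f2 d k * f1 d cP.2),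
        mul_c he p k p k hk hp, mul_assoc (f1 d (p * (cP.2 * p * cP.2⁻¹)) * _), c_sq, mul_one]
    obtain ⟨s1, s2⟩ := pair_inj he (map_one _) (by rw [map_mul, c_conj_mem, hk, one_mul])
      (map_one _) hsq
    have hci : cP.2⁻¹ = cP.2 := by decide +kernel
    obtain ⟨j1, hj1, e1⟩ := invol_conj p hp (by rw [← s1, hci]; group)
    obtain ⟨j2, hj2, e2⟩ := invol_conj k hk (by rw [← s2, hci]; group)
    have z1 : j1 * p * (cP.2 * j1⁻¹ * cP.2⁻¹) = 1 := by
      rw [show j1 * p * (cP.2 * j1⁻¹ * cP.2⁻¹) = j1 * (p * cP.2) * j1⁻¹ * cP.2⁻¹ by group, e1,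
        mul_inv_cancel]
    have z2 : j2 * k * (cP.2 * j2⁻¹ * cP.2⁻¹) = 1 := by
      rw [show j2 * k * (cP.2 * j2⁻¹ * cP.2⁻¹) = j2 * (k * cP.2) * j2⁻¹ * cP.2⁻¹ by group, e2,
        mul_inv_cancel]
    set h := f1 d j1 * f2 d j2 with hh
    have hhu : h * u = f1 d (j1 * p) * f2 d (j2 * k) * f1 d cP.2 := by
      rw [hu', hh, map_mul, map_mul]
      calc f1 d j1 * f2 d j2 * (f1 d p * f2 d k * f1 d cP.2)
          = f1 d j1 * (f2 d j2 * f1 d p) * f2 d k * f1 d cP.2 := by group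
        _ = _ := by rw [(comm he hp hj2).symm.eq]; group
    have hhi : h⁻¹ = f1 d j1⁻¹ * f2 d j2⁻¹ := by
      rw [hh, _root_.mul_inv_rev, ← map_inv, ← map_inv]
      exact (comm he (by rw [map_inv, hj1, inv_one]) (by rw [map_inv, hj2, inv_one])).eq.symm
    refine not_conj_c he hf (h * g) ?_
    rw [show h * g * f1 d vP.2 * (h * g)⁻¹ = h * u * h⁻¹ by rw [hudef]; group, hhu, hhi,
      mul_c he _ _ _ _ (by rw [map_mul, hj2, hk, one_mul]) (by rw [map_inv, hj1, inv_one]), z1, z2,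
      map_one, map_one, one_mul, one_mul]

/-- The odd core of the centraliser of `t` with the consequence of the Z*-theorem. -/
theorem exists_core (he : d.Exc) (hf : ExcFacts d) :
    ∃ Q : Subgroup G, Odd (Nat.card Q) ∧ (∀ q ∈ Q, Commute q (f1 d tP.2)) ∧
      (∀ w, Commute w (f1 d tP.2) → ∀ q ∈ Q, w * q * w⁻¹ ∈ Q) ∧
      ∀ g, Commute g (f1 d tP.2) → f1 d vP.2 * g * (f1 d vP.2)⁻¹ * g⁻¹ ∈ Q ∨
        f1 d tP.2 * (f1 d vP.2 * g * (f1 d vP.2)⁻¹ * g⁻¹) ∈ Q := by
  haveI : Fact (Nat.Prime 2) := ⟨Nat.prime_two⟩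
  set W := centralizer ({f1 d tP.2} : Set G)
  have htt : f1 d tP.2 * f1 d tP.2 = 1 := by rw [← map_mul, ← P_values.2.1, P_sq, map_one]
  have hvv : f1 d vP.2 * f1 d vP.2 = 1 := by rw [← map_mul, ← P_values.2.2.1, P_sq, map_one]
  have hne : f1 d tP.2 ≠ 1 ∧ f1 d vP.2 ≠ 1 ∧ f1 d vP.2 ≠ f1 d tP.2 := by
    rw [← map_one (f1 d), (f1_inj d).ne_iff, (f1_inj d).ne_iff, (f1_inj d).ne_iff]
    decide +kernel
  let t : W := ⟨f1 d tP.2, mem_centralizer_singleton_iff.2 rfl⟩
  let v : W := ⟨f1 d vP.2, mem_centralizer_singleton_iff.2 (by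
    rw [← map_mul, ← map_mul, tv_comm])⟩
  have ho : orderOf t = 2 := by
    rw [Subgroup.orderOf_mk]
    exact orderOf_eq_prime (by rw [pow_two, htt]) hne.1
  haveI : (zpowers t).Normal := ⟨fun x hx w => by
    obtain ⟨k, rfl⟩ := hx
    have hc : Commute w t := Subtype.ext (mem_centralizer_singleton_iff.1 w.2)
    refine ⟨k, ?_⟩
    show t ^ k = w * t ^ k * w⁻¹
    rw [(hc.zpow_right k).eq, mul_inv_cancel_right]⟩
  set π := QuotientGroup.mk' (zpowers t)
  have hv2 : v * v = 1 := Subtype.ext hvv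
  have hiso : IsIsolatedInvolution (π v) := by
    refine ⟨orderOf_eq_prime ?_ ?_, ?_⟩
    · rw [pow_two, ← map_mul, hv2, map_one]
    · intro e
      rcases mem_two (Subtype.ext htt)
        ((QuotientGroup.eq_one_iff v).1 e) with h | h
      · exact hne.2.1 (congrArg Subtype.val h)
      · exact hne.2.2 (congrArg Subtype.val h)
    · intro gb
      obtain ⟨g, rfl⟩ := QuotientGroup.mk'_surjective (zpowers t) gb
      intro hc
      rw [← map_inv, ← map_mul, ← map_mul] at hc ⊢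
      set u := g * v * g⁻¹ with hu
      have hmem : v * u * v⁻¹ * u⁻¹ ∈ zpowers t := (QuotientGroup.eq_one_iff _).1 (by
        show π (v * u * v⁻¹ * u⁻¹) = 1
        rw [map_mul, map_mul, map_mul, map_inv, map_inv, hc.eq, mul_inv_cancel_right, mul_inv_cancel])
      have hvi : v⁻¹ = v := inv_eq_of_mul_eq_one_right hv2
      have huv : u * v * u⁻¹ = v ∨ u * v * u⁻¹ = v * t := by
        have e : u * v * u⁻¹ = v⁻¹ * (v * u * v⁻¹ * u⁻¹) := by nth_rw 1 [← hvi]; group
        rcases mem_two (Subtype.ext htt) hmem with h | h <;>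
          rw [h, hvi] at e
        · exact Or.inl (e.trans (mul_one v))
        · exact Or.inr e
      have hgt : Commute (g : G) (f1 d tP.2) := mem_centralizer_singleton_iff.1 g.2
      have key := fusion he hf hgt (by
        rcases huv with h | h
        · exact Or.inl (congrArg Subtype.val h)
        · exact Or.inr (congrArg Subtype.val h))
      rcases key with h | h
      · rw [show u = v from Subtype.ext h]
      · rw [show u = v * t from Subtype.ext h, map_mul,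
          show π t = 1 from (QuotientGroup.eq_one_iff t).2 (mem_zpowers t), mul_one]
  refine ⟨(oddCore W).map W.subtype, ?_, ?_, ?_, ?_⟩
  · rw [card_map_of_injective W.subtype_injective]
    exact PLayerBasic.oddCore_odd
  · rintro _ ⟨q, -, rfl⟩
    exact mem_centralizer_singleton_iff.1 q.2
  · rintro w hw _ ⟨q, hq, rfl⟩
    haveI : (oddCore W).Normal := by unfold oddCore; infer_instance
    exact ⟨⟨w, mem_centralizer_singleton_iff.2 hw.eq⟩ * q * ⟨w, mem_centralizer_singleton_iff.2 hw.eq⟩⁻¹,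
      (inferInstance : (oddCore W).Normal).conj_mem q hq _, rfl⟩
  · intro g hg
    have h := BrauerSuzukiQ.zstar hiso (π ⟨g, mem_centralizer_singleton_iff.2 hg.eq⟩)
    rw [← map_inv, ← map_inv, ← map_mul, ← map_mul, ← map_mul] at h
    rcases PronormalSp1.mem_oddCore_or_of_mk_mem ho h with h' | h'
    · exact Or.inl ⟨_, h', rfl⟩
    · exact Or.inr ⟨_, h', rfl⟩

theorem small_facts : (∀ p : Perm (Fin 3), p * p = 1 → p * zP.1 = zP.1 * p → p = 1) ∧
    (∀ p : E5, p * tP.2 = tP.2 * p → p ^ 4 = 1) ∧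
    aP.2 * tP.2 * aP.2⁻¹ = vP.2 ∧ aP.2 * vP.2 * aP.2⁻¹ = tP.2 * vP.2 ∧
    aP.2 * (tP.2 * vP.2) * aP.2⁻¹ = tP.2 ∧ aP.2 ^ 3 = 1 := by decide +kernel

/-- The odd core is trivial. -/
theorem core_eq_bot (he : d.Exc) (hf : ExcFacts d) {Q : Subgroup G} (hodd : Odd (Nat.card Q))
    (hQt : ∀ q ∈ Q, Commute q (f1 d tP.2))
    (hnorm : ∀ w, Commute w (f1 d tP.2) → ∀ q ∈ Q, w * q * w⁻¹ ∈ Q) :
    ∀ q ∈ Q, q = 1 := by
  have sq1 : ∀ q ∈ Q, q * q = 1 → q = 1 := fun q hq h => AltEightThree6.CentTB.eq_one_of_sq hodd hq h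
  have hf2t : ∀ {p : E5}, Perm.sign p = 1 → Commute (f2 d p) (f1 d tP.2) := fun {p} hp =>
    (comm he sign_facts.1 hp).symm
  have hvt : Commute (f1 d vP.2) (f1 d tP.2) := by
    show _ = _
    rw [← map_mul, ← map_mul, tv_comm]
  have hvv : f1 d vP.2 * f1 d vP.2 = 1 := by rw [← map_mul, ← P_values.2.2.1, P_sq, map_one]
  have hK2 : ∀ k, Perm.sign k = 1 → f2 d k ∈ Q → k = 1 := by
    intro k hk hkQ
    set K : Subgroup A5s := Q.comap ((f2 d).comp A5s.subtype)
    haveI : K.Normal := ⟨fun n hn w => by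
      show f2 d ((w : E5) * n * (w : E5)⁻¹) ∈ Q
      rw [map_conj']
      exact hnorm _ (hf2t (Perm.mem_alternatingGroup.1 w.2)) _ hn⟩
    haveI : IsSimpleGroup A5s := alternatingGroup.isSimpleGroup_five
    rcases IsSimpleGroup.eq_bot_or_eq_top_of_normal K inferInstance with h | h
    · exact congrArg Subtype.val ((eq_bot_iff_forall K).1 h ⟨k, hk⟩ hkQ)
    · exfalso
      have hd : Nat.card K ∣ Nat.card Q := by
        rw [← card_map_of_injective (K := K) (f := (f2 d).comp A5s.subtype)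
          ((f2_inj d).comp A5s.subtype_injective)]
        exact Subgroup.card_dvd_of_le (map_comap_le _ Q)
      have h60 := hodd.of_dvd_nat hd
      rw [h, card_top, nat_card_alternatingGroup, Nat.card_fin] at h60
      norm_num [Nat.factorial, Nat.odd_iff] at h60
  have hvfix : ∀ q ∈ Q, Commute (f1 d vP.2) q → q = 1 := by
    intro q hq hc
    have hm : q ∈ d.CV := mem_centralizer_iff.2 fun r hr => by
      rcases hr with rfl | hr
      · exact (hQt q hq).eq.symm
      · rw [Set.mem_singleton_iff.1 hr]; exact hc.eq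
    obtain ⟨i, k, hk, rfl⟩ := exists_of_mem_CV he hm
    have h2 : f1 d (P i) * f2 d k * (f1 d (P i) * f2 d k) = f2 d (k * k) := by
      calc f1 d (P i) * f2 d k * (f1 d (P i) * f2 d k)
          = f1 d (P i) * (f2 d k * f1 d (P i)) * f2 d k := by group
        _ = f1 d (P i) * f1 d (P i) * (f2 d k * f2 d k) := by
          rw [(comm he (P_sign i) hk).symm.eq]; group
        _ = _ := by rw [← map_mul, P_sq, map_one, one_mul, map_mul]
    have hkk : k * k = 1 := hK2 _ (by rw [map_mul, hk, one_mul]) (h2 ▸ mul_mem hq hq)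
    exact sq1 _ hq (by rw [h2, hkk, map_one])
  have hinv : ∀ q ∈ Q, f1 d vP.2 * q * (f1 d vP.2)⁻¹ = q⁻¹ := fun q hq =>
    AltEightThree6.CentTB.inverts hvv (hnorm _ hvt) hvfix hq
  have hab : ∀ a ∈ Q, ∀ b ∈ Q, Commute a b := by
    intro a ha b hb
    have h := hinv _ (mul_mem ha hb)
    rw [conj_two, hinv a ha, hinv b hb, ← _root_.mul_inv_rev, inv_inj] at h
    exact h.symm
  set k1 := f2 d tP.2 with hk1def
  set k2 := f2 d vP.2 with hk2def
  set z := d.φ zP with hzdef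
  have hzf : z = f2 d aP.2 := (f2_aP d).symm
  have k1t : Commute k1 (f1 d tP.2) := hf2t sign_facts.1
  have k2t : Commute k2 (f1 d tP.2) := hf2t sign_facts.2.1
  have zt : Commute z (f1 d tP.2) := by rw [hzf]; exact hf2t sign_facts.2.2.1
  have zk1 : z * k1 * z⁻¹ = k2 := by rw [hzf, hk1def, hk2def, ← map_conj', small_facts.2.2.1]
  have zk2 : z * k2 * z⁻¹ = k1 * k2 := by
    rw [hzf, hk1def, hk2def, ← map_conj', small_facts.2.2.2.1, map_mul]
  have zk3 : z * (k1 * k2) * z⁻¹ = k1 := by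
    rw [hzf, hk1def, hk2def, ← map_mul, ← map_conj', small_facts.2.2.2.2.1]
  have z3 : z * (z * z) = 1 := by
    rw [hzf, ← map_mul, ← map_mul, ← pow_two, ← pow_succ', small_facts.2.2.2.2.2, map_one]
  have k12 : Commute k1 k2 := by
    show _ = _
    rw [hk1def, hk2def, ← map_mul, ← map_mul, tv_comm]
  have k11 : k1 * k1 = 1 := by rw [hk1def, ← map_mul, ← P_values.2.1, P_sq, map_one]
  have k22 : k2 * k2 = 1 := by rw [hk2def, ← map_mul, ← P_values.2.2.1, P_sq, map_one]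
  have hfix2 : ∀ q ∈ Q, Commute k1 q → Commute k2 q → q = 1 := by
    intro q hq h1 h2
    have gi : d.g⁻¹ = d.g := inv_eq_of_mul_eq_one_right (g_sq_one he hf)
    have hcm : ∀ {p : E5}, Commute (f2 d p) q → f1 d p * (d.g * q * d.g⁻¹) = d.g * q * d.g⁻¹ * f1 d p :=
      fun {p} h => by
        have := (Commute.conj_iff d.g).2 h
        rw [g_f2 he hf] at this
        exact this.eq
    have hm : d.g * q * d.g⁻¹ ∈ d.CV := mem_centralizer_iff.2 fun r hr => by
      rcases hr with rfl | hr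
      · exact hcm h1
      · rw [Set.mem_singleton_iff.1 hr]; exact hcm h2
    obtain ⟨i, k, hk, hik⟩ := exists_of_mem_CV he hm
    have hq' : q = f1 d k * f2 d (P i) := by
      calc q = d.g * (d.g * q * d.g⁻¹) * d.g⁻¹ := by rw [gi, ← mul_assoc, ← mul_assoc,
            g_sq_one he hf, one_mul, mul_assoc, g_sq_one he hf, mul_one]
        _ = f2 d (P i) * f1 d k := by rw [hik, conj_two, g_f2 he hf, ← f2_conj]
        _ = _ := (comm he hk (P_sign i)).eq.symm
    have hkt : k * tP.2 = tP.2 * k := by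
      refine f1_inj d ?_
      rw [map_mul, map_mul]
      have h := hQt q hq
      have h' := h.mul_left (hf2t (P_sign i)).inv_left
      rw [hq', mul_inv_cancel_right] at h'
      exact h'.eq
    obtain ⟨j, rfl⟩ := cent_t k hk hkt
    refine sq1 q hq ?_
    rw [hq']
    calc f1 d (P j) * f2 d (P i) * (f1 d (P j) * f2 d (P i))
        = f1 d (P j) * (f2 d (P i) * f1 d (P j)) * f2 d (P i) := by group
      _ = f1 d (P j) * f1 d (P j) * (f2 d (P i) * f2 d (P i)) := by
        rw [(comm he (P_sign j) (P_sign i)).symm.eq]; group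
      _ = 1 := by rw [← map_mul, ← map_mul, P_sq, P_sq, map_one, map_one, one_mul]
  have hzfix : ∀ q ∈ Q, Commute z q → q = 1 := by
    intro q hq hc
    have hr : q ∈ d.φ.range := by
      rw [d.φ_range]
      refine centralizer_le_normalizer _ ?_
      rintro x ⟨n, rfl⟩
      exact (hc.zpow_left n).eq
    obtain ⟨⟨p3, p5⟩, rfl⟩ := hr
    have hi' := hinv _ hq
    rw [show f1 d vP.2 = d.φ (1, vP.2) from rfl, ← map_inv, ← map_mul, ← map_mul, ← map_inv] at hi'
    have h3 : p3 = p3⁻¹ := by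
      have := (Prod.ext_iff.1 (d.φ_inj hi')).1
      simpa using this
    have h3z : p3 * zP.1 = zP.1 * p3 := by
      have := hc.eq
      rw [hzdef, ← map_mul, ← map_mul] at this
      exact ((Prod.ext_iff.1 (d.φ_inj this)).1).symm
    have hp3 : p3 = 1 := small_facts.1 p3 (by nth_rw 2 [h3]; rw [mul_inv_cancel]) h3z
    have h5 : p5 * tP.2 = tP.2 * p5 := by
      have := (hQt _ hq).eq
      rw [show f1 d tP.2 = d.φ (1, tP.2) from rfl, ← map_mul, ← map_mul] at this
      exact (Prod.ext_iff.1 (d.φ_inj this)).2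
    have h4 : d.φ (p3, p5) ^ 4 = 1 := by
      rw [← map_pow, Prod.pow_mk, hp3, one_pow, small_facts.2.1 p5 h5]
      exact map_one _
    have := sq1 _ (mul_mem hq hq) (by rw [← pow_two, ← pow_two, ← pow_mul]; exact h4)
    exact sq1 _ hq this
  have hzQ : ∀ q ∈ Q, z * q * z⁻¹ ∈ Q := hnorm _ zt
  have k1fix : ∀ q ∈ Q, Commute k1 q → q = 1 := by
    intro q hq hc
    have hm : k2 * q * k2⁻¹ ∈ Q := hnorm _ k2t q hq
    have i2 : k2 * q * k2⁻¹ = q⁻¹ := by
      refine eq_inv_of_mul_eq_one_right (hfix2 _ (mul_mem hq hm) ?_ ?_)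
      · exact hc.mul_right ((k12.mul_right hc).mul_right k12.inv_right)
      · show k2 * _ = _ * k2
        have hi : k2⁻¹ = k2 := inv_eq_of_mul_eq_one_right k22
        calc k2 * (q * (k2 * q * k2⁻¹))
            = (k2 * q * k2⁻¹) * (k2 * k2) * q * k2⁻¹ := by group
          _ = (k2 * q * k2⁻¹) * q * k2 := by rw [k22, mul_one, hi]
          _ = q * (k2 * q * k2⁻¹) * k2 := by rw [(hab _ hm _ hq).eq]
    set q1 := z * q * z⁻¹ with hq1
    set q2 := z * q1 * z⁻¹ with hq2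
    have m1 : q1 ∈ Q := hzQ q hq
    have m2 : q2 ∈ Q := hzQ q1 m1
    have f_q1 : k2 * q1 * k2⁻¹ = q1 := by
      rw [← zk1, hq1]
      calc z * k1 * z⁻¹ * (z * q * z⁻¹) * (z * k1 * z⁻¹)⁻¹
          = z * (k1 * q * k1⁻¹) * z⁻¹ := by group
        _ = _ := by rw [conj_fix hc]
    have i3_q1 : (k1 * k2) * q1 * (k1 * k2)⁻¹ = q1⁻¹ := by
      rw [← zk2, hq1]
      calc z * k2 * z⁻¹ * (z * q * z⁻¹) * (z * k2 * z⁻¹)⁻¹
          = z * (k2 * q * k2⁻¹) * z⁻¹ := by group
        _ = _ := by rw [i2]; group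
    have i1_q1 : k1 * q1 * k1⁻¹ = q1⁻¹ := by
      calc k1 * q1 * k1⁻¹ = k1 * (k2 * q1 * k2⁻¹) * k1⁻¹ := by rw [f_q1]
        _ = (k1 * k2) * q1 * (k1 * k2)⁻¹ := by group
        _ = _ := i3_q1
    have i1_q2 : k1 * q2 * k1⁻¹ = q2⁻¹ := by
      rw [← zk3, hq2]
      calc z * (k1 * k2) * z⁻¹ * (z * q1 * z⁻¹) * (z * (k1 * k2) * z⁻¹)⁻¹
          = z * ((k1 * k2) * q1 * (k1 * k2)⁻¹) * z⁻¹ := by group
        _ = _ := by rw [i3_q1]; group
    have hzz : z * q2 * z⁻¹ = q := by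
      rw [hq2, hq1]
      calc z * (z * (z * q * z⁻¹) * z⁻¹) * z⁻¹ = z * (z * z) * q * (z * (z * z))⁻¹ := by group
        _ = q := by rw [z3, one_mul, inv_one, mul_one]
    have hprod : q * q1 * q2 = 1 := hzfix _ (mul_mem (mul_mem hq m1) m2) (by
      refine mul_inv_eq_iff_eq_mul.1 ?_
      rw [conj_two, conj_two, hzz]
      show q1 * q2 * q = q * q1 * q2
      rw [(hab _ (mul_mem m1 m2) _ hq).eq, mul_assoc q q1 q2])
    have h2 : q * q1⁻¹ * q2⁻¹ = 1 := by
      have := congrArg (fun x => k1 * x * k1⁻¹) hprod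
      simp only [conj_two, conj_fix hc, i1_q1, i1_q2, mul_one, mul_inv_cancel] at this
      exact this
    refine sq1 q hq ?_
    rw [mul_assoc, ← _root_.mul_inv_rev, mul_inv_eq_one] at h2
    rw [mul_assoc] at hprod
    calc q * q = q * (q2 * q1) := by rw [← h2]
      _ = q * (q1 * q2) := by rw [(hab _ m2 _ m1).eq]
      _ = 1 := hprod
  have k2fix : ∀ q ∈ Q, Commute k2 q → q = 1 := by
    intro q hq hc
    have h1 : z⁻¹ * q * z ∈ Q := by
      have := hnorm _ zt.inv_left q hq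
      rwa [inv_inv] at this
    have := k1fix _ h1 (by
      refine (Commute.conj_iff z).1 ?_
      rw [zk1, show z * (z⁻¹ * q * z) * z⁻¹ = q by group]
      exact hc)
    calc q = z * (z⁻¹ * q * z) * z⁻¹ := by group
      _ = 1 := by rw [this]; group
  intro q hq
  have i1 := AltEightThree6.CentTB.inverts k11 (hnorm _ k1t) k1fix hq
  have i2 := AltEightThree6.CentTB.inverts k22 (hnorm _ k2t) k2fix hq
  have h3 : (k1 * k2) * q * (k1 * k2)⁻¹ = q := by
    rw [show (k1 * k2) * q * (k1 * k2)⁻¹ = k1 * (k2 * q * k2⁻¹) * k1⁻¹ by group, i2,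
      show k1 * q⁻¹ * k1⁻¹ = (k1 * q * k1⁻¹)⁻¹ by group, i1, inv_inv]
  have k3fix : q = 1 := by
    have h4 : Commute k1 (z * q * z⁻¹) := by
      rw [← zk3]
      exact (Commute.conj_iff z).2 (mul_inv_eq_iff_eq_mul.1 h3)
    exact conj_eq_one_iff.1 (k1fix _ (hzQ q hq) h4)
  exact k3fix

end CentTB

open CentTB in
/-- The centraliser of an involution of a factor lies in the normaliser of the product. -/
theorem centT : CentTStmt.{u} := by
  intro G _ _ d he hf g hg
  obtain ⟨Q, hodd, hQt, hnorm, hz⟩ := exists_core he hf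
  have hQ := core_eq_bot he hf hodd hQt hnorm
  have hgt : Commute g (f1 d tP.2) := mem_centralizer_singleton_iff.1 hg
  have hvv : f1 d vP.2 * f1 d vP.2 = 1 := by rw [← map_mul, ← P_values.2.2.1, P_sq, map_one]
  have htt : f1 d tP.2 * f1 d tP.2 = 1 := by rw [← map_mul, ← P_values.2.1, P_sq, map_one]
  have hvi : (f1 d vP.2)⁻¹ = f1 d vP.2 := inv_eq_of_mul_eq_one_right hvv
  have hti : (f1 d tP.2)⁻¹ = f1 d tP.2 := inv_eq_of_mul_eq_one_right htt
  rcases hz g hgt with h | h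
  · have h1 := mul_inv_eq_one.1 (hQ _ h)
    refine hf.cv_le (mem_centralizer_iff.2 fun r hr => ?_)
    rcases hr with rfl | hr
    · exact hgt.eq.symm
    · rw [Set.mem_singleton_iff.1 hr]; exact mul_inv_eq_iff_eq_mul.1 h1
  · have h1 : f1 d vP.2 * g * (f1 d vP.2)⁻¹ * g⁻¹ = f1 d tP.2 :=
      hti ▸ (eq_inv_of_mul_eq_one_right (hQ _ h))
    have h2 : g * f1 d vP.2 * g⁻¹ = f1 d vP.2 * f1 d tP.2 := by
      calc g * f1 d vP.2 * g⁻¹
          = (f1 d vP.2)⁻¹ * (f1 d vP.2 * g * (f1 d vP.2)⁻¹ * g⁻¹) *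
              (g * (f1 d vP.2 * f1 d vP.2) * g⁻¹) := by group
        _ = _ := by rw [h1, hvi, hvv]; group
    have hs : f1 d (swap 3 4) ∈ d.normBase := hf.c3_le (mem_centralizer_singleton_iff.2 (by
      rw [show f1 d (swap 3 4) = d.φ (1, swap 3 4) from rfl, ← map_mul, ← map_mul]
      congr 1))
    have := mul_mem (hf.cv_le (swap_mem_CV hgt h2)) ((d.normBase).inv_mem hs)
    rwa [mul_inv_cancel_right] at this

end Cfsg.Agent.Lib.SymEightThree6
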