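import Cfsg.Agent.Lib.SymEightThree6.Spec
import Cfsg.Agent.Lib.Coprime.Generation
import Cfsg.Agent.S3331
import Cfsg.Agent.Lib.PSLSpectrum.Spectrum
import Mathlib

/-!
The centraliser of the four group of the first system: small, commuting four groups, or commuting
alternating groups.
-/

set_option autoImplicit false
set_option linter.style.haveILetI false
set_option linter.unusedSectionVars false

namespace Cfsg.Agent.Lib.SymEightThree6.DichProof

open Equiv Subgroup
open scoped Pointwise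

universe u

abbrev P3 := Equiv.Perm (Fin 3)
abbrev P5 := Equiv.Perm (Fin 5)

def z3 : P3 := swap 0 1 * swap 1 2
def a5 : P5 := swap 2 3 * swap 3 4
def t5 : P5 := swap 1 2 * swap 3 4
def v5 : P5 := swap 1 3 * swap 2 4
def t6 : P5 := swap 0 2 * swap 3 4
def v6 : P5 := swap 0 3 * swap 2 4
def c5 : P5 := swap 0 1
def d5 : P5 := swap 0 1 * swap 3 4

theorem p3_facts : ∀ p : P3, (p * z3 = z3 * p → p = 1 ∨ p = z3 ∨ p = z3 * z3) ∧
    (p * z3 = z3 * p → p ^ 3 = 1) ∧ (p ≠ 1 → ∃ q : P3, p * (q * p * q⁻¹) ≠ 1 ∧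
      (p * (q * p * q⁻¹)) ^ 3 = 1) := by
  decide +kernel

theorem cent_klein : ∀ q : P5, q * t5 = t5 * q → q * v5 = v5 * q →
    q = 1 ∨ q = t5 ∨ q = v5 ∨ q = t5 * v5 := by
  decide +kernel

theorem cent_three : ∀ q : P5, q * t5 = t5 * q → q * v5 = v5 * q → q * a5 = a5 * q → q = 1 := by
  decide +kernel

theorem cent_gens : ∀ q : P5, q * t5 = t5 * q → q * v5 = v5 * q → q * t6 = t6 * q →
    q = 1 := by
  decide +kernel

theorem sign_pow : ∀ u : ℤˣ, u ^ 5 = 1 → u = 1 := by decide +kernel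

theorem c5_not : c5 * t5 ≠ t5 * c5 := by decide +kernel

def c1 (q : P5) : P5 := a5 * q * a5⁻¹
def c2 (q : P5) : P5 := a5⁻¹ * q * a5
def w1 (q : P5) : P5 := q * q * c1 q * c2 q
def w2 (q : P5) : P5 := q * q * c2 q * c1 q
def w3 (q : P5) : P5 := q * c1 q * q * c2 q

theorem words : ∀ q : P5,
    (q = 1 ∨ q = t5 ∨ q = v5 ∨ q = t5 * v5) ∨ (q = 1 ∨ q = t6 ∨ q = v6 ∨ q = t6 * v6) ∨ q = c5 ∨
      (w1 q ≠ 1 ∧ w1 q * w1 q * w1 q = 1) ∨ (w2 q ≠ 1 ∧ w2 q * w2 q * w2 q = 1) ∨
      (w3 q ≠ 1 ∧ w3 q * w3 q * w3 q = 1) := by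
  decide +kernel

/-- The four group generated by two commuting involutions. -/
def four {G : Type*} [Group G] (t v : G) (ht : t * t = 1) (hv : v * v = 1) (h : t * v = v * t) :
    Subgroup G where
  carrier := {1, t, v, t * v}
  one_mem' := by simp
  mul_mem' := by
    have e1 : t * (t * v) = v := by rw [← mul_assoc, ht, one_mul]
    have e2 : v * (t * v) = t := by rw [h, ← mul_assoc, hv, one_mul]
    have e3 : t * v * t = v := by rw [h, mul_assoc, ht, mul_one]
    have e4 : t * v * v = t := by rw [mul_assoc, hv, mul_one]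
    have e5 : t * v * (t * v) = 1 := by rw [← mul_assoc, e3, hv]
    intro a b ha hb
    simp only [Set.mem_insert_iff, Set.mem_singleton_iff] at ha hb ⊢
    rcases ha with rfl | rfl | rfl | rfl <;> rcases hb with rfl | rfl | rfl | rfl <;>
      simp [ht, hv, e1, e2, e3, e4, e5, h.symm]
  inv_mem' := by
    have e5 : t * v * (t * v) = 1 := by
      rw [← mul_assoc, h, mul_assoc v, ht, mul_one, hv]
    intro a ha
    simp only [Set.mem_insert_iff, Set.mem_singleton_iff] at ha ⊢
    rcases ha with rfl | rfl | rfl | rfl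
    · simp
    · rw [inv_eq_of_mul_eq_one_right ht]; simp
    · rw [inv_eq_of_mul_eq_one_right hv]; simp
    · rw [inv_eq_of_mul_eq_one_right e5]; simp

def W0 : Subgroup P5 := four t5 v5 (by decide +kernel) (by decide +kernel) (by decide +kernel)
def W1 : Subgroup P5 := four t6 v6 (by decide +kernel) (by decide +kernel) (by decide +kernel)

theorem mem_W0 {q : P5} : q ∈ W0 ↔ q = 1 ∨ q = t5 ∨ q = v5 ∨ q = t5 * v5 := Iff.rfl
theorem mem_W1 {q : P5} : q ∈ W1 ↔ q = 1 ∨ q = t6 ∨ q = v6 ∨ q = t6 * v6 := Iff.rfl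

theorem card_W0 : Nat.card W0 = 4 := by
  rw [Nat.card_congr (Equiv.subtypeEquivRight (q := fun q => q ∈ ({1, t5, v5, t5 * v5} : Finset P5))
    fun q => by simp [mem_W0]), Nat.card_eq_finsetCard]
  decide +kernel

theorem card_W1 : Nat.card W1 = 4 := by
  rw [Nat.card_congr (Equiv.subtypeEquivRight (q := fun q => q ∈ ({1, t6, v6, t6 * v6} : Finset P5))
    fun q => by simp [mem_W1]), Nat.card_eq_finsetCard]
  decide +kernel

theorem cross : ∀ q₀ q₁ : P5, q₀ ∈ [t5, v5, t5 * v5] → q₁ ∈ [t6, v6, t6 * v6] →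
    q₀ * q₁ ∉ [1, t5, v5, t5 * v5] ∧ q₀ * q₁ ∉ [1, t6, v6, t6 * v6] := by
  intro q₀ q₁ h0 h1
  simp only [List.mem_cons, List.not_mem_nil, or_false] at h0 h1
  rcases h0 with rfl | rfl | rfl <;> rcases h1 with rfl | rfl | rfl <;> decide +kernel

theorem orbit0 : ∀ q ∈ [t5, v5, t5 * v5], ∀ r ∈ [t5, v5, t5 * v5],
    r = q ∨ r = c1 q ∨ r = c2 q := by
  decide +kernel

theorem orbit1 : ∀ q ∈ [t6, v6, t6 * v6], ∀ r ∈ [t6, v6, t6 * v6],
    r = q ∨ r = c1 q ∨ r = c2 q := by
  decide +kernel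

/-- Embedding of the second factor. -/
abbrev i5 : P5 →* P35 := MonoidHom.inr P3 P5

theorem pow_eq_one_of_coprime {G : Type*} [Group G] {x : G} {n : ℕ} (h3 : x ^ 3 = 1)
    (hn : x ^ n = 1) (h : ¬ 3 ∣ n) : x = 1 := by
  have : x ^ Nat.gcd 3 n = 1 := pow_gcd_eq_one.2 ⟨h3, hn⟩
  rwa [(Nat.prime_three.coprime_iff_not_dvd.2 h).gcd_eq_one, pow_one] at this

theorem pow_eq_one_of_gcd {G : Type*} [Group G] {x : G} {m n : ℕ} (hm : x ^ m = 1)
    (hn : x ^ n = 1) (h : Nat.Coprime m n) : x = 1 := by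
  have : x ^ Nat.gcd m n = 1 := pow_gcd_eq_one.2 ⟨hm, hn⟩
  rwa [h.gcd_eq_one, pow_one] at this

theorem normal_perm_three (K : Subgroup P3) [K.Normal] (h : ¬ 3 ∣ Nat.card K) : K = ⊥ := by
  rw [eq_bot_iff_forall]
  intro p hp
  by_contra hp1
  obtain ⟨q, hne, h3⟩ := (p3_facts p).2.2 hp1
  have hm : p * (q * p * q⁻¹) ∈ K := K.mul_mem hp ((inferInstance : K.Normal).conj_mem p hp q)
  have := congrArg Subtype.val (pow_eq_one_of_coprime (x := (⟨_, hm⟩ : K)) (Subtype.ext h3)
    pow_card_eq_one' h)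
  exact hne this

theorem card_A5 : Nat.card (alternatingGroup (Fin 5)) = 60 := by
  rw [Nat.card_eq_fintype_card]
  decide +kernel

theorem normal_A5 (K : Subgroup (alternatingGroup (Fin 5))) [K.Normal] (h : ¬ 3 ∣ Nat.card K) :
    K = ⊥ := by
  haveI := alternatingGroup.isSimpleGroup_five
  refine ((inferInstance : K.Normal).eq_bot_or_eq_top).resolve_right fun ht => h ?_
  rw [ht, card_top, card_A5]
  norm_num

theorem eq_top_of_index_le {K : Subgroup (alternatingGroup (Fin 5))} (h : K.index ≤ 4) : K = ⊤ := by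
  haveI := alternatingGroup.isSimpleGroup_five
  rcases (normalCore_normal K).eq_bot_or_eq_top with hc | hc
  · exfalso
    rw [normalCore_eq_ker, MonoidHom.ker_eq_bot_iff] at hc
    have h1 := Nat.card_le_card_of_injective _ hc
    rw [Nat.card_perm, card_A5, ← index_eq_card] at h1
    have := Nat.factorial_le h
    norm_num [Nat.factorial] at this
    omega
  · exact top_le_iff.1 (hc ▸ K.normalCore_le)

theorem card_five : Nat.card {y : alternatingGroup (Fin 5) // y ^ 5 = 1 ∧ y ≠ 1} = 24 := by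
  rw [Nat.card_eq_fintype_card]
  decide +kernel

def tA : alternatingGroup (Fin 5) :=
  ⟨t5, Equiv.Perm.mem_alternatingGroup.2 (by decide +kernel)⟩
def vA : alternatingGroup (Fin 5) :=
  ⟨v5, Equiv.Perm.mem_alternatingGroup.2 (by decide +kernel)⟩
def aA : alternatingGroup (Fin 5) :=
  ⟨a5, Equiv.Perm.mem_alternatingGroup.2 (by decide +kernel)⟩
def uA : alternatingGroup (Fin 5) :=
  ⟨t6, Equiv.Perm.mem_alternatingGroup.2 (by decide +kernel)⟩

/-- Twelve elements fixing a point and one moving it. -/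
def thirteen : Finset (alternatingGroup (Fin 5)) := {1, tA, vA, tA * vA, aA, tA * aA, vA * aA,
  tA * vA * aA, aA * aA, tA * (aA * aA), vA * (aA * aA), tA * vA * (aA * aA), uA}

theorem card_thirteen : thirteen.card = 13 := by decide +kernel

theorem le_ker_of_normal {C : Type*} {Q : Type*} [Group C] [Group Q] [Finite C]
    (π : C →* Q) (hπ : Function.Surjective π)
    (hQ : ∀ (K : Subgroup Q) [K.Normal], ¬ 3 ∣ Nat.card K → K = ⊥)
    (M : Subgroup C) [hM : M.Normal] (h : ¬ 3 ∣ Nat.card M) : M ≤ π.ker := by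
  haveI : (M.map π).Normal := hM.map π hπ
  have := hQ (M.map π) fun h3 => h (h3.trans (card_map_dvd M π))
  rwa [Subgroup.map_eq_bot_iff] at this

theorem mem_normalizer_of_commute {G : Type*} [Group G] {g z : G} (h : g * z = z * g) :
    g ∈ normalizer (zpowers z : Set G) := by
  rw [mem_normalizer_iff]
  intro x
  have hcom : ∀ k : ℤ, g * z ^ k * g⁻¹ = z ^ k := fun k => by
    rw [((show Commute g z from h).zpow_right k).eq, mul_inv_cancel_right]
  constructor
  · rintro ⟨k, rfl⟩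
    exact ⟨k, (hcom k).symm⟩
  · rintro ⟨k, hk⟩
    exact ⟨k, mul_left_cancel (mul_right_cancel ((hcom k).trans hk))⟩

/-- Conjugation by an element of order three preserving a subgroup. -/
theorem conj_inv_mem {G : Type*} [Group G] {a : G} (ha : a ^ 3 = 1) {H : Subgroup G}
    (h : ∀ x ∈ H, a * x * a⁻¹ ∈ H) : ∀ x ∈ H, a⁻¹ * x * a ∈ H := fun x hx => by
  have e : a⁻¹ = a * a := inv_eq_of_mul_eq_one_right (by rw [← mul_assoc]; simpa [pow_succ] using ha)
  have := h _ (h x hx)
  rwa [show a * (a * x * a⁻¹) * a⁻¹ = (a * a) * x * (a * a)⁻¹ by group, ← e, inv_inv] at this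


/-- Conjugation action of a subgroup normalising another one. -/
def conjHom {G : Type*} [Group G] (H K : Subgroup G) (h : ∀ e ∈ H, ∀ x ∈ K, e * x * e⁻¹ ∈ K) :
    H →* MulAut K where
  toFun e :=
    { toFun := fun x => ⟨e * x * (e : G)⁻¹, h e e.2 x x.2⟩
      invFun := fun x => ⟨(e : G)⁻¹ * x * e, by simpa using h _ (H.inv_mem e.2) x x.2⟩
      left_inv := fun x => Subtype.ext (by simp [mul_assoc])
      right_inv := fun x => Subtype.ext (by simp [mul_assoc])
      map_mul' := fun x y => Subtype.ext (by simp [mul_assoc]) }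
  map_one' := by ext x; simp
  map_mul' e f := by ext x; simp [mul_assoc]

theorem card_P35 : Nat.card P35 = 720 := by
  rw [Nat.card_prod, Nat.card_perm, Nat.card_fin, Nat.card_perm, Nat.card_fin]
  rfl

theorem card_psl : Nat.card (Matrix.ProjectiveSpecialLinearGroup (Fin 2) (ZMod 7)) = 168 := by
  haveI : Fact (Nat.Prime 7) := ⟨by norm_num⟩
  have := PSLSpectrum.card_psl_odd (F := ZMod 7) (by rw [ZMod.card]; decide)
  rw [ZMod.card] at this
  show Nat.card (SL2.PSLtwo (ZMod 7)) = 168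
  omega

theorem le_normalizer_CV {G : Type*} [Group G] {z a : G} {H : Subgroup G}
    (hz : ∀ x ∈ H, z * x * z⁻¹ ∈ H) (hz' : ∀ x ∈ H, z⁻¹ * x * z ∈ H)
    (ha : ∀ x ∈ H, a * x * a⁻¹ ∈ H) (ha' : ∀ x ∈ H, a⁻¹ * x * a ∈ H) :
    ∀ e ∈ closure ({z, a} : Set G), ∀ x ∈ H, e * x * e⁻¹ ∈ H := by
  have key : closure ({z, a} : Set G) ≤ normalizer (H : Set G) := by
    rw [closure_le]
    rintro _ (rfl | rfl)
    · exact mem_normalizer_iff.2 fun x => ⟨hz x, fun hx => by simpa [mul_assoc] using hz' _ hx⟩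
    · exact mem_normalizer_iff.2 fun x => ⟨ha x, fun hx => by simpa [mul_assoc] using ha' _ hx⟩
  exact fun e he x hx => (mem_normalizer_iff.1 (key he) x).1 hx

theorem card_pair {G : Type*} [Group G] [Finite G] {z a : G} (hza : Commute z a) (hz3 : z ^ 3 = 1)
    (ha3 : a ^ 3 = 1) (hz1 : z ≠ 1) (ha1 : a ≠ 1) (h : z ∉ zpowers a) :
    9 ∣ Nat.card (closure ({z, a} : Set G)) := by
  haveI : Fact (Nat.Prime 3) := ⟨Nat.prime_three⟩
  obtain ⟨k, hk⟩ := IsPGroup.iff_card.1 (Coprime.isPGroup_closure_pair (p := 3) hza hz3 ha3)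
  have ho : Nat.card (zpowers a) = 3 := by
    rw [Nat.card_zpowers]; exact orderOf_eq_prime ha3 ha1
  have hlt : zpowers a < closure ({z, a} : Set G) :=
    lt_of_le_of_ne (zpowers_le.2 (subset_closure (by simp))) fun he => h (he ▸ subset_closure (by simp))
  have := Set.Finite.card_lt_card (Set.toFinite _) (SetLike.coe_ssubset_coe.2 hlt)
  simp only [SetLike.coe_sort_coe] at this
  rw [ho, hk] at this
  rw [hk]
  have h2 : 2 ≤ k := by
    by_contra hk2
    have := pow_le_pow_right₀ (show 1 ≤ 3 by norm_num) (show k ≤ 1 by omega)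
    omega
  exact (show (9 : ℕ) = 3 ^ 2 by norm_num) ▸ pow_dvd_pow 3 h2

variable {G : Type u} [Group G] [Finite G]

theorem no_seven (d : Data G) (haCV : ∀ e ∈ closure ({d.φ zP, d.φ aP} : Set G), ∀ x ∈ d.CV,
      e * x * e⁻¹ ∈ d.CV)
    (hcases : ∀ e ∈ closure ({d.φ zP, d.φ aP} : Set G), e ≠ 1 → ∀ x ∈ d.CV, Commute x e →
      x ^ 6 = 1 ∨ x ^ 720 = 1)
    (h9 : 9 ∣ Nat.card (closure ({d.φ zP, d.φ aP} : Set G)))
    (hE : IsPGroup 3 (closure ({d.φ zP, d.φ aP} : Set G)))
    (hcard : Nat.card d.CV = 672) : False := by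
  classical
  haveI : Fact (Nat.Prime 7) := ⟨by norm_num⟩
  haveI : Fact (Nat.Prime 3) := ⟨Nat.prime_three⟩
  set E := closure ({d.φ zP, d.φ aP} : Set G) with hEdef
  letI : MulDistribMulAction E d.CV := MulDistribMulAction.compHom _ (conjHom E d.CV haCV)
  have hn : ¬ 3 ∣ Nat.card (Sylow 7 d.CV) := by
    obtain ⟨P⟩ : Nonempty (Sylow 7 d.CV) := inferInstance
    have hd : Nat.card (Sylow 7 d.CV) ∣ 672 := by
      rw [← hcard]; exact P.card_dvd_index.trans (index_dvd_card _)
    have h1 : Nat.card (Sylow 7 d.CV) % 7 = 1 := card_sylow_modEq_one 7 d.CV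
    have key : ∀ n ∈ Nat.divisors 672, n % 7 = 1 → ¬ 3 ∣ n := by decide +kernel
    exact key _ (Nat.mem_divisors.2 ⟨hd, by norm_num⟩) h1
  have hfix := hE.card_modEq_card_fixedPoints (Sylow 7 d.CV)
  obtain ⟨P, hP⟩ : (MulAction.fixedPoints E (Sylow 7 d.CV)).Nonempty := by
    by_contra hne
    rw [Set.not_nonempty_iff_eq_empty] at hne
    rw [hne, Nat.card_coe_set_eq, Set.ncard_empty] at hfix
    exact hn (Nat.modEq_zero_iff_dvd.1 hfix)
  obtain ⟨k, hk⟩ := P.isPGroup'.exists_card_eq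
  have hk7 : Nat.card (P : Subgroup d.CV) = 7 := by
    have h1 : 7 ∣ Nat.card (P : Subgroup d.CV) :=
      P.dvd_card_of_dvd_card (by rw [hcard]; norm_num)
    have h2 := card_subgroup_dvd_card (P : Subgroup d.CV)
    rw [hcard, hk] at h2
    rw [hk] at h1 ⊢
    have : k ≤ 1 := by
      by_contra hk2
      have := (pow_dvd_pow 7 (show 2 ≤ k by omega)).trans h2
      norm_num at this
    interval_cases k
    · norm_num at h1
    · norm_num
  haveI : IsCyclic (P : Subgroup d.CV) := isCyclic_of_prime_card (p := 7) hk7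
  set P' : Subgroup G := (P : Subgroup d.CV).map d.CV.subtype with hP'def
  have hP'e : ∀ e ∈ E, ∀ x ∈ P', e * x * e⁻¹ ∈ P' := by
    rintro e he _ ⟨x, hx, rfl⟩
    have h1 : (⟨e, he⟩ : E) • x ∈ (((⟨e, he⟩ : E) • P : Sylow 7 d.CV) : Subgroup d.CV) := by
      change _ ∈ ((⟨e, he⟩ : E) • (P : Subgroup d.CV))
      exact Subgroup.smul_mem_pointwise_smul _ _ _ hx
    rw [hP ⟨e, he⟩] at h1
    exact ⟨_, h1, rfl⟩
  haveI : IsCyclic P' := by
    exact isCyclic_of_surjective (((P : Subgroup d.CV).equivMapOfInjective _ d.CV.subtype_injective))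
      (MulEquiv.surjective _)
  let ψ : E →* MulAut P' := conjHom E P' hP'e
  have hni : ¬ Function.Injective ψ := fun hinj => by
    have h1 := card_dvd_of_injective ψ hinj
    rw [IsCyclic.card_mulAut, card_map_of_injective d.CV.subtype_injective, hk7] at h1
    have h2 := h9.trans h1
    rw [Nat.totient_prime (by norm_num : Nat.Prime 7)] at h2
    norm_num at h2
  rw [injective_iff_map_eq_one] at hni
  push Not at hni
  obtain ⟨e, he, he1⟩ := hni
  obtain ⟨x, hx⟩ := exists_prime_orderOf_dvd_card' (G := P') 7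
    (by rw [card_map_of_injective d.CV.subtype_injective, hk7])
  have hxe : Commute (x : G) e := by
    have := congrArg Subtype.val (DFunLike.congr_fun he x)
    exact (mul_inv_eq_iff_eq_mul.1 this).symm
  have hx7 : (x : G) ^ 7 = 1 := by rw [← hx, ← orderOf_coe, pow_orderOf_eq_one]
  have hx1 : (x : G) ≠ 1 := fun h => by
    rw [← orderOf_coe, h, orderOf_one] at hx
    norm_num at hx
  rcases hcases e e.2 (fun h => he1 (Subtype.ext h)) x (map_subtype_le _ x.2) hxe with h | h
  · exact hx1 (pow_eq_one_of_gcd h hx7 (by norm_num))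
  · exact hx1 (pow_eq_one_of_gcd h hx7 (by norm_num))

theorem exc (d : Data G) (haCV : ∀ e ∈ closure ({d.φ zP, d.φ aP} : Set G), ∀ x ∈ d.CV,
      e * x * e⁻¹ ∈ d.CV)
    (hcases : ∀ e ∈ closure ({d.φ zP, d.φ aP} : Set G), e ≠ 1 → ∀ x ∈ d.CV, Commute x e →
      x ^ 6 = 1 ∨ Commute x (d.φ aP))
    (hCa : ∀ x : G, x * d.φ aP = d.φ aP * x → ∃ l : P35, d.ψ l = x ∧ l.1 * z3 = z3 * l.1)
    (hzCV : d.φ zP ∈ d.CV) (hrCV : d.φ rP ∈ d.CV)
    (h9 : 9 ∣ Nat.card (closure ({d.φ zP, d.φ aP} : Set G)))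
    (fV : W0 →* G) (hfV : ∀ q : W0, fV q = d.φ (i5 (q : P5)))
    (hVle : fV.range ≤ d.CV) (hVc : ∀ x ∈ d.CV, ∀ q : W0, Commute (fV q) x)
    (π : d.CV →* alternatingGroup (Fin 5)) (hπ : Function.Surjective π)
    (hker : π.ker = fV.range.subgroupOf d.CV) (hcv : Nat.card d.CV = 240) : d.Exc := by
  classical
  set E := closure ({d.φ zP, d.φ aP} : Set G) with hEdef
  have hV4 : ∀ q : W0, fV q ^ 4 = 1 := fun q => by
    rw [← map_pow, ← card_W0]
    simp [pow_card_eq_one']
  -- an element of order five centralised by `a`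
  have hS : Nat.card {x : d.CV // x ^ 5 = 1 ∧ x ≠ 1} = 24 := by
    rw [← card_five]
    refine Nat.card_eq_of_bijective (fun x => ⟨π x.1, by rw [← map_pow, x.2.1, map_one], fun h => ?_⟩) ⟨?_, ?_⟩
    · obtain ⟨q, hq⟩ := mem_subgroupOf.1 (hker ▸ MonoidHom.mem_ker.2 h : x.1 ∈ fV.range.subgroupOf d.CV)
      refine x.2.2 (pow_eq_one_of_gcd (m := 4) ?_ x.2.1 (by norm_num))
      exact Subtype.ext (by rw [coe_pow, ← hq, hV4]; rfl)
    · rintro ⟨x, hx5, hx1⟩ ⟨y, hy5, hy1⟩ h
      have h' : π x = π y := congrArg Subtype.val h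
      have hk : x⁻¹ * y ∈ fV.range.subgroupOf d.CV := by
        rw [← hker, MonoidHom.mem_ker, map_mul, map_inv, h', inv_mul_cancel]
      obtain ⟨q, hq⟩ := mem_subgroupOf.1 hk
      have hc : Commute x (x⁻¹ * y) := by
        apply Subtype.ext
        have := hVc x x.2 q
        rw [hq] at this
        exact this.symm.eq
      have h5 : (x⁻¹ * y) ^ 5 = 1 := by
        have := hc.mul_pow 5
        rw [mul_inv_cancel_left, hx5, hy5, one_mul] at this
        exact this.symm
      have h4 : (x⁻¹ * y) ^ 4 = 1 := Subtype.ext (by rw [coe_pow, ← hq, hV4]; rfl)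
      exact Subtype.ext (inv_mul_eq_one.1 (pow_eq_one_of_gcd h4 h5 (by norm_num)))
    · rintro ⟨y, hy5, hy1⟩
      obtain ⟨x, rfl⟩ := hπ y
      have hk : x ^ 5 ∈ fV.range.subgroupOf d.CV := by
        rw [← hker, MonoidHom.mem_ker, map_pow, hy5]
      obtain ⟨q, hq⟩ := mem_subgroupOf.1 hk
      have h16 : π (x ^ 16) = π x := by
        rw [map_pow, show 16 = 5 * 3 + 1 by rfl, pow_succ, pow_mul, hy5, one_pow, one_mul]
      refine ⟨⟨x ^ 16, ?_, fun h => hy1 ?_⟩, Subtype.ext h16⟩
      · rw [← pow_mul, show 16 * 5 = 5 * (4 * 4) by rfl, pow_mul, pow_mul]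
        have h4 : (x ^ 5) ^ 4 = 1 := Subtype.ext (by rw [coe_pow, ← hq, hV4]; rfl)
        rw [h4, one_pow]
      · rw [← h16, h, map_one]
  letI : MulDistribMulAction E d.CV := MulDistribMulAction.compHom _ (conjHom E d.CV haCV)
  letI : MulAction E {x : d.CV // x ^ 5 = 1 ∧ x ≠ 1} :=
    { smul := fun e x => ⟨e • x.1, by rw [← smul_pow', x.2.1, smul_one], fun h => x.2.2 (by
        have := congrArg (e⁻¹ • ·) h
        simpa using this)⟩
      one_smul := fun x => Subtype.ext (one_smul E x.1)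
      mul_smul := fun e f x => Subtype.ext (mul_smul e f x.1) }
  obtain ⟨x, hx5, hx1, hxa⟩ : ∃ x : d.CV, x ^ 5 = 1 ∧ x ≠ 1 ∧ Commute (x : G) (d.φ aP) := by
    by_contra hne
    push Not at hne
    have hfree : ∀ x : {x : d.CV // x ^ 5 = 1 ∧ x ≠ 1}, MulAction.stabilizer E x = ⊥ := by
      intro x
      rw [eq_bot_iff_forall]
      intro e he
      by_contra he1
      have h1 : e • x.1 = x.1 := congrArg Subtype.val (MulAction.mem_stabilizer_iff.1 he)
      have hc : Commute ((x.1 : d.CV) : G) e := (mul_inv_eq_iff_eq_mul.1 (congrArg Subtype.val h1)).symm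
      rcases hcases e e.2 (fun h => he1 (Subtype.ext h)) _ x.1.2 hc with h | h
      · exact x.2.2 (Subtype.ext (pow_eq_one_of_gcd h (by simpa using congrArg Subtype.val x.2.1) (by norm_num)))
      · exact hne x.1 x.2.1 x.2.2 h
    have := Nat.card_congr (MulAction.selfEquivOrbitsQuotientProd hfree)
    rw [Nat.card_prod, hS] at this
    have h24 : 9 ∣ 24 := this ▸ dvd_mul_of_dvd_right h9 _
    norm_num at h24
  obtain ⟨l, hl, hl1⟩ := hCa x hxa.eq
  have hl5 : l ^ 5 = 1 := d.ψ_inj (by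
    rw [map_pow, hl, map_one]; simpa using congrArg Subtype.val hx5)
  have hp : l.1 = 1 := pow_eq_one_of_gcd ((p3_facts l.1).2.1 hl1) (congrArg Prod.fst hl5) (by norm_num)
  have hq5 : l.2 ^ 5 = 1 := congrArg Prod.snd hl5
  have hs : l.2 ∈ alternatingGroup (Fin 5) := Equiv.Perm.mem_alternatingGroup.2
    (sign_pow _ (by rw [← map_pow, hq5, map_one]))
  let gA : alternatingGroup (Fin 5) →* G := (d.ψ.comp i5).comp (alternatingGroup (Fin 5)).subtype
  have hgA : Function.Injective gA := fun p q h => Subtype.ext (congrArg Prod.snd (d.ψ_inj h))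
  set Y := d.CV.comap gA with hYdef
  have hgl : gA ⟨l.2, hs⟩ = x := (congrArg d.ψ (show i5 l.2 = l from Prod.ext hp.symm rfl)).trans hl
  have hqY : (⟨l.2, hs⟩ : alternatingGroup (Fin 5)) ∈ Y := by
    rw [hYdef, mem_comap, hgl]
    exact x.2
  have hYtop : Y = ⊤ := by
    refine eq_top_of_index_le ?_
    have ha : a5 ∈ alternatingGroup (Fin 5) := by
      rw [Equiv.Perm.mem_alternatingGroup]; decide +kernel
    have haY : (⟨a5, ha⟩ : alternatingGroup (Fin 5)) ∈ Y := by
      rw [hYdef, mem_comap, show gA ⟨a5, ha⟩ = d.φ zP from d.ψ_a]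
      exact hzCV
    have h3 : orderOf (⟨a5, ha⟩ : alternatingGroup (Fin 5)) = 3 := by
      haveI : Fact (Nat.Prime 3) := ⟨Nat.prime_three⟩
      exact orderOf_eq_prime (Subtype.ext (show a5 ^ 3 = 1 by decide +kernel))
        fun h => absurd (congrArg Subtype.val h) (show ¬ a5 = 1 by decide +kernel)
    have h5 : orderOf (⟨l.2, hs⟩ : alternatingGroup (Fin 5)) = 5 := by
      haveI : Fact (Nat.Prime 5) := ⟨by norm_num⟩
      refine orderOf_eq_prime (Subtype.ext (by simpa using hq5)) fun h => hx1 (Subtype.ext ?_)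
      rw [← hgl, h, map_one]
      rfl
    have h15 : 15 ∣ Nat.card Y := Nat.Coprime.mul_dvd_of_dvd_of_dvd (by norm_num : Nat.Coprime 3 5)
      ((dvd_of_eq h3.symm).trans (Y.orderOf_dvd_natCard haY)) ((dvd_of_eq h5.symm).trans (Y.orderOf_dvd_natCard hqY))
    have hm := card_mul_index Y
    rw [card_A5] at hm
    obtain ⟨k, hk⟩ := h15
    rw [hk] at hm
    have : k * Y.index = 4 := by nlinarith [hm]
    exact Nat.le_of_dvd (by norm_num) ⟨k, by rw [← this, mul_comm]⟩
  have hAle : ∀ q : alternatingGroup (Fin 5), gA q ∈ d.CV := fun q => by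
    have : q ∈ Y := hYtop ▸ mem_top q
    exact this
  -- the first alternating group commutes with the second
  let fA : alternatingGroup (Fin 5) →* G := (d.φ.comp i5).comp (alternatingGroup (Fin 5)).subtype
  set Y' := (centralizer (gA.range : Set G)).comap fA with hY'def
  have hY'mem : ∀ p, p ∈ Y' ↔ ∀ q, fA p * gA q = gA q * fA p := fun p => by
    rw [hY'def, mem_comap, mem_centralizer_iff]
    exact ⟨fun h q => (h _ ⟨q, rfl⟩).symm, fun h => by rintro _ ⟨q, rfl⟩; exact (h q).symm⟩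
  have hY'top : Y' = ⊤ := by
    refine eq_top_of_index_le ?_
    have he : ∀ p : alternatingGroup (Fin 5), (p : P5) = t5 ∨ (p : P5) = v5 → p ∈ Y' := by
      intro p hp'
      rw [hY'mem]
      intro q
      have hm : (p : P5) ∈ W0 := by rcases hp' with h | h <;> rw [h, mem_W0] <;> simp
      have := hVc _ (hAle q) ⟨p, hm⟩
      rw [hfV] at this
      exact this.eq
    have ht : t5 ∈ alternatingGroup (Fin 5) := by
      rw [Equiv.Perm.mem_alternatingGroup]; decide +kernel
    have hv : v5 ∈ alternatingGroup (Fin 5) := by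
      rw [Equiv.Perm.mem_alternatingGroup]; decide +kernel
    have ha : a5 ∈ alternatingGroup (Fin 5) := by
      rw [Equiv.Perm.mem_alternatingGroup]; decide +kernel
    have ht' : t6 ∈ alternatingGroup (Fin 5) := by
      rw [Equiv.Perm.mem_alternatingGroup]; decide +kernel
    have htY : (⟨t5, ht⟩ : alternatingGroup (Fin 5)) ∈ Y' := he _ (Or.inl rfl)
    have hvY : (⟨v5, hv⟩ : alternatingGroup (Fin 5)) ∈ Y' := he _ (Or.inr rfl)
    have haY : (⟨a5, ha⟩ : alternatingGroup (Fin 5)) ∈ Y' := by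
      rw [hY'mem]
      intro q
      change d.φ aP * d.ψ (i5 q) = d.ψ (i5 q) * d.φ aP
      rw [← d.ψ_z, ← map_mul, ← map_mul]
      exact congrArg d.ψ (Prod.ext (by simp [zP]) (by simp [zP]))
    have ht'Y : (⟨t6, ht'⟩ : alternatingGroup (Fin 5)) ∈ Y' := by
      rw [hY'mem]
      intro q
      have hm : c5 * (q : P5) * c5⁻¹ ∈ alternatingGroup (Fin 5) := by
        rw [Equiv.Perm.mem_alternatingGroup]
        simp [Equiv.Perm.mem_alternatingGroup.1 q.2, mul_comm]
      have h1 := (hY'mem _).1 htY ⟨_, hm⟩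
      change d.φ (i5 t5) * d.ψ (i5 (c5 * q * c5⁻¹)) = d.ψ (i5 (c5 * q * c5⁻¹)) * d.φ (i5 t5) at h1
      change d.φ (i5 t6) * d.ψ (i5 q) = d.ψ (i5 q) * d.φ (i5 t6)
      simp only [map_mul, map_inv] at h1
      rw [show d.ψ (i5 c5) = d.φ (i5 c5) from d.ψ_c] at h1
      rw [show t6 = c5⁻¹ * t5 * c5 by decide +kernel]
      simp only [map_mul, map_inv]
      set c := d.φ (i5 c5)
      calc c⁻¹ * d.φ (i5 t5) * c * d.ψ (i5 q)
          = c⁻¹ * (d.φ (i5 t5) * (c * d.ψ (i5 q) * c⁻¹)) * c := by group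
        _ = c⁻¹ * ((c * d.ψ (i5 q) * c⁻¹) * d.φ (i5 t5)) * c := by rw [h1]
        _ = d.ψ (i5 q) * (c⁻¹ * d.φ (i5 t5) * c) := by group
    have h13 : 13 ≤ Nat.card Y' := by
      let F : Finset (alternatingGroup (Fin 5)) := thirteen
      have hF : F.card = 13 := card_thirteen
      have hsub : (F : Set (alternatingGroup (Fin 5))) ⊆ Y' := by
        intro w hw
        simp only [F, thirteen, Finset.coe_insert, Finset.coe_singleton, Set.mem_insert_iff,
          Set.mem_singleton_iff] at hw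
        have h2 := Y'.mul_mem haY haY
        rcases hw with rfl | rfl | rfl | rfl | rfl | rfl | rfl | rfl | rfl | rfl | rfl | rfl | rfl
        exacts [Y'.one_mem, htY, hvY, Y'.mul_mem htY hvY, haY, Y'.mul_mem htY haY,
          Y'.mul_mem hvY haY, Y'.mul_mem (Y'.mul_mem htY hvY) haY, h2, Y'.mul_mem htY h2,
          Y'.mul_mem hvY h2, Y'.mul_mem (Y'.mul_mem htY hvY) h2, ht'Y]
      calc 13 = (F : Set (alternatingGroup (Fin 5))).ncard := by rw [Set.ncard_coe_finset, hF]
        _ ≤ (Y' : Set (alternatingGroup (Fin 5))).ncard := Set.ncard_le_ncard hsub (Set.toFinite _)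
        _ = Nat.card Y' := (Nat.card_coe_set_eq _).symm
    have hm := card_mul_index Y'
    rw [card_A5] at hm
    nlinarith [hm]
  have hcomm : ∀ p q : alternatingGroup (Fin 5), fA p * gA q = gA q * fA p := fun p q =>
    (hY'mem p).1 (hY'top ▸ mem_top p) q
  have hcentA : ∀ q : P5, (∀ p : alternatingGroup (Fin 5), q * p = p * q) → q = 1 := fun q h =>
    cent_gens q (h ⟨t5, by rw [Equiv.Perm.mem_alternatingGroup]; decide +kernel⟩)
      (h ⟨v5, by rw [Equiv.Perm.mem_alternatingGroup]; decide +kernel⟩)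
      (h ⟨t6, by rw [Equiv.Perm.mem_alternatingGroup]; decide +kernel⟩)
  have hVg : ∀ (w : W0) (u : P5), fV w = d.ψ (i5 u) → u = 1 := by
    intro w u hu
    refine hcentA u fun p => congrArg Prod.snd (d.ψ_inj (show d.ψ (i5 u * i5 p) = d.ψ (i5 p * i5 u) from ?_))
    rw [map_mul, map_mul, ← hu]
    exact (hVc _ (hAle p) w).eq
  let F2 : W0 × alternatingGroup (Fin 5) →* G := MonoidHom.noncommCoprod fV gA
    fun w q => hVc _ (hAle q) w
  have hF2 : Function.Injective F2 := by
    rw [injective_iff_map_eq_one]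
    rintro ⟨w, q⟩ h
    simp only [F2, MonoidHom.noncommCoprod_apply] at h
    have hw : fV w = gA q⁻¹ := by rw [map_inv]; exact eq_inv_of_mul_eq_one_left h
    have hq : q = 1 := inv_eq_one.1 (Subtype.ext (hVg w _ hw))
    subst hq
    have hw1 : w = 1 := by
      refine Subtype.ext ?_
      have := hfV w
      rw [hw, inv_one, map_one] at this
      exact congrArg Prod.snd (d.φ_inj (this.symm.trans (map_one d.φ).symm))
    subst hw1
    rfl
  have hF2eq : F2.range = d.CV := by
    refine eq_of_le_of_card_ge ?_ ?_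
    · rintro _ ⟨⟨w, q⟩, rfl⟩
      simp only [F2, MonoidHom.noncommCoprod_apply]
      exact mul_mem (hVle ⟨w, rfl⟩) (hAle q)
    · rw [hcv, ← Nat.card_congr (MonoidHom.ofInjective hF2).toEquiv, Nat.card_prod, card_W0, card_A5]
  refine ⟨?_, hcv, fun p q hp hq => hcomm ⟨p, Equiv.Perm.mem_alternatingGroup.2 hp⟩
    ⟨q, Equiv.Perm.mem_alternatingGroup.2 hq⟩⟩
  refine d.trans_or_double.resolve_left fun htr => ?_
  obtain ⟨⟨w, q⟩, h⟩ := (hF2eq ▸ hrCV : d.φ rP ∈ F2.range)
  rw [show d.φ rP = d.ψ (i5 (swap 3 4)) from htr] at h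
  simp only [F2, MonoidHom.noncommCoprod_apply] at h
  have hw : fV w = d.ψ (i5 (swap 3 4 * (q : P5)⁻¹)) := by
    rw [map_mul, map_mul, map_inv, map_inv, ← h]
    change fV w = fV w * gA q * (gA q)⁻¹
    rw [mul_inv_cancel_right]
  have h1 : swap 3 4 = (q : P5) := mul_inv_eq_one.1 (hVg w _ hw)
  have h2 := Equiv.Perm.mem_alternatingGroup.1 q.2
  rw [← h1] at h2
  exact absurd h2 (by decide +kernel)

theorem main (d : Data G) : Nat.card d.CV = 24 ∨ ∃ d' : Data G, d'.φ = d.φ ∧ (d'.Good ∨ d'.Exc) := by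
  classical
  set z := d.φ zP with hzdef
  set a := d.φ aP with hadef
  set t := d.φ tP with htdef
  set v := d.φ vP with hvdef
  set r := d.φ rP with hrdef
  have hφ := d.φ_inj
  have hψ := d.ψ_inj
  have hz3 : z ^ 3 = 1 := by rw [hzdef, ← map_pow, show zP ^ 3 = 1 by decide +kernel, map_one]
  have ha3 : a ^ 3 = 1 := by rw [hadef, ← map_pow, show aP ^ 3 = 1 by decide +kernel, map_one]
  have hz1 : z ≠ 1 := fun h => absurd (hφ (h.trans (map_one d.φ).symm)) (by decide +kernel)
  have ha1 : a ≠ 1 := fun h => absurd (hφ (h.trans (map_one d.φ).symm)) (by decide +kernel)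
  have hza : Commute z a := by
    change z * a = a * z
    rw [hzdef, hadef, ← map_mul, ← map_mul, show zP * aP = aP * zP by decide +kernel]
  have hra : Commute r a := by
    change r * a = a * r
    rw [hrdef, hadef, ← map_mul, ← map_mul, show rP * aP = aP * rP by decide +kernel]
  have hrr : r * r = 1 := by rw [hrdef, ← map_mul, show rP * rP = 1 by decide +kernel, map_one]
  have hrz : r * z * r⁻¹ = z⁻¹ := by
    rw [hrdef, hzdef, ← map_inv, ← map_mul, ← map_mul, ← map_inv,
      show rP * zP * rP⁻¹ = zP⁻¹ by decide +kernel]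
  have hmemCV : ∀ x : G, x ∈ d.CV ↔ x * t = t * x ∧ x * v = v * x := by
    intro x
    simp only [Data.CV, mem_centralizer_iff, Set.mem_insert_iff, Set.mem_singleton_iff,
      forall_eq_or_imp, forall_eq]
    exact ⟨fun h => ⟨h.1.symm, h.2.symm⟩, fun h => ⟨h.1.symm, h.2.symm⟩⟩
  have hCz : ∀ x : G, x * z = z * x → ∃ l : P35, d.φ l = x ∧ l.1 * z3 = z3 * l.1 := by
    intro x hx
    have : x ∈ normalizer (zpowers z : Set G) := mem_normalizer_of_commute hx
    rw [← d.φ_range] at this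
    obtain ⟨l, rfl⟩ := this
    exact ⟨l, rfl, congrArg Prod.fst (hφ (show d.φ (l * zP) = d.φ (zP * l) by
      rw [map_mul, map_mul]; exact hx))⟩
  have hCa : ∀ x : G, x * a = a * x → ∃ l : P35, d.ψ l = x ∧ l.1 * z3 = z3 * l.1 := by
    intro x hx
    have : x ∈ normalizer (zpowers a : Set G) := mem_normalizer_of_commute hx
    rw [← d.ψ_range] at this
    obtain ⟨l, rfl⟩ := this
    exact ⟨l, rfl, congrArg Prod.fst (hψ (show d.ψ (l * zP) = d.ψ (zP * l) by
      rw [map_mul, map_mul, d.ψ_z]; exact hx))⟩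
  have hzCV : z ∈ d.CV := by
    rw [hmemCV]
    constructor
    · rw [hzdef, htdef, ← map_mul, ← map_mul, show zP * tP = tP * zP by decide +kernel]
    · rw [hzdef, hvdef, ← map_mul, ← map_mul, show zP * vP = vP * zP by decide +kernel]
  have hrCV : r ∈ d.CV := by
    rw [hmemCV]
    constructor
    · rw [hrdef, htdef, ← map_mul, ← map_mul, show rP * tP = tP * rP by decide +kernel]
    · rw [hrdef, hvdef, ← map_mul, ← map_mul, show rP * vP = vP * rP by decide +kernel]
  -- the four group is central in `CV`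
  let fV : W0 →* G := (d.φ.comp i5).comp W0.subtype
  have hfV : Function.Injective fV := fun x y h => Subtype.ext (congrArg Prod.snd (hφ h))
  have hfVcard : Nat.card fV.range = 4 := by
    rw [← Nat.card_congr (MonoidHom.ofInjective hfV).toEquiv, card_W0]
  have hVc : ∀ x ∈ d.CV, ∀ q : W0, Commute (fV q) x := by
    rintro x hx ⟨q, hq⟩
    obtain ⟨h1, h2⟩ := (hmemCV x).1 hx
    change Commute (d.φ (i5 q)) x
    rcases mem_W0.1 hq with rfl | rfl | rfl | rfl
    · rw [map_one, map_one]; exact Commute.one_left x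
    · exact h1.symm
    · exact h2.symm
    · rw [map_mul, map_mul]
      exact (show Commute t x from h1.symm).mul_left h2.symm
  have hVle : fV.range ≤ d.CV := by
    rintro _ ⟨q, rfl⟩
    rw [hmemCV]
    have hW : ∀ p : W0, (p : P5) * (q : P5) = q * p := by
      intro p
      rcases mem_W0.1 p.2 with h | h | h | h <;> rcases mem_W0.1 q.2 with h' | h' | h' | h' <;>
        rw [h, h'] <;> decide +kernel
    exact ⟨(congrArg (fun l => d.φ (i5 l)) (hW ⟨t5, mem_W0.2 (by simp)⟩).symm |> fun h => by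
        rw [map_mul, map_mul, map_mul, map_mul] at h; exact h),
      (congrArg (fun l => d.φ (i5 l)) (hW ⟨v5, mem_W0.2 (by simp)⟩).symm |> fun h => by
        rw [map_mul, map_mul, map_mul, map_mul] at h; exact h)⟩
  have hVsq : ∀ x ∈ fV.range, x ^ 2 = 1 := by
    rintro _ ⟨q, rfl⟩
    rw [← map_pow, show q ^ 2 = 1 from Subtype.ext (by
      rcases mem_W0.1 q.2 with h | h | h | h <;> simp [h] <;> decide +kernel), map_one]
  -- the centraliser of `z` in `CV`
  have hCzCV : ∀ x ∈ d.CV, x * z = z * x → ∃ k : ℤ, ∃ w ∈ fV.range, x = z ^ k * w := by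
    intro x hx hxz
    obtain ⟨l, hl, hl1⟩ := hCz x hxz
    obtain ⟨ht', hv'⟩ := (hmemCV x).1 hx
    rw [← hl, htdef, ← map_mul, ← map_mul] at ht'
    rw [← hl, hvdef, ← map_mul, ← map_mul] at hv'
    have hq := cent_klein l.2 (congrArg Prod.snd (hφ ht')) (congrArg Prod.snd (hφ hv'))
    obtain ⟨k, hk⟩ : ∃ k : ℤ, z3 ^ k = l.1 := by
      rcases (p3_facts l.1).1 hl1 with h | h | h
      · exact ⟨0, by rw [h, zpow_zero]⟩
      · exact ⟨1, by rw [h, zpow_one]⟩
      · exact ⟨2, by rw [h, zpow_two]⟩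
    refine ⟨k, fV ⟨l.2, mem_W0.2 hq⟩, ⟨_, rfl⟩, ?_⟩
    rw [← hl, hzdef, ← map_zpow]
    change d.φ l = d.φ (zP ^ k) * d.φ (i5 l.2)
    rw [← map_mul]
    exact congrArg d.φ (Prod.ext
      (show l.1 = z3 ^ k * 1 by rw [mul_one, hk]) (show l.2 = (1 : P5) ^ k * l.2 by rw [one_zpow, one_mul]))
  -- the quotient by the four group
  let Vc : Subgroup d.CV := fV.range.subgroupOf d.CV
  haveI hVn : Vc.Normal := by
    refine ⟨fun n hn g => ?_⟩
    obtain ⟨q, hq⟩ := mem_subgroupOf.1 hn
    have hc := (hVc g g.2 q).symm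
    rw [hq] at hc
    have : g * n * g⁻¹ = n := by
      rw [show g * n = n * g from Subtype.ext hc.eq, mul_inv_cancel_right]
    rwa [this]
  have hVccard : Nat.card Vc = 4 := by
    rw [Nat.card_congr (subgroupOfEquivOfLe hVle).toEquiv, hfVcard]
  let zc : d.CV := ⟨z, hzCV⟩
  set mk := QuotientGroup.mk' Vc with hmkdef
  have hmks : Function.Surjective mk := QuotientGroup.mk'_surjective Vc
  have hzbar1 : mk zc ≠ 1 := fun h => by
    have h2 : z ^ 2 = 1 := hVsq z (mem_subgroupOf.1 ((QuotientGroup.eq_one_iff zc).1 h))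
    exact hz1 (pow_eq_one_of_gcd h2 hz3 (by norm_num))
  have hzbar3 : mk zc ^ 3 = 1 := by
    rw [← map_pow, show zc ^ 3 = 1 from Subtype.ext hz3, map_one]
  haveI : Fact (Nat.Prime 3) := ⟨Nat.prime_three⟩
  have hcentbar : ∀ q : d.CV ⧸ Vc, q * mk zc = mk zc * q → q ∈ zpowers (mk zc) := by
    intro q hq
    obtain ⟨x, rfl⟩ := hmks q
    have hw : x * zc * (zc * x)⁻¹ ∈ Vc := by
      rw [← QuotientGroup.eq_one_iff]
      change mk (x * zc * (zc * x)⁻¹) = 1
      rw [map_mul, map_inv, map_mul, map_mul, hq, mul_inv_cancel]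
    obtain ⟨w, hw⟩ := mem_subgroupOf.1 hw
    have hw' : (x : G) * z * (x : G)⁻¹ = fV w * z := by
      rw [hw]
      simp [zc, mul_assoc]
    have hcube : fV w ^ 3 = 1 := by
      have h3 := congrArg (· ^ 3) hw'
      simp only [conj_pow, hz3, mul_one, mul_inv_cancel] at h3
      rw [(show Commute (fV w) z from hVc z hzCV w).mul_pow, hz3, mul_one] at h3
      exact h3.symm
    have hw1 : fV w = 1 := pow_eq_one_of_gcd (hVsq _ ⟨w, rfl⟩) hcube (by norm_num)
    rw [hw1, one_mul, mul_inv_eq_iff_eq_mul] at hw'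
    obtain ⟨k, y, ⟨w', rfl⟩, hy⟩ := hCzCV x x.2 hw'
    refine mem_zpowers_iff.2 ⟨k, ?_⟩
    rw [← map_zpow]
    change QuotientGroup.mk' Vc (zc ^ k) = QuotientGroup.mk' Vc x
    refine (QuotientGroup.eq.2 ?_)
    rw [mem_subgroupOf]
    refine ⟨w', ?_⟩
    change fV w' = ((zc ^ k)⁻¹ * x : d.CV)
    simp [zc, hy]
  have h3331 := Cfsg.Agent.S3331.result (zpowers (mk zc))
    (by rw [Nat.card_zpowers]; exact orderOf_eq_prime hzbar3 hzbar1) (by
      refine le_antisymm (fun q hq => hcentbar q ?_) (fun q hq => ?_)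
      · exact (mem_centralizer_iff.1 hq (mk zc) (mem_zpowers _)).symm
      · rw [mem_centralizer_iff]
        intro y hy
        obtain ⟨i, rfl⟩ := mem_zpowers_iff.1 hy
        obtain ⟨j, rfl⟩ := mem_zpowers_iff.1 hq
        exact (Commute.refl (mk zc)).zpow_zpow i j)
  -- `a` normalises `CV`
  have haCV : ∀ x ∈ d.CV, a * x * a⁻¹ ∈ d.CV := by
    intro x hx
    have e : ∀ q : W0, a⁻¹ * fV q * a ∈ fV.range := by
      intro q
      obtain ⟨p, hp⟩ : ∃ p : W0, a5⁻¹ * (q : P5) * a5 = p := by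
        refine ⟨⟨a5⁻¹ * (q : P5) * a5, ?_⟩, rfl⟩
        rcases mem_W0.1 q.2 with h | h | h | h <;> rw [h, mem_W0] <;> decide +kernel
      refine ⟨p, ?_⟩
      rw [hadef, ← map_inv]
      change d.φ (i5 p) = d.φ aP⁻¹ * d.φ (i5 q) * d.φ aP
      rw [← map_mul, ← map_mul, ← hp]
      exact congrArg d.φ (Prod.ext (by simp [aP]) (by simp [aP, a5]))
    have key : ∀ q : W0, a * x * a⁻¹ * fV q = fV q * (a * x * a⁻¹) := by
      intro q
      obtain ⟨p, hp⟩ := e q
      have := (hVc x hx p).eq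
      rw [hp] at this
      calc a * x * a⁻¹ * fV q = a * (x * (a⁻¹ * fV q * a)) * a⁻¹ := by group
        _ = a * ((a⁻¹ * fV q * a) * x) * a⁻¹ := by rw [this]
        _ = fV q * (a * x * a⁻¹) := by group
    exact (hmemCV _).2 ⟨key ⟨t5, mem_W0.2 (by simp)⟩, key ⟨v5, mem_W0.2 (by simp)⟩⟩
  have haCV' := conj_inv_mem ha3 haCV
  -- the subgroup `D`
  set E : Subgroup G := closure {z, a} with hEdef
  have hzE : z ∈ E := subset_closure (by simp)
  have haE : a ∈ E := subset_closure (by simp)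
  have hEcomm : ∀ x ∈ E, ∀ y ∈ E, Commute x y := fun x hx y hy => by
    haveI := Coprime.isMulCommutative_closure_pair hza
    exact congrArg Subtype.val ((IsMulCommutative.is_comm).comm (⟨x, hx⟩ : E) ⟨y, hy⟩)
  have hE3 : ∀ x ∈ E, x ^ 3 = 1 := fun x hx => by
    induction hx using closure_induction with
    | mem y hy => rcases hy with rfl | rfl <;> assumption
    | one => exact one_pow _
    | mul p q hp hq h1 h2 => rw [(hEcomm p hp q hq).mul_pow, h1, h2, one_mul]
    | inv p _ h => rw [inv_pow, h, inv_one]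
  have hEcases : ∀ x ∈ E, x = 1 ∨ ∃ e : G, (e = z ∨ e = a ∨ e = z * a ∨ e = z * a⁻¹) ∧
      ∀ w : G, Commute w x → Commute w e := by
    intro x hx
    have hx' : ∃ i j : ℕ, i < 3 ∧ j < 3 ∧ x = z ^ i * a ^ j := by
      induction hx using closure_induction with
      | mem y hy =>
        rcases hy with rfl | rfl
        · exact ⟨1, 0, by norm_num, by norm_num, by simp⟩
        · exact ⟨0, 1, by norm_num, by norm_num, by simp⟩
      | one => exact ⟨0, 0, by norm_num, by norm_num, by simp⟩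
      | mul p q hp hq h1 h2 =>
        obtain ⟨i, j, -, -, rfl⟩ := h1
        obtain ⟨i', j', -, -, rfl⟩ := h2
        refine ⟨(i + i') % 3, (j + j') % 3, Nat.mod_lt _ three_pos, Nat.mod_lt _ three_pos, ?_⟩
        rw [← pow_eq_pow_mod _ hz3, ← pow_eq_pow_mod _ ha3, pow_add, pow_add]
        exact (hza.symm.pow_pow j i').mul_mul_mul_comm _ _
      | inv p hp h =>
        obtain ⟨i, j, -, -, rfl⟩ := h
        refine ⟨(2 * i) % 3, (2 * j) % 3, Nat.mod_lt _ three_pos, Nat.mod_lt _ three_pos, ?_⟩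
        rw [← pow_eq_pow_mod _ hz3, ← pow_eq_pow_mod _ ha3]
        refine inv_eq_of_mul_eq_one_right ?_
        rw [(hza.symm.pow_pow j (2 * i)).mul_mul_mul_comm, ← pow_add, ← pow_add,
          show i + 2 * i = 3 * i by ring, show j + 2 * j = 3 * j by ring, pow_mul, pow_mul, hz3, ha3,
          one_pow, one_pow, one_mul]
    obtain ⟨i, j, hi, hj, rfl⟩ := hx'
    have sqe : ∀ (e w : G), e ^ 3 = 1 → Commute w (e * e) → Commute w e := fun e w he hw => by
      have hee : (e * e) * (e * e) = e := by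
        rw [← sq, ← sq, ← pow_mul, show 2 * 2 = 3 + 1 by rfl, pow_succ e 3, he, one_mul]
      rw [← hee]
      exact hw.mul_right hw
    have hp3 : (z * a) ^ 3 = 1 := by rw [hza.mul_pow, hz3, ha3, one_mul]
    have hm3 : (z * a⁻¹) ^ 3 = 1 := by rw [hza.inv_right.mul_pow, inv_pow, hz3, ha3, inv_one, one_mul]
    have hai : a ^ 2 = a⁻¹ := (inv_eq_of_mul_eq_one_right (by rw [← pow_succ', ha3])).symm
    have hzai : z ^ 2 * a = (z * a⁻¹) * (z * a⁻¹) := by
      rw [hza.inv_right.symm.mul_mul_mul_comm, ← sq, ← sq, inv_pow, hai, inv_inv]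
    interval_cases i <;> interval_cases j
    · left; simp
    · right; exact ⟨a, by simp, fun w hw => by simpa using hw⟩
    · right; exact ⟨a, by simp, fun w hw => sqe a w ha3 (by simpa [sq] using hw)⟩
    · right; exact ⟨z, by simp, fun w hw => by simpa using hw⟩
    · right; exact ⟨z * a, by simp, fun w hw => by simpa using hw⟩
    · right; exact ⟨z * a⁻¹, by simp, fun w hw => by rwa [pow_one, hai] at hw⟩
    · right; exact ⟨z, by simp, fun w hw => sqe z w hz3 (by simpa [sq] using hw)⟩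
    · right; exact ⟨z * a⁻¹, by simp, fun w hw => sqe _ w hm3 (by rwa [pow_one, hzai] at hw)⟩
    · right
      exact ⟨z * a, by simp, fun w hw => sqe _ w hp3 (by
        rwa [hza.symm.mul_mul_mul_comm, ← sq, ← sq])⟩
  have hrE : ∀ x ∈ E, r⁻¹ * x * r ∈ E ∧ r * x * r⁻¹ ∈ E := by
    have hr' : r⁻¹ = r := inv_eq_of_mul_eq_one_right hrr
    have key : ∀ x ∈ E, r * x * r⁻¹ ∈ E := by
      intro x hx
      have hle : E ≤ E.comap (MulAut.conj r).toMonoidHom := by
        rw [hEdef, closure_le]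
        rintro _ (rfl | rfl)
        · change r * z * r⁻¹ ∈ E
          rw [hrz]; exact E.inv_mem hzE
        · change r * a * r⁻¹ ∈ E
          rw [hra.eq, mul_inv_cancel_right]; exact haE
      exact hle hx
    exact fun x hx => ⟨by simpa [hr'] using key x hx, key x hx⟩
  have hsq : ∀ y : G, (y = z * a ∨ y = z * a⁻¹) → ∀ x : G, Commute x y → x ^ 2 ∈ E := by
    intro y hy x hx
    rcases hy with rfl | rfl
    · exact d.sq_cent x (mem_centralizer_singleton_iff.2 hx.eq)
    · have he : r * (z * a⁻¹) * r⁻¹ = (z * a)⁻¹ := by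
        rw [show r * (z * a⁻¹) * r⁻¹ = r * z * r⁻¹ * (r * a⁻¹ * r⁻¹) by group, hrz,
          (hra.inv_right).eq, mul_inv_cancel_right, hza.eq, mul_inv_rev]
      have hc := (Commute.conj_iff r).2 hx
      rw [he, Commute.inv_right_iff] at hc
      have h2 := d.sq_cent _ (mem_centralizer_singleton_iff.2 hc.eq)
      rw [conj_pow] at h2
      have h3 := (hrE _ h2).1
      simpa [mul_assoc] using h3
  have hab' : z ∉ zpowers a := by
    rw [hzdef, hadef, ← MonoidHom.map_zpowers]
    rintro ⟨l, hl, he⟩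
    obtain rfl := hφ he
    obtain ⟨k, hk⟩ := hl
    have h1 : (1 : P3) ^ k = z3 := congrArg Prod.fst hk
    rw [one_zpow] at h1
    exact absurd h1 (by decide +kernel)
  have h9 : 9 ∣ Nat.card E := card_pair hza hz3 ha3 hz1 ha1 hab'
  have hEp : IsPGroup 3 E := fun x => ⟨1, Subtype.ext (by simpa using hE3 x x.2)⟩
  have hzCV' : ∀ x ∈ d.CV, z * x * z⁻¹ ∈ d.CV := fun x hx =>
    d.CV.mul_mem (d.CV.mul_mem hzCV hx) (d.CV.inv_mem hzCV)
  have hEn := le_normalizer_CV hzCV' (conj_inv_mem hz3 hzCV') haCV haCV'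
  have hEc : ∀ e ∈ E, e ≠ 1 → ∀ x ∈ d.CV, Commute x e → x ^ 6 = 1 ∨ Commute x a := by
    intro e he he1 x hx hc
    obtain ⟨e', he', hce⟩ := (hEcases e he).resolve_left he1
    have h6 : ∀ y : G, y ^ 2 ∈ E → y ^ 6 = 1 := fun y hy => by
      rw [show 6 = 2 * 3 by rfl, pow_mul]
      exact hE3 _ hy
    rcases he' with rfl | rfl | rfl | rfl
    · left
      obtain ⟨k, w, hw, rfl⟩ := hCzCV x hx (hce x hc).eq
      obtain ⟨q, rfl⟩ := hw
      rw [(show Commute (fV q) (z ^ k) from hVc _ (d.CV.zpow_mem hzCV k) q).symm.mul_pow,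
        ← zpow_natCast (z ^ k), ← zpow_mul, mul_comm, zpow_mul, zpow_natCast,
        show z ^ 6 = (z ^ 3) ^ 2 by rw [← pow_mul], hz3, one_pow, one_zpow, one_mul,
        show 6 = 2 * 3 by rfl, pow_mul, hVsq _ ⟨q, rfl⟩, one_pow]
    · exact Or.inr (hce x hc)
    · exact Or.inl (h6 x (hsq _ (Or.inl rfl) x (hce x hc)))
    · exact Or.inl (h6 x (hsq _ (Or.inr rfl) x (hce x hc)))
  have hEc720 : ∀ e ∈ E, e ≠ 1 → ∀ x ∈ d.CV, Commute x e → x ^ 6 = 1 ∨ x ^ 720 = 1 := by
    intro e he he1 x hx hc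
    refine (hEc e he he1 x hx hc).imp_right fun h => ?_
    obtain ⟨l, hl, -⟩ := hCa x h.eq
    rw [← hl, ← map_pow, ← card_P35, pow_card_eq_one', map_one]
  -- the largest normal subgroup of order prime to three
  obtain ⟨R, hRn, hR3, hRmax, hRcases⟩ : ∃ (R : Subgroup d.CV) (_ : R.Normal), ¬ 3 ∣ Nat.card R ∧
      (∀ M : Subgroup d.CV, M.Normal → ¬ 3 ∣ Nat.card M → M ≤ R) ∧
      (R.index = 6 ∨ ∃ π : d.CV →* alternatingGroup (Fin 5), Function.Surjective π ∧ π.ker = R ∧
        Nat.card R ≠ 16) := by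
    have hcard : ∀ N : Subgroup (d.CV ⧸ Vc), Nat.card (N.comap mk) = Nat.card N * 4 := by
      intro N
      have h1 := index_comap_of_surjective N hmks
      have h2 := card_mul_index (N.comap mk)
      have h3 := card_mul_index N
      have h4 := card_eq_card_quotient_mul_card_subgroup Vc
      have hne : N.index ≠ 0 := index_ne_zero_of_finite
      rw [h1, h4, hVccard, ← h3] at h2
      exact Nat.eq_of_mul_eq_mul_right (Nat.pos_of_ne_zero hne) (h2.trans (by ring))
    rcases h3331 with ⟨N, hN, -, hcop, hidx⟩ | ⟨N, hN, hab, hsq, ⟨e⟩⟩ | ⟨⟨e⟩⟩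
    · have h3N : ¬ 3 ∣ Nat.card N :=
        (Nat.prime_three.coprime_iff_not_dvd.1 hcop.symm)
      have h3R : ¬ 3 ∣ Nat.card (N.comap mk) := by
        rw [hcard]
        intro h
        rcases Nat.prime_three.dvd_mul.1 h with h | h
        · exact h3N h
        · norm_num at h
      have hzN : mk zc ∉ N := fun h => h3N (by
        rw [← orderOf_eq_prime hzbar3 hzbar1]; exact N.orderOf_dvd_natCard h)
      rcases hidx with hidx | ⟨⟨e⟩⟩
      · exfalso
        let rc : d.CV := ⟨r, hrCV⟩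
        let π := (QuotientGroup.mk' N).comp mk
        have hπr : π rc = 1 := by
          refine pow_eq_one_of_coprime (n := 2) ?_ ?_ (by norm_num)
          · rw [← hidx]; exact pow_card_eq_one'
          · rw [← map_pow, sq, show rc * rc = 1 from Subtype.ext hrr, map_one]
        have h1 : π zc = (π zc)⁻¹ := by
          rw [← map_inv, ← show rc * zc * rc⁻¹ = zc⁻¹ from Subtype.ext hrz, map_mul, map_mul,
            map_inv, hπr]
          group
        have h2 : π zc ^ 3 = 1 := by rw [← map_pow, show zc ^ 3 = 1 from Subtype.ext hz3, map_one]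
        have h4 : π zc ^ 2 = 1 := by
          rw [sq]
          nth_rewrite 2 [h1]
          exact mul_inv_cancel _
        exact hzN ((QuotientGroup.eq_one_iff _).1 (pow_eq_one_of_gcd h4 h2 (by norm_num) : π zc = 1))
      · let π : d.CV →* P3 := (e.toMonoidHom.comp (QuotientGroup.mk' N)).comp mk
        have hπ : Function.Surjective π :=
          (e.surjective.comp (QuotientGroup.mk'_surjective N)).comp hmks
        have hker : π.ker = N.comap mk := by
          ext x
          simp [π, MonoidHom.mem_ker]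
        refine ⟨N.comap mk, hN.comap mk, h3R, fun M hM h => hker ▸
          le_ker_of_normal π hπ (fun K _ h => normal_perm_three K h) M h, Or.inl ?_⟩
        rw [index_comap_of_surjective N hmks, index_eq_card, Nat.card_congr e.toEquiv]
        rw [Nat.card_eq_fintype_card, Fintype.card_perm, Fintype.card_fin]
        rfl
    · let π : d.CV →* alternatingGroup (Fin 5) := (e.toMonoidHom.comp (QuotientGroup.mk' N)).comp mk
      have hπ : Function.Surjective π :=
        (e.surjective.comp (QuotientGroup.mk'_surjective N)).comp hmks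
      have hker : π.ker = N.comap mk := by
        ext x
        simp [π, MonoidHom.mem_ker]
      have hN2 : IsPGroup 2 N := fun n => ⟨1, by
        rw [pow_one]; exact Subtype.ext (by simpa using hsq n n.2)⟩
      obtain ⟨k, hk⟩ := (haveI := Fact.mk Nat.prime_two; hN2.exists_card_eq)
      have h3N : ¬ 3 ∣ Nat.card N := by
        rw [hk]
        intro h
        have := Nat.prime_three.dvd_of_dvd_pow h
        norm_num at this
      have h3R : ¬ 3 ∣ Nat.card (N.comap mk) := by
        rw [hcard]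
        intro h
        rcases Nat.prime_three.dvd_mul.1 h with h | h
        · exact h3N h
        · norm_num at h
      refine ⟨N.comap mk, hN.comap mk, h3R, fun M hM h => hker ▸
          le_ker_of_normal π hπ (fun K _ h => normal_A5 K h) M h,
        Or.inr ⟨π, hπ, hker, fun h16 => ?_⟩⟩
      rw [hcard] at h16
      haveI := hN
      let ψc : d.CV ⧸ Vc →* MulAut N := MulAut.conjNormal
      let πb : d.CV ⧸ Vc →* alternatingGroup (Fin 5) := e.toMonoidHom.comp (QuotientGroup.mk' N)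
      have hπb : Function.Surjective πb := e.surjective.comp (QuotientGroup.mk'_surjective N)
      have hNK : N ≤ ψc.ker := fun n hn => by
        rw [MonoidHom.mem_ker]
        refine MulEquiv.ext fun m => Subtype.ext ?_
        have := congrArg Subtype.val (hab.is_comm.comm ⟨n, hn⟩ m)
        simpa [ψc, mul_inv_eq_iff_eq_mul] using this
      haveI := alternatingGroup.isSimpleGroup_five
      haveI : (ψc.ker.map πb).Normal := (MonoidHom.normal_ker ψc).map πb hπb
      rcases (inferInstance : (ψc.ker.map πb).Normal).eq_bot_or_eq_top with hb | hb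
      · have heq : ψc.ker = N := le_antisymm (fun x hx => by
          have := (eq_bot_iff_forall _).1 hb (πb x) (mem_map_of_mem _ hx)
          simpa [πb] using this) hNK
        have h1 : Nat.card ψc.range = 60 := by
          rw [← Nat.card_congr (QuotientGroup.quotientKerEquivRange ψc).toEquiv, heq,
            Nat.card_congr e.toEquiv, card_A5]
        have h2 : Nat.card ψc.range ≤ Nat.card (Equiv.Perm N) :=
          Nat.card_le_card_of_injective (fun α : ψc.range => (α : MulAut N).toEquiv) fun α β h =>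
            Subtype.ext (MulEquiv.toEquiv_injective h)
        rw [h1, Nat.card_perm, show Nat.card N = 4 by omega] at h2
        norm_num [Nat.factorial] at h2
      · obtain ⟨x, hx, hxz⟩ := (hb ▸ mem_top (πb (mk zc)) : πb (mk zc) ∈ ψc.ker.map πb)
        have hzK : mk zc ∈ ψc.ker := by
          have h1 : x⁻¹ * mk zc ∈ N := by
            rw [← QuotientGroup.eq_one_iff]
            apply e.injective
            rw [map_one]
            change πb (x⁻¹ * mk zc) = 1
            rw [map_mul, map_inv, hxz, inv_mul_cancel]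
          simpa using ψc.ker.mul_mem hx (hNK h1)
        have hN1 : ∀ n : N, n = 1 := fun n => by
          have h := congrArg Subtype.val (DFunLike.congr_fun (MonoidHom.mem_ker.1 hzK) n)
          simp only [ψc, MulAut.conjNormal_apply, MulAut.one_apply, mul_inv_eq_iff_eq_mul] at h
          obtain ⟨j, hj⟩ := mem_zpowers_iff.1 (hcentbar n h.symm)
          refine Subtype.ext (pow_eq_one_of_gcd (hsq n n.2) ?_ (by norm_num : Nat.Coprime 2 3))
          rw [← hj, ← zpow_natCast, ← zpow_mul, mul_comm, zpow_mul, zpow_natCast, hzbar3, one_zpow]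
        haveI : Subsingleton N := ⟨fun m n => by rw [hN1 m, hN1 n]⟩
        rw [Nat.card_of_subsingleton (1 : N)] at h16
        omega
    · exfalso
      refine no_seven d hEn (fun e he he1 x hx hc => hEc720 e he he1 x hx hc) h9 hEp ?_
      rw [card_eq_card_quotient_mul_card_subgroup Vc, Nat.card_congr e.toEquiv, hVccard, card_psl]
  haveI := hRn
  set R' : Subgroup G := R.map d.CV.subtype with hR'def
  have hR'card : Nat.card R' = Nat.card R := card_map_of_injective d.CV.subtype_injective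
  have hR'le : R' ≤ d.CV := map_subtype_le R
  have hord : ∀ x ∈ R', ¬ 3 ∣ orderOf x := fun x hx h => hR3 (by
    rw [← hR'card]; exact h.trans (R'.orderOf_dvd_natCard hx))
  have hmaxG : ∀ M : Subgroup G, M ≤ d.CV → (∀ g ∈ d.CV, ∀ x ∈ M, g * x * g⁻¹ ∈ M) →
      ¬ 3 ∣ Nat.card M → M ≤ R' := by
    intro M hM hn h3 x hx
    refine ⟨⟨x, hM hx⟩, hRmax (M.subgroupOf d.CV) ⟨fun n hn' g => ?_⟩ ?_ (mem_subgroupOf.2 hx), rfl⟩
    · rw [mem_subgroupOf] at hn' ⊢
      exact hn g g.2 n hn'
    · rwa [Nat.card_congr (subgroupOfEquivOfLe hM).toEquiv]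
  have hR'n : ∀ g ∈ d.CV, ∀ x ∈ R', g * x * g⁻¹ ∈ R' := by
    rintro g hg _ ⟨x, hx, rfl⟩
    exact ⟨⟨g, hg⟩ * x * ⟨g, hg⟩⁻¹, hRn.conj_mem x hx _, rfl⟩
  have haR : ∀ x ∈ R', a * x * a⁻¹ ∈ R' := by
    intro x hx
    refine hmaxG (R'.map (MulAut.conj a).toMonoidHom) ?_ ?_ ?_ ⟨x, hx, rfl⟩
    · rintro _ ⟨y, hy, rfl⟩
      exact haCV y (hR'le hy)
    · rintro g hg _ ⟨y, hy, rfl⟩
      refine ⟨(a⁻¹ * g * a) * y * (a⁻¹ * g * a)⁻¹, hR'n _ (haCV' g hg) y hy, ?_⟩
      change a * ((a⁻¹ * g * a) * y * (a⁻¹ * g * a)⁻¹) * a⁻¹ = g * (a * y * a⁻¹) * g⁻¹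
      group
    · rw [card_map_of_injective (MulAut.conj a).injective, hR'card]
      exact hR3
  have hzR := hR'n z hzCV
  have hnorm : ∀ g : G, g ^ 3 = 1 → (∀ x ∈ R', g * x * g⁻¹ ∈ R') →
      g ∈ normalizer (R' : Set G) := fun g h3 hg => mem_normalizer_iff.2 fun x =>
    ⟨hg x, fun hx => by simpa [mul_assoc] using conj_inv_mem h3 hg _ hx⟩
  have hVR : fV.range ≤ R' := by
    refine hmaxG _ hVle ?_ (by rw [hfVcard]; norm_num)
    rintro g hg _ ⟨q, rfl⟩
    refine ⟨q, ?_⟩
    rw [(hVc g hg q).symm.eq, mul_inv_cancel_right]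
  have hCzR : ∀ x ∈ R', x * z = z * x → x ∈ fV.range := by
    intro x hx hxz
    obtain ⟨k, w, hw, rfl⟩ := hCzCV x (hR'le hx) hxz
    have hm : z ^ k ∈ R' := by simpa using R'.mul_mem hx (R'.inv_mem (hVR hw))
    have : z ^ k = 1 := pow_eq_one_of_coprime
      (by rw [← zpow_natCast, ← zpow_mul, mul_comm, zpow_mul, zpow_natCast, hz3, one_zpow])
      (pow_orderOf_eq_one _) (hord _ hm)
    rw [this, one_mul]
    exact hw
  have htwo : ∀ y : G, (y = z * a ∨ y = z * a⁻¹) → ∀ x ∈ R', Commute x y → x = 1 := by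
    intro y hy x hx hxy
    have hyE : y ∈ E := by
      rcases hy with rfl | rfl
      exacts [E.mul_mem hzE haE, E.mul_mem hzE (E.inv_mem haE)]
    have hc : ∀ e ∈ E, (∀ w ∈ R', e * w * e⁻¹ ∈ R') → Commute x e := by
      intro e he heR
      have h1 := hsq y hy (x * e) (hxy.mul_left (hEcomm e he y hyE))
      have h2 := hsq y hy x hxy
      have hEm : x * e * x⁻¹ * e⁻¹ ∈ E := by
        rw [show x * e * x⁻¹ * e⁻¹ = (x * e) ^ 2 * e⁻¹ * (x ^ 2)⁻¹ * e⁻¹ by simp only [sq]; group]
        exact E.mul_mem (E.mul_mem (E.mul_mem h1 (E.inv_mem he)) (E.inv_mem h2)) (E.inv_mem he)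
      have hRm : x * e * x⁻¹ * e⁻¹ ∈ R' := by
        rw [show x * e * x⁻¹ * e⁻¹ = x * (e * x⁻¹ * e⁻¹) by group]
        exact R'.mul_mem hx (heR _ (R'.inv_mem hx))
      have h := pow_eq_one_of_coprime (hE3 _ hEm) (pow_orderOf_eq_one _) (hord _ hRm)
      exact mul_inv_eq_iff_eq_mul.1 (mul_inv_eq_one.1 h)
    have hxz := hc z hzE hzR
    have hxa := hc a haE haR
    obtain ⟨q, rfl⟩ := hCzR x hx hxz.eq
    obtain ⟨q, hq⟩ := q
    have h5 : q * a5 = a5 * q := congrArg Prod.snd (hφ (show d.φ (i5 q * aP) = d.φ (aP * i5 q) by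
      rw [map_mul, map_mul]; exact hxa.eq))
    have : q = 1 := by
      rcases mem_W0.1 hq with rfl | rfl | rfl | rfl
      · rfl
      all_goals exact absurd h5 (by decide +kernel)
    subst this
    exact map_one fV
  -- the centraliser of `a` in `R'`
  set X : Subgroup G := R' ⊓ centralizer {a} with hXdef
  have hXmem : ∀ x : G, x ∈ X ↔ x ∈ R' ∧ x * a = a * x := fun x => by
    rw [hXdef, Subgroup.mem_inf, mem_centralizer_singleton_iff]
  let g : P5 →* G := d.ψ.comp i5
  have hg : Function.Injective g := fun x y h => congrArg Prod.snd (hψ h)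
  set Y := X.comap g with hYdef
  have hXY : ∀ x ∈ X, ∃ q ∈ Y, g q = x := by
    intro x hx
    obtain ⟨hxR, hxa⟩ := (hXmem x).1 hx
    obtain ⟨l, hl, hl1⟩ := hCa x hxa
    have hlo : l ^ orderOf x = 1 := hψ (by rw [map_pow, hl, map_one, pow_orderOf_eq_one])
    have hp : l.1 = 1 := pow_eq_one_of_coprime ((p3_facts l.1).2.1 hl1) (congrArg Prod.fst hlo) (hord x hxR)
    have hgx : g l.2 = x := (congrArg d.ψ (show i5 l.2 = l from Prod.ext hp.symm rfl)).trans hl
    exact ⟨l.2, by rw [hYdef, mem_comap, hgx]; exact hx, hgx⟩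
  have hgz : g a5 = z := d.ψ_a
  have hYconj : ∀ q ∈ Y, c1 q ∈ Y ∧ c2 q ∈ Y := by
    intro q hq
    rw [hYdef, mem_comap, hXmem] at hq
    obtain ⟨hqR, hqa⟩ := hq
    constructor <;> rw [hYdef, mem_comap, hXmem]
    · rw [c1, map_mul, map_mul, map_inv, hgz]
      exact ⟨hzR _ hqR, ((hza.mul_left (show Commute (g q) a from hqa)).mul_left hza.inv_left).eq⟩
    · rw [c2, map_mul, map_mul, map_inv, hgz]
      exact ⟨conj_inv_mem hz3 hzR _ hqR,
        ((hza.inv_left.mul_left (show Commute (g q) a from hqa)).mul_left hza).eq⟩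
  have hY3 : ∀ q ∈ Y, q * q * q = 1 → q = 1 := by
    intro q hq h3
    have h := ((hXmem _).1 (mem_comap.1 hq)).1
    have hq3 : q ^ 3 = 1 := by simpa [pow_succ, pow_zero] using h3
    refine hg ((pow_eq_one_of_coprime ?_ (pow_orderOf_eq_one (g q)) (hord _ h)).trans (map_one g).symm)
    rw [← map_pow, hq3, map_one]
  have hYW : ∀ q ∈ Y, q ∈ W0 ∨ q ∈ W1 := by
    intro q hq
    obtain ⟨h1, h2⟩ := hYconj q hq
    rcases words q with h | h | h | ⟨hne, h3⟩ | ⟨hne, h3⟩ | ⟨hne, h3⟩
    · exact Or.inl (mem_W0.2 h)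
    · exact Or.inr (mem_W1.2 h)
    · exfalso
      subst h
      have hm := ((hmemCV _).1 (hR'le ((hXmem _).1 (mem_comap.1 hq)).1)).1
      rw [show g c5 = d.φ cP from d.ψ_c, htdef, ← map_mul, ← map_mul] at hm
      exact c5_not (congrArg Prod.snd (hφ hm))
    · exact absurd (hY3 _ (mul_mem (mul_mem (mul_mem hq hq) h1) h2) h3) hne
    · exact absurd (hY3 _ (mul_mem (mul_mem (mul_mem hq hq) h2) h1) h3) hne
    · exact absurd (hY3 _ (mul_mem (mul_mem (mul_mem hq h1) hq) h2) h3) hne
  have hW : (∀ q ∈ Y, q ∈ W0) ∨ (∀ q ∈ Y, q ∈ W1) := by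
    by_contra hcon
    push Not at hcon
    obtain ⟨⟨q₁, hq₁, hn₁⟩, q₀, hq₀, hn₀⟩ := hcon
    have m1 := (hYW q₁ hq₁).resolve_left hn₁
    have m0 := (hYW q₀ hq₀).resolve_right hn₀
    have n1 : q₁ ≠ 1 := fun h => hn₁ (h ▸ one_mem W0)
    have n0 : q₀ ≠ 1 := fun h => hn₀ (h ▸ one_mem W1)
    have c := cross q₀ q₁ (by simpa using (mem_W0.1 m0).resolve_left n0)
      (by simpa using (mem_W1.1 m1).resolve_left n1)
    rcases hYW _ (Y.mul_mem hq₀ hq₁) with h | h
    · exact c.1 (by simpa using mem_W0.1 h)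
    · exact c.2 (by simpa using mem_W1.1 h)
  have htri : X = ⊥ ∨ X = W0.map g ∨ X = W1.map g := by
    by_cases hb : X = ⊥
    · exact Or.inl hb
    · obtain ⟨x, hxX, hx1⟩ := X.bot_or_exists_ne_one.resolve_left hb
      obtain ⟨q, hq, rfl⟩ := hXY x hxX
      have hq1 : q ≠ 1 := fun h => hx1 (by rw [h, map_one])
      right
      rcases hW with hW | hW
      · left
        have hqW := (mem_W0.1 (hW q hq)).resolve_left hq1
        ext y
        constructor
        · intro hy
          obtain ⟨s, hs, rfl⟩ := hXY y hy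
          exact ⟨s, hW s hs, rfl⟩
        · rintro ⟨s, hs, rfl⟩
          suffices hs' : s ∈ Y from hs'
          rcases mem_W0.1 hs with h | h
          · rw [h]; exact Y.one_mem
          · rcases orbit0 q (by simpa using hqW) s (by simpa using h) with e | e | e <;> rw [e]
            exacts [hq, (hYconj q hq).1, (hYconj q hq).2]
      · right
        have hqW := (mem_W1.1 (hW q hq)).resolve_left hq1
        ext y
        constructor
        · intro hy
          obtain ⟨s, hs, rfl⟩ := hXY y hy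
          exact ⟨s, hW s hs, rfl⟩
        · rintro ⟨s, hs, rfl⟩
          suffices hs' : s ∈ Y from hs'
          rcases mem_W1.1 hs with h | h
          · rw [h]; exact Y.one_mem
          · rcases orbit1 q (by simpa using hqW) s (by simpa using h) with e | e | e <;> rw [e]
            exacts [hq, (hYconj q hq).1, (hYconj q hq).2]
  -- the order of `R'`
  have hcomm : ∀ (p : fV.range) (x : X), Commute (fV.range.subtype p) (X.subtype x) := by
    rintro ⟨_, q, rfl⟩ ⟨x, hx⟩
    exact hVc x (hR'le ((hXmem x).1 hx).1) q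
  let f := MonoidHom.noncommCoprod fV.range.subtype X.subtype hcomm
  have hle : R' ≤ f.range := by
    refine Coprime.le_of_pair Nat.prime_three
      (Nat.prime_three.coprime_iff_not_dvd.2 (hR'card ▸ hR3)) ?_ hza hz3 ha3 ha1 hab' ?_
    · rw [closure_le]
      rintro _ (rfl | rfl)
      · exact hnorm z hz3 hzR
      · exact hnorm a ha3 haR
    intro x hx hx1
    rintro w ⟨hwR, hwc⟩
    replace hwc : Commute w x := mem_centralizer_singleton_iff.1 hwc
    obtain ⟨e, he, hwe⟩ := (hEcases x hx).resolve_left hx1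
    rcases he with rfl | rfl | rfl | rfl
    · exact ⟨(⟨w, hCzR w hwR (hwe w hwc).eq⟩, 1), by simp [f, MonoidHom.noncommCoprod_apply]⟩
    · exact ⟨(1, ⟨w, (hXmem w).2 ⟨hwR, (hwe w hwc).eq⟩⟩), by simp [f, MonoidHom.noncommCoprod_apply]⟩
    · rw [htwo _ (Or.inl rfl) w hwR (hwe w hwc)]; exact one_mem _
    · rw [htwo _ (Or.inr rfl) w hwR (hwe w hwc)]; exact one_mem _
  have hrle : f.range ≤ R' := by
    rintro _ ⟨⟨p, x⟩, rfl⟩
    rw [MonoidHom.noncommCoprod_apply]
    exact mul_mem (hVR p.2) ((hXmem _).1 x.2).1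
  have hfinj : Function.Injective f := by
    rw [injective_iff_map_eq_one]
    rintro ⟨⟨_, ⟨q, hq⟩, rfl⟩, ⟨x, hx⟩⟩ h
    simp only [f, MonoidHom.noncommCoprod_apply, coe_subtype] at h
    obtain ⟨hxR, hxa⟩ := (hXmem x).1 hx
    have hpx : fV ⟨q, hq⟩ = x⁻¹ := eq_inv_of_mul_eq_one_left h
    have h5 : q * a5 = a5 * q := congrArg Prod.snd (hφ (show d.φ (i5 q * aP) = d.φ (aP * i5 q) by
      rw [map_mul, map_mul]
      change Commute (fV ⟨q, hq⟩) a
      rw [hpx]
      exact (show Commute x a from hxa).inv_left))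
    have : q = 1 := by
      rcases mem_W0.1 hq with rfl | rfl | rfl | rfl
      · rfl
      all_goals exact absurd h5 (by decide +kernel)
    subst this
    have hf1 : fV ⟨1, hq⟩ = 1 := map_one fV
    rw [hf1, one_mul] at h
    subst h
    exact Prod.ext (Subtype.ext hf1) rfl
  have hR'eq : Nat.card R' = 4 * Nat.card X := by
    rw [le_antisymm hle hrle, ← Nat.card_congr (MonoidHom.ofInjective hfinj).toEquiv, Nat.card_prod,
      hfVcard]
  have hXcard : ∀ W : Subgroup P5, X = W.map g → Nat.card X = Nat.card W := fun W h => by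
    rw [h, card_map_of_injective hg]
  rcases hRcases with h6 | ⟨π, hπ, hker, h16⟩
  · -- the centraliser has a normal `3`-complement
    have hcv : Nat.card d.CV = 24 * Nat.card X := by
      rw [← card_mul_index R, h6, ← hR'card, hR'eq]; ring
    rcases htri with hX | hX
    · left; rw [hcv, hX, card_bot]
    have htrans : d.Trans := by
      refine d.trans_or_double.resolve_right fun hdb => ?_
      have hconj : ∀ q ∈ Y, d5 * q * d5⁻¹ ∈ Y := by
        intro q hq
        rw [hYdef, mem_comap, hXmem] at hq ⊢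
        have e : g (d5 * q * d5⁻¹) = r * g q * r⁻¹ := by
          rw [map_mul, map_mul, map_inv, show g d5 = r from hdb.symm]
        rw [e]
        exact ⟨hR'n r hrCV _ hq.1, ((hra.mul_left hq.2).mul_left hra.inv_left).eq⟩
      rcases hX with hX | hX
      · have ht : t5 ∈ Y := by rw [hYdef, mem_comap, hX]; exact mem_map_of_mem g (mem_W0.2 (by simp))
        have := hconj _ ht
        rw [hYdef, mem_comap, hX, mem_map_iff_mem hg, mem_W0] at this
        exact absurd this (by decide +kernel)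
      · have ht : t6 ∈ Y := by rw [hYdef, mem_comap, hX]; exact mem_map_of_mem g (mem_W1.2 (by simp))
        have := hconj _ ht
        rw [hYdef, mem_comap, hX, mem_map_iff_mem hg, mem_W1] at this
        exact absurd this (by decide +kernel)
    have hgood : ∀ x ∈ X, ∀ s ∈ ({t, v} : Set G), s * x = x * s := by
      intro x hx s hs
      obtain ⟨h1, h2⟩ := (hmemCV x).1 (hR'le ((hXmem x).1 hx).1)
      rcases hs with rfl | rfl
      exacts [h1.symm, h2.symm]
    right
    rcases hX with hX | hX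
    · refine ⟨d, rfl, Or.inl ⟨htrans, ?_, ?_⟩⟩
      · rw [hcv, hXcard W0 hX, card_W0]
      · intro x hx y hy
        refine hgood y ?_ x hx
        rw [hX]
        rcases hy with rfl | rfl
        · exact ⟨t5, mem_W0.2 (by simp), rfl⟩
        · exact ⟨v5, mem_W0.2 (by simp), rfl⟩
    · let c := d.φ cP
      have hgc : d.g * c = c * d.g := mul_inv_eq_iff_eq_mul.1 d.g_c
      have hcc : c * c = 1 := by
        rw [← map_mul, show cP * cP = 1 by decide +kernel, map_one]
      have hg' : ∀ p : P35, d.g * c * d.φ p * (d.g * c)⁻¹ = d.g * d.φ (cP * p * cP⁻¹) * d.g⁻¹ := by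
        intro p
        rw [map_mul, map_mul, map_inv]
        change _ = d.g * (c * d.φ p * c⁻¹) * d.g⁻¹
        group
      let d' : Data G :=
        { φ := d.φ
          φ_inj := d.φ_inj
          φ_range := d.φ_range
          g := d.g * c
          g_z := by rw [hg', show cP * zP * cP⁻¹ = zP by decide +kernel]; exact d.g_z
          g_a := by rw [hg', show cP * aP * cP⁻¹ = aP by decide +kernel]; exact d.g_a
          g_c := by rw [hg', show cP * cP * cP⁻¹ = cP by decide +kernel]; exact d.g_c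
          g_sq := by
            rw [show d.g * c * (d.g * c) = d.g * d.g * (c * c) from
              (show Commute c d.g from hgc.symm).mul_mul_mul_comm _ _, hcc, mul_one]
            exact d.g_sq
          rshape := by
            rw [hg', sP_cP, hg', dP_cP]
            exact d.rshape
          card_cent := d.card_cent
          sq_cent := d.sq_cent
          sylow := d.sylow }
      refine ⟨d', rfl, Or.inl ⟨?_, ?_, ?_⟩⟩
      · change d.φ rP = d.g * c * d.φ sP * (d.g * c)⁻¹
        rw [hg', sP_cP]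
        exact htrans
      · change Nat.card d.CV = 96
        rw [hcv, hXcard W1 hX, card_W1]
      · intro x hx y hy
        change x ∈ ({t, v} : Set G) at hx
        refine hgood y ?_ x hx
        rw [hX]
        rcases hy with rfl | rfl
        · refine ⟨t6, mem_W1.2 (by simp), ?_⟩
          change d.g * d.φ (i5 t6) * d.g⁻¹ = d.g * c * d.φ tP * (d.g * c)⁻¹
          rw [hg', show cP * tP * cP⁻¹ = i5 t6 by decide +kernel]
        · refine ⟨v6, mem_W1.2 (by simp), ?_⟩
          change d.g * d.φ (i5 v6) * d.g⁻¹ = d.g * c * d.φ vP * (d.g * c)⁻¹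
          rw [hg', show cP * vP * cP⁻¹ = i5 v6 by decide +kernel]
  · -- the centraliser involves `A5`
    right
    have hX1 : Nat.card X = 1 := by
      rcases htri with hX | hX | hX
      · rw [hX, card_bot]
      · exfalso; apply h16; rw [← hR'card, hR'eq, hXcard W0 hX, card_W0]
      · exfalso; apply h16; rw [← hR'card, hR'eq, hXcard W1 hX, card_W1]
    have hcv : Nat.card d.CV = 240 := by
      rw [← card_mul_index R, ← hR'card, hR'eq, hX1, ← hker, index_ker,
        MonoidHom.range_eq_top.2 hπ, card_top, card_A5]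
    refine ⟨d, rfl, Or.inr (exc d hEn hEc hCa hzCV hrCV h9 fV (fun _ => rfl) hVle hVc π hπ ?_ hcv)⟩
    rw [hker]
    refine (eq_of_le_of_card_ge (fun x hx => ?_) ?_).symm
    · obtain ⟨y, hy, hyx⟩ := hVR (mem_subgroupOf.1 hx)
      exact d.CV.subtype_injective hyx ▸ hy
    · rw [← hR'card, hR'eq, hX1, hVccard]

end Cfsg.Agent.Lib.SymEightThree6.DichProof

namespace Cfsg.Agent.Lib.SymEightThree6

universe u

theorem dich : DichStmt.{u} := fun _ _ _ d => DichProof.main d

end Cfsg.Agent.Lib.SymEightThree6
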