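import Cfsg.Agent.Lib.SymEightThree6.Spec

/-!
Facts on the two types of involutions in the even configuration.
-/

set_option autoImplicit false

namespace Cfsg.Agent.Lib.SymEightThree6

open Equiv Equiv.Perm

universe u

namespace DoubleCProof

variable {G : Type u} [Group G]

/-- `(02)` -/
def hP : P35 := (1, swap 0 2)
/-- `(12)` -/
def c2P : P35 := (1, swap 1 2)

theorem comm_map (θ : P35 →* G) {m n : P35} (h : m * n = n * m) : θ m * θ n = θ n * θ m := by
  rw [← map_mul, h, map_mul]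

theorem conj_map (θ : P35 →* G) {m n k : P35} (h : m * n * m⁻¹ = k) :
    θ m * θ n * (θ m)⁻¹ = θ k := by
  rw [← map_inv, ← map_mul, ← map_mul, h]

theorem card_cent_conj (k x : G) :
    Nat.card (Subgroup.centralizer ({k * x * k⁻¹} : Set G)) =
      Nat.card (Subgroup.centralizer ({x} : Set G)) := by
  refine (Nat.card_congr ((MulAut.conj k).toEquiv.subtypeEquiv fun w => ?_)).symm
  rw [Subgroup.mem_centralizer_singleton_iff, Subgroup.mem_centralizer_singleton_iff,
    MulEquiv.toEquiv_eq_coe, MulEquiv.coe_toEquiv, MulAut.conj_apply,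
    show k * w * k⁻¹ * (k * x * k⁻¹) = k * (w * x) * k⁻¹ by group,
    show k * x * k⁻¹ * (k * w * k⁻¹) = k * (x * w) * k⁻¹ by group, mul_left_inj, mul_right_inj]

theorem cent_ra_table : ∀ p : P35, p * zP = zP * p → p * dP = dP * p → p ^ 9 = 1 →
    p = 1 ∨ p = zP ∨ p = zP * zP := by decide +kernel

variable (d : Data G)

theorem a_cube : d.φ aP ^ 3 = 1 := by
  rw [← map_pow, show aP ^ 3 = 1 by decide +kernel, map_one]

theorem cent_ra (hD : d.Double) {w : G} (hwa : w * d.φ aP = d.φ aP * w)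
    (hwr : w * d.φ rP = d.φ rP * w) (h9 : w ^ 9 = 1) :
    w = 1 ∨ w = d.φ aP ∨ w = d.φ aP * d.φ aP := by
  have hD' : d.φ rP = d.ψ dP := hD
  have hw : w ∈ Subgroup.normalizer (Subgroup.zpowers (d.φ aP) : Set G) :=
    Subgroup.centralizer_le_normalizer _ (by
      rw [Subgroup.mem_centralizer_iff]
      intro x hx
      obtain ⟨i, rfl⟩ := Subgroup.mem_zpowers_iff.1 hx
      exact (Commute.zpow_right (show Commute w (d.φ aP) from hwa) i).eq.symm)
  rw [← d.ψ_range] at hw
  obtain ⟨p, rfl⟩ := hw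
  rw [← d.ψ_z, ← map_mul, ← map_mul] at hwa
  rw [hD', ← map_mul, ← map_mul] at hwr
  rw [← map_pow] at h9
  rcases cent_ra_table p (d.ψ_inj hwa) (d.ψ_inj hwr) (d.ψ_inj (h9.trans (map_one d.ψ).symm))
    with h | h | h <;> subst h
  · exact Or.inl (map_one _)
  · exact Or.inr (Or.inl d.ψ_z)
  · exact Or.inr (Or.inr (by rw [map_mul, d.ψ_z]))

theorem card_cent_a_ne [Finite G] :
    Nat.card (Subgroup.centralizer ({d.φ aP} : Set G)) ≠ 36 := by
  intro h
  haveI : Fact (Nat.Prime 5) := ⟨by norm_num⟩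
  have h5 : orderOf (d.ψ ((1, finRotate 5) : P35)) = 5 := by
    rw [orderOf_injective d.ψ d.ψ_inj]
    exact orderOf_eq_prime (by decide +kernel) (by decide +kernel)
  have hm : d.ψ ((1, finRotate 5) : P35) ∈ Subgroup.centralizer ({d.φ aP} : Set G) := by
    rw [Subgroup.mem_centralizer_singleton_iff, ← d.ψ_z]
    exact comm_map _ (by decide +kernel)
  have := Subgroup.orderOf_dvd_natCard _ hm
  rw [h5, h] at this
  omega

/-- No conjugate of `za` centralises the involution inverting `z`. -/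
theorem noY [Finite G] (hD : d.Double) (k : G) :
    ¬ k * (d.φ zP * d.φ aP) * k⁻¹ * d.φ rP = d.φ rP * (k * (d.φ zP * d.φ aP) * k⁻¹) := by
  intro hw
  haveI : Fact (Nat.Prime 3) := ⟨Nat.prime_three⟩
  set a := d.φ aP
  set y := d.φ zP * a
  set C : Subgroup G := Subgroup.centralizer ({d.φ rP} : Set G) with hC
  have haC : a ∈ C := by
    rw [hC, Subgroup.mem_centralizer_singleton_iff]
    exact comm_map _ (by decide +kernel)
  have hyC : k * y * k⁻¹ ∈ C := by rwa [hC, Subgroup.mem_centralizer_singleton_iff]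
  have hy3 : y ^ 3 = 1 := by
    show (d.φ zP * d.φ aP) ^ 3 = 1
    rw [← map_mul, ← map_pow, show (zP * aP) ^ 3 = 1 by decide +kernel, map_one]
  have hy1 : y ≠ 1 := by
    show d.φ zP * d.φ aP ≠ 1
    rw [← map_mul]
    exact fun h => absurd (d.φ_inj (h.trans (map_one d.φ).symm)) (by decide +kernel)
  have hp : ∀ v : C, v ^ 3 = 1 → IsPGroup 3 (Subgroup.zpowers v) := fun v hv => by
    rintro ⟨x, hx⟩
    obtain ⟨i, rfl⟩ := Subgroup.mem_zpowers_iff.1 hx
    refine ⟨1, Subtype.ext ?_⟩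
    show (v ^ i) ^ (3 ^ 1 : ℕ) = 1
    rw [pow_one, ← zpow_natCast, ← zpow_mul, mul_comm, zpow_mul, zpow_natCast, hv, one_zpow]
  have ha3 : (⟨a, haC⟩ : C) ^ 3 = 1 := Subtype.ext (a_cube d)
  have hw3 : (⟨k * y * k⁻¹, hyC⟩ : C) ^ 3 = 1 := Subtype.ext (by
    show (k * y * k⁻¹) ^ 3 = 1
    rw [conj_pow, hy3, mul_one, mul_inv_cancel])
  obtain ⟨S, hS⟩ := (hp _ ha3).exists_le_sylow
  obtain ⟨S', hS'⟩ := (hp _ hw3).exists_le_sylow
  obtain ⟨l, hl⟩ := MulAction.exists_smul_eq C S' S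
  have hwS : l * ⟨k * y * k⁻¹, hyC⟩ * l⁻¹ ∈ (S : Subgroup C) := by
    rw [← hl]
    exact Subgroup.smul_mem_pointwise_smul _ (MulAut.conj l) _ (hS' (Subgroup.mem_zpowers _))
  have hcomm : IsMulCommutative (S : Subgroup C) := by
    obtain ⟨n, hn⟩ := IsPGroup.iff_card.1 S.isPGroup'
    have hd : 3 ^ n ∣ Nat.card G :=
      hn ▸ ((Subgroup.card_subgroup_dvd_card _).trans (Subgroup.card_subgroup_dvd_card C))
    have hn2 : n ≤ 2 := by
      by_contra h
      exact d.sylow (dvd_trans (pow_dvd_pow 3 (show 3 ≤ n by omega)) hd)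
    rcases (show n = 0 ∨ n = 1 ∨ n = 2 by omega) with rfl | rfl | rfl
    · haveI : Subsingleton (S : Subgroup C) :=
        (Nat.card_eq_one_iff_unique.1 (by simpa using hn)).1
      exact ⟨⟨fun _ _ => Subsingleton.elim _ _⟩⟩
    · haveI := isCyclic_of_prime_card (α := (S : Subgroup C)) (p := 3) (by simpa using hn)
      infer_instance
    · exact IsPGroup.isMulCommutative_of_card_eq_prime_sq hn
  have hc := setLike_mul_comm (s := (S : Subgroup C))
    (hS (Subgroup.mem_zpowers (⟨a, haC⟩ : C))) hwS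
  set w : G := (l : G) * (k * y * k⁻¹) * (l : G)⁻¹ with hwdef
  have hwa : w * a = a * w := (congrArg Subtype.val hc).symm
  have hwr : w * d.φ rP = d.φ rP * w :=
    Subgroup.mem_centralizer_singleton_iff.1 (l * ⟨k * y * k⁻¹, hyC⟩ * l⁻¹).2
  have hw9 : w ^ 9 = 1 := by
    rw [hwdef, conj_pow, conj_pow, show y ^ 9 = (y ^ 3) ^ 3 by rw [← pow_mul], hy3, one_pow]
    group
  have hcard : Nat.card (Subgroup.centralizer ({w} : Set G)) = 36 := by
    rw [hwdef, card_cent_conj, card_cent_conj]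
    exact d.card_cent
  rcases cent_ra d hD hwa hwr hw9 with h | h | h
  · apply hy1
    have h' : k * y * k⁻¹ = 1 := by
      have : (l : G) * (k * y * k⁻¹) * (l : G)⁻¹ = 1 := h
      rwa [mul_inv_eq_one, mul_eq_left] at this
    rwa [mul_inv_eq_one, mul_eq_left] at h'
  · rw [h] at hcard
    exact card_cent_a_ne d hcard
  · have hinv : a * a = a⁻¹ :=
      eq_inv_of_mul_eq_one_left (by rw [← pow_two, ← pow_succ]; exact a_cube d)
    rw [h, hinv] at hcard
    refine card_cent_a_ne d (Eq.trans ?_ hcard)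
    refine Nat.card_congr (Equiv.setCongr (Set.ext fun x => ?_))
    simp only [SetLike.mem_coe, Subgroup.mem_centralizer_singleton_iff]
    exact ⟨fun hx => (Commute.inv_right (show Commute x a from hx)).eq,
      fun hx => by simpa using (Commute.inv_right (show Commute x a⁻¹ from hx)).eq⟩

/-- The two types are different. -/
theorem noC [Finite G] (hD : d.Double) (k l : G) :
    k * d.φ rP * k⁻¹ ≠ l * d.φ cP * l⁻¹ := by
  intro h
  have hr : d.φ rP = k⁻¹ * l * d.φ cP * (k⁻¹ * l)⁻¹ := by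
    calc d.φ rP = k⁻¹ * (k * d.φ rP * k⁻¹) * k := by group
      _ = k⁻¹ * (l * d.φ cP * l⁻¹) * k := by rw [h]
      _ = k⁻¹ * l * d.φ cP * (k⁻¹ * l)⁻¹ := by group
  refine noY d hD (k⁻¹ * l) ?_
  rw [hr]
  set m := k⁻¹ * l
  calc m * (d.φ zP * d.φ aP) * m⁻¹ * (m * d.φ cP * m⁻¹)
      = m * (d.φ zP * d.φ aP * d.φ cP) * m⁻¹ := by group
    _ = m * (d.φ cP * (d.φ zP * d.φ aP)) * m⁻¹ := by
      rw [← map_mul, comm_map d.φ (show zP * aP * cP = cP * (zP * aP) by decide +kernel)]
    _ = m * d.φ cP * m⁻¹ * (m * (d.φ zP * d.φ aP) * m⁻¹) := by group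

/-- The four points of the four group. -/
def fourV : Fin 4 → Perm (Fin 5) := ![1, tP.2, vP.2, tP.2 * vP.2]

theorem fourV_mem : ∀ i, ((1, fourV i) : P35) * tP = tP * (1, fourV i) ∧
    ((1, fourV i) : P35) * vP = vP * (1, fourV i) := by decide +kernel

theorem pair_V_comm : ∀ (p : Perm (Fin 3)) (i : Fin 4), ((p, fourV i) : P35) * tP = tP * (p, fourV i) ∧
    ((p, fourV i) : P35) * vP = vP * (p, fourV i) := by decide +kernel

theorem table24 : ∀ (p : Perm (Fin 3)) (i : Fin 4),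
    p * rP.1 = rP.1 * p → swap 1 2 * fourV i = fourV i * swap 1 2 →
    (p = 1 ∨ p = rP.1) ∧ (fourV i = 1 ∨ fourV i = tP.2) := by decide +kernel

theorem fourV_inj : Function.Injective fourV := by decide +kernel

theorem fourV_cent : ∀ i j,
    (∀ q : Perm (Fin 5), Perm.sign q = 1 → (fourV j)⁻¹ * fourV i * q = q * ((fourV j)⁻¹ * fourV i)) →
      i = j := by decide +kernel

theorem fourV_conj : ∀ i, ∃ j, swap 1 2 * fourV i * swap 1 2 = fourV j := by decide +kernel

theorem fourV_fixed : ∀ i, swap 1 2 * fourV i * swap 1 2 = fourV i →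
    fourV i = 1 ∨ fourV i = tP.2 := by decide +kernel

theorem alt_fixed : ∀ q : Perm (Fin 5), Perm.sign q = 1 → q * dP.2 = dP.2 * q →
    cP.2 * q * cP.2 = q → q = 1 ∨ q = dP.2 := by decide +kernel

theorem fourV_even : ∀ i, Perm.sign (fourV i) = 1 := by decide +kernel

/-- The part of the centraliser of the four group centralising two involutions. -/
theorem cv_fixed [Finite G] (hD : d.Double) (h24 : Nat.card d.CV = 24 ∨ d.Exc) {x : G}
    (hx : x ∈ d.CV) (hxr : x * d.φ rP = d.φ rP * x) (hxc : d.φ c2P * x = x * d.φ c2P) :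
    x = 1 ∨ x = d.φ tP ∨ x = d.φ rP ∨ x = d.φ rP * d.φ tP := by
  have hmemφ : ∀ p : P35, p * tP = tP * p → p * vP = vP * p → d.φ p ∈ d.CV := fun p h1 h2 => by
    rw [Data.CV, Subgroup.mem_centralizer_iff]
    intro w hw
    rcases hw with rfl | rfl
    · exact (comm_map _ h1).symm
    · exact (comm_map _ h2).symm
  rcases h24 with h24 | hE
  · let F : Perm (Fin 3) × Fin 4 → d.CV := fun p =>
      ⟨d.φ (p.1, fourV p.2), hmemφ _ (pair_V_comm p.1 p.2).1 (pair_V_comm p.1 p.2).2⟩
    have hF : Function.Injective F := fun p q h => by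
      obtain ⟨h1, h2⟩ := Prod.ext_iff.1 (d.φ_inj (congrArg Subtype.val h))
      exact Prod.ext h1 (fourV_inj h2)
    obtain ⟨⟨p, i⟩, hp⟩ := (hF.bijective_of_nat_card_le (by
      rw [h24]; simp [Nat.card_eq_fintype_card, Fintype.card_perm, Nat.factorial])).2 ⟨x, hx⟩
    obtain rfl : d.φ (p, fourV i) = x := congrArg Subtype.val hp
    rw [← map_mul, ← map_mul] at hxr hxc
    obtain ⟨hp | hp, hi | hi⟩ := table24 p i (congrArg Prod.fst (d.φ_inj hxr))
      (congrArg Prod.snd (d.φ_inj hxc)) <;> rw [hp, hi]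
    · exact Or.inl (map_one _)
    · exact Or.inr (Or.inl rfl)
    · exact Or.inr (Or.inr (Or.inl rfl))
    · exact Or.inr (Or.inr (Or.inr (map_mul d.φ rP tP)))
  · obtain ⟨-, h240, hcom⟩ := hE
    have hψmem : ∀ q : Perm (Fin 5), Perm.sign q = 1 → d.ψ ((1, q) : P35) ∈ d.CV := fun q hq => by
      rw [Data.CV, Subgroup.mem_centralizer_iff]
      intro w hw
      rcases hw with rfl | rfl
      · exact hcom tP.2 q (by decide +kernel) hq
      · exact hcom vP.2 q (by decide +kernel) hq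
    let F : Fin 4 × alternatingGroup (Fin 5) → d.CV := fun p =>
      ⟨d.φ (1, fourV p.1) * d.ψ (1, (p.2 : Perm (Fin 5))),
        mul_mem (hmemφ _ (fourV_mem p.1).1 (fourV_mem p.1).2)
          (hψmem _ (Perm.mem_alternatingGroup.1 p.2.2))⟩
    have hF' : ∀ (i j : Fin 4) (k k' : Perm (Fin 5)), Perm.sign k = 1 → Perm.sign k' = 1 →
        d.φ (1, fourV i) * d.ψ (1, k) = d.φ (1, fourV j) * d.ψ (1, k') → i = j ∧ k = k' := by
      intro i j k k' hk hk' h
      have hij : i = j := by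
        refine fourV_cent i j fun q hq => ?_
        have h1 : d.φ ((1, (fourV j)⁻¹ * fourV i) : P35) = d.ψ ((1, k' * k⁻¹) : P35) := by
          rw [show ((1, (fourV j)⁻¹ * fourV i) : P35) = ((1, fourV j) : P35)⁻¹ * (1, fourV i) by
              ext <;> simp,
            show ((1, k' * k⁻¹) : P35) = (1, k') * ((1, k) : P35)⁻¹ by ext <;> simp,
            map_mul, map_mul, map_inv, map_inv, inv_mul_eq_iff_eq_mul, ← mul_assoc,
            eq_mul_inv_iff_mul_eq]
          exact h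
        have h2 := hcom q (k' * k⁻¹) hq (by simp [hk, hk'])
        rw [← h1, ← map_mul, ← map_mul] at h2
        exact (congrArg Prod.snd (d.φ_inj h2)).symm
      subst hij
      exact ⟨rfl, congrArg Prod.snd (d.ψ_inj (mul_left_cancel h))⟩
    have hF : Function.Injective F := fun p q h => by
      obtain ⟨h1, h2⟩ := hF' p.1 q.1 _ _ (Perm.mem_alternatingGroup.1 p.2.2)
        (Perm.mem_alternatingGroup.1 q.2.2) (congrArg Subtype.val h)
      exact Prod.ext h1 (Subtype.ext h2)
    obtain ⟨⟨i, ⟨k, hk⟩⟩, hp⟩ := (hF.bijective_of_nat_card_le (by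
      rw [h240, Nat.card_prod, Nat.card_eq_fintype_card, Nat.card_eq_fintype_card,
        Fintype.card_fin]
      have : Fintype.card (alternatingGroup (Fin 5)) = 60 := by decide +kernel
      omega)).2 ⟨x, hx⟩
    have hk' : Perm.sign k = 1 := Perm.mem_alternatingGroup.1 hk
    obtain rfl : d.φ (1, fourV i) * d.ψ (1, k) = x := congrArg Subtype.val hp
    have hψr : d.ψ rP = d.φ dP := d.ψ_rP_of hD dP_cP
    have hkd : k * dP.2 = dP.2 * k := by
      have hri : d.φ rP * d.φ (1, fourV i) = d.φ (1, fourV i) * d.φ rP :=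
        comm_map _ (by ext <;> simp [rP])
      rw [← mul_assoc, hri, mul_assoc, mul_assoc, mul_right_inj] at hxr
      rw [show d.φ rP = d.ψ dP from hD, ← map_mul, ← map_mul] at hxr
      exact congrArg Prod.snd (d.ψ_inj hxr)
    obtain ⟨j, hj⟩ := fourV_conj i
    have e1 : d.φ c2P = d.φ tP * d.ψ cP * d.ψ rP := by
      rw [d.ψ_c, hψr, ← map_mul, ← map_mul, show tP * cP * dP = c2P by decide +kernel]
    have hconjψ : d.φ c2P * d.ψ (1, k) * (d.φ c2P)⁻¹ =
        d.ψ ((1, cP.2 * k * cP.2) : P35) := by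
      have hr1 : d.ψ rP * d.ψ (1, k) = d.ψ (1, k) * d.ψ rP := comm_map _ (by ext <;> simp [rP])
      have ht : d.φ tP * d.ψ ((1, cP.2 * k * cP.2) : P35) =
          d.ψ ((1, cP.2 * k * cP.2) : P35) * d.φ tP := by
        refine hcom tP.2 _ (by decide +kernel) ?_
        simp [hk', show Perm.sign cP.2 = -1 by decide +kernel]
      have hc : d.ψ cP * d.ψ (1, k) = d.ψ ((1, cP.2 * k * cP.2) : P35) * d.ψ cP := by
        rw [← map_mul, ← map_mul]
        congr 1
        ext <;> simp [cP, mul_assoc]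
      rw [e1, mul_inv_eq_iff_eq_mul, mul_assoc, hr1, ← mul_assoc, mul_assoc (d.φ tP), hc,
        ← mul_assoc, ht]
      simp only [mul_assoc]
    have hconjφ : d.φ c2P * d.φ (1, fourV i) * (d.φ c2P)⁻¹ = d.φ (1, fourV j) :=
      conj_map _ (by rw [← hj]; ext <;> simp [c2P])
    have hfix : d.φ c2P * (d.φ (1, fourV i) * d.ψ (1, k)) * (d.φ c2P)⁻¹ =
        d.φ (1, fourV i) * d.ψ (1, k) := by rw [hxc, mul_inv_cancel_right]
    have hsplit : d.φ c2P * (d.φ (1, fourV i) * d.ψ (1, k)) * (d.φ c2P)⁻¹ =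
        d.φ c2P * d.φ (1, fourV i) * (d.φ c2P)⁻¹ * (d.φ c2P * d.ψ (1, k) * (d.φ c2P)⁻¹) := by
      group
    rw [hsplit, hconjφ, hconjψ] at hfix
    obtain ⟨hji, hkk⟩ := hF' _ _ _ _ (by simp [hk', show Perm.sign cP.2 = -1 by decide +kernel])
      hk' hfix
    subst hji
    rcases fourV_fixed _ hj with hv | hv <;> rcases alt_fixed k hk' hkd hkk with hq | hq <;>
      rw [hv, hq]
    · left
      rw [show ((1, 1) : P35) = 1 from rfl, map_one, map_one, one_mul]
    · right; right; left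
      rw [show ((1, 1) : P35) = 1 from rfl, map_one, one_mul]
      exact hD.symm
    · right; left
      rw [show ((1, 1) : P35) = 1 from rfl, map_one, mul_one]
      rfl
    · right; right; right
      rw [show d.φ rP * d.φ tP = d.φ tP * d.φ rP from comm_map _ (by decide +kernel),
        show d.φ rP = d.ψ dP from hD]
      rfl

end DoubleCProof

end Cfsg.Agent.Lib.SymEightThree6
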