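import Cfsg.Agent.Lib.SymEightThree6.DoubleCQuot
import Cfsg.Agent.Lib.SymEightThree6.DoubleCGroup
import Cfsg.Agent.Lib.SymEightThree6.CentC

/-!
In the even configuration the centraliser of the involution centralising both elements of order
three normalises the subgroup they span.
-/

set_option autoImplicit false

namespace Cfsg.Agent.Lib.SymEightThree6

open Equiv Equiv.Perm

universe u

namespace DoubleCProof

variable {G : Type u} [Group G] [Finite G] (d : Data G)

theorem conj_cent (hD : d.Double) {x : G} (hxc : x * d.φ cP = d.φ cP * x)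
    (hxr : x * d.φ rP = d.φ rP * x) (hxd : x * d.φ dP = d.φ dP * x)
    (hxq : x * d.φ uP = d.φ uP * x) (h24 : Nat.card d.CV = 24 ∨ d.Exc) :
    x = 1 ∨ x = d.φ dP ∨ x = d.φ rP ∨ x = d.φ rP * d.φ dP := by
  set e : G ≃* G := MulAut.conj (d.φ hP) with he
  have hm : ∀ m n : P35, hP * m * hP⁻¹ = n → e (d.φ m) = d.φ n := fun m n h => by
    rw [he, MulAut.conj_apply]
    exact conj_map _ h
  have hr := hm rP rP (by decide +kernel)
  have hd := hm dP tP (by decide +kernel)
  have hc := hm cP c2P (by decide +kernel)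
  have hq := hm uP (tP * vP) (by decide +kernel)
  have h1 : e x * d.φ tP = d.φ tP * e x := by rw [← hd, ← map_mul, hxd, map_mul]
  have h2 : e x * d.φ (tP * vP) = d.φ (tP * vP) * e x := by rw [← hq, ← map_mul, hxq, map_mul]
  have h3 : e x * d.φ vP = d.φ vP * e x := by
    have hv : d.φ vP = d.φ tP * d.φ (tP * vP) := by
      rw [← map_mul, show tP * (tP * vP) = vP by decide +kernel]
    rw [hv]
    exact (Commute.mul_right (show Commute (e x) _ from h1) (show Commute (e x) _ from h2)).eq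
  have hmem : e x ∈ d.CV := by
    rw [Data.CV, Subgroup.mem_centralizer_iff]
    intro w hw
    rcases hw with rfl | rfl
    · exact h1.symm
    · exact h3.symm
  rcases cv_fixed d hD h24 hmem (by rw [← hr, ← map_mul, hxr, map_mul])
    (by rw [← hc, ← map_mul, ← hxc, map_mul]) with h | h | h | h
  · exact Or.inl (e.injective (h.trans (map_one e).symm))
  · exact Or.inr (Or.inl (e.injective (h.trans hd.symm)))
  · exact Or.inr (Or.inr (Or.inl (e.injective (h.trans hr.symm))))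
  · exact Or.inr (Or.inr (Or.inr (e.injective (by rw [h, map_mul, hr, hd]))))

/-- The centraliser of `c`. -/
abbrev C : Subgroup G := Subgroup.centralizer ({d.φ cP} : Set G)

theorem mem_C {w : G} (h : w * d.φ cP = d.φ cP * w) : w ∈ C d :=
  Subgroup.mem_centralizer_singleton_iff.2 h

/-- An element of the centraliser from the first system. -/
def elC (p : P35) (h : p * cP = cP * p := by decide +kernel) : C d :=
  ⟨d.φ p, mem_C d (comm_map _ h)⟩

theorem no_S6 (hD : d.Double) (h24 : Nat.card d.CV = 24 ∨ d.Exc) (f : C d →* Perm (Fin 6))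
    (hfs : Function.Surjective f) (hfk : ∀ x, f x = 1 ↔ (x : G) ∈ Subgroup.zpowers (d.φ cP)) :
    False := by
  have hD' : d.φ rP = d.ψ dP := hD
  have hψr : d.ψ rP = d.φ dP := d.ψ_rP_of hD dP_cP
  have hcc : d.φ cP * d.φ cP = 1 := by
    rw [← map_mul, show cP * cP = 1 by decide +kernel, map_one]
  have hcne : d.φ cP ≠ 1 := fun h =>
    absurd (d.φ_inj (h.trans (map_one d.φ).symm)) (by decide +kernel)
  -- lifts
  have hlift : ∀ w w' : C d, f w = f w' → (w : G) = w' ∨ (w : G) = w' * d.φ cP := by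
    intro w w' h
    have h1 : f (w'⁻¹ * w) = 1 := by rw [map_mul, map_inv, h, inv_mul_cancel]
    obtain ⟨i, hi⟩ := Subgroup.mem_zpowers_iff.1 ((hfk _).1 h1)
    have h2 : (d.φ cP : G) ^ (2 : ℤ) = 1 := by
      rw [show (2 : ℤ) = ((2 : ℕ) : ℤ) from rfl, zpow_natCast, pow_two, hcc]
    rcases Int.even_or_odd i with ⟨j, hj⟩ | ⟨j, hj⟩
    · left
      rw [hj, ← two_mul, zpow_mul, h2, one_zpow] at hi
      exact (inv_mul_eq_one.1 hi.symm).symm
    · right
      rw [hj, zpow_add, zpow_mul, h2, one_zpow, one_mul, zpow_one] at hi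
      rw [hi]
      simp
  -- the elements
  let zc : C d := elC d zP
  let ac : C d := elC d aP
  let rc : C d := elC d rP
  let dc : C d := elC d dP
  let cc : C d := elC d cP
  let gc : C d := ⟨d.g, mem_C d (by
    calc d.g * d.φ cP = d.g * d.φ cP * d.g⁻¹ * d.g := by group
      _ = d.φ cP * d.g := by rw [d.g_c])⟩
  have hfc : f cc = 1 := (hfk _).2 (Subgroup.mem_zpowers _)
  have hk : ∀ k : C d, (k : G) * d.φ cP * (k : G)⁻¹ = d.φ cP := fun k => by
    rw [Subgroup.mem_centralizer_singleton_iff.1 k.2, mul_inv_cancel_right]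
  -- conjugates of the transposition
  have hI_rc : d.φ rP * d.φ cP = d.ψ uP * d.φ cP * (d.ψ uP)⁻¹ := by
    rw [hD', ← d.ψ_c, ← map_mul, conj_map d.ψ (show uP * cP * uP⁻¹ = dP * cP by decide +kernel)]
  have hI_dc : d.φ cP * d.φ dP = d.φ uP * d.φ cP * (d.φ uP)⁻¹ := by
    rw [← map_mul, conj_map d.φ (show uP * cP * uP⁻¹ = cP * dP by decide +kernel)]
  have hq'c : d.ψ uP * d.φ cP * (d.ψ uP)⁻¹ = d.φ cP * d.φ rP := by
    rw [← hI_rc]
    exact comm_map _ (by decide +kernel)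
  have hq'd : d.ψ uP * d.φ dP * (d.ψ uP)⁻¹ = d.φ dP := by
    rw [← hψr]
    exact conj_map d.ψ (by decide +kernel)
  have hq'r : d.ψ uP * d.φ rP * (d.ψ uP)⁻¹ = d.φ rP := by
    rw [hD']
    exact conj_map d.ψ (by decide +kernel)
  have hI_crd : d.φ cP * d.φ rP * d.φ dP =
      d.ψ uP * d.φ uP * d.φ cP * (d.ψ uP * d.φ uP)⁻¹ := by
    rw [show d.ψ uP * d.φ uP * d.φ cP * (d.ψ uP * d.φ uP)⁻¹ =
        d.ψ uP * (d.φ uP * d.φ cP * (d.φ uP)⁻¹) * (d.ψ uP)⁻¹ by group, ← hI_dc,
      show d.ψ uP * (d.φ cP * d.φ dP) * (d.ψ uP)⁻¹ =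
        d.ψ uP * d.φ cP * (d.ψ uP)⁻¹ * (d.ψ uP * d.φ dP * (d.ψ uP)⁻¹) by group, hq'c, hq'd]
  -- commuting lifts
  have hcommLift : ∀ k v : C d, f (k * rc * k⁻¹) * f v = f v * f (k * rc * k⁻¹) →
      ((k : G) * d.φ rP * (k : G)⁻¹) * v = v * ((k : G) * d.φ rP * (k : G)⁻¹) := by
    intro k v h
    have h' : f (v * (k * rc * k⁻¹) * v⁻¹) = f (k * rc * k⁻¹) := by
      rw [map_mul, map_mul, ← h, map_inv, mul_inv_cancel_right]
    rcases hlift _ _ h' with e | e
    · exact (mul_inv_eq_iff_eq_mul.1 e).symm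
    · exfalso
      apply noC d hD ((v : G) * k) ((k : G) * d.ψ uP)
      calc (v : G) * k * d.φ rP * ((v : G) * k)⁻¹ = v * (k * d.φ rP * (k : G)⁻¹) * (v : G)⁻¹ := by
            group
        _ = (k : G) * d.φ rP * (k : G)⁻¹ * d.φ cP := e
        _ = (k : G) * d.φ rP * (k : G)⁻¹ * ((k : G) * d.φ cP * (k : G)⁻¹) := by rw [hk]
        _ = (k : G) * (d.φ rP * d.φ cP) * (k : G)⁻¹ := by group
        _ = _ := by rw [hI_rc]; group
  -- the configuration in `S6`
  have hne : ∀ p : P35, (h : p * cP = cP * p) → p ≠ 1 → p ≠ cP → f (elC d p h) ≠ 1 := by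
    intro p h hp1 hpc he
    rcases hlift (elC d p h) 1 (by rw [he, map_one]) with e | e
    · exact hp1 (d.φ_inj (e.trans (map_one d.φ).symm))
    · exact hpc (d.φ_inj (e.trans (one_mul _)))
  have hg2 : (d.g * d.g) * d.φ rP * (d.g * d.g)⁻¹ = d.φ rP := by
    rcases d.g_sq with h | h <;> rw [h]
    · group
    · exact conj_map _ (by decide +kernel)
  have hgr : d.g * d.φ rP * d.g⁻¹ = d.φ dP := by rw [← hψr]; rfl
  have hgd : d.g * d.φ dP * d.g⁻¹ = d.φ rP := by
    rw [← hgr, show d.g * (d.g * d.φ rP * d.g⁻¹) * d.g⁻¹ =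
      (d.g * d.g) * d.φ rP * (d.g * d.g)⁻¹ by group]
    exact hg2
  have Cf : Conf (f zc) (f ac) (f rc) (f dc) (f gc) := by
    refine ⟨?_, hne zP _ (by decide +kernel) (by decide +kernel), ?_, ?_, ?_, ?_, ?_, ?_, ?_, ?_,
      ?_, ?_, ?_, ?_, ?_⟩
    · rw [← map_pow, show zc ^ 3 = 1 from Subtype.ext (by
        show d.φ zP ^ 3 = 1
        rw [← map_pow, show zP ^ 3 = 1 by decide +kernel, map_one]), map_one]
    · rw [← map_mul, ← map_mul]
      exact congrArg f (Subtype.ext (comm_map _ (by decide +kernel)))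
    · intro h
      refine hne (zP⁻¹ * aP) (by decide +kernel) (by decide +kernel) (by decide +kernel) ?_
      rw [show elC d (zP⁻¹ * aP) (by decide +kernel) = zc⁻¹ * ac from Subtype.ext (by
        show d.φ (zP⁻¹ * aP) = (d.φ zP)⁻¹ * d.φ aP
        rw [map_mul, map_inv]), map_mul, map_inv, h, inv_mul_cancel]
    · intro h
      refine hne (zP * aP) (by decide +kernel) (by decide +kernel) (by decide +kernel) ?_
      rw [show elC d (zP * aP) (by decide +kernel) = zc * ac from Subtype.ext (map_mul _ _ _),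
        map_mul, h, mul_inv_cancel]
    · rw [← map_mul]
      refine (hfk _).2 ?_
      rcases d.g_sq with h | h
      · exact (show ((gc * gc : C d) : G) = 1 from h) ▸ one_mem _
      · exact (show ((gc * gc : C d) : G) = d.φ cP from h) ▸ Subgroup.mem_zpowers _
    · rw [← map_inv, ← map_mul, ← map_mul]
      exact congrArg f (Subtype.ext d.g_z)
    · rw [← map_inv, ← map_mul, ← map_mul]
      exact congrArg f (Subtype.ext hgr)
    · rw [← map_mul, show rc * rc = 1 from Subtype.ext (by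
        show d.φ rP * d.φ rP = 1
        rw [← map_mul, show rP * rP = 1 by decide +kernel, map_one]), map_one]
    · rw [← map_inv, ← map_mul, ← map_mul, ← map_inv]
      exact congrArg f (Subtype.ext (by
        show d.φ rP * d.φ zP * (d.φ rP)⁻¹ = (d.φ zP)⁻¹
        rw [conj_map _ (show rP * zP * rP⁻¹ = zP⁻¹ by decide +kernel), map_inv]))
    · rw [← map_mul, ← map_mul]
      exact congrArg f (Subtype.ext (comm_map _ (by decide +kernel)))
    · rw [← map_mul, show dc * dc = 1 from Subtype.ext (by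
        show d.φ dP * d.φ dP = 1
        rw [← map_mul, show dP * dP = 1 by decide +kernel, map_one]), map_one]
    · rw [← map_mul, ← map_mul]
      exact congrArg f (Subtype.ext (comm_map _ (by decide +kernel)))
    · rw [← map_inv, ← map_mul, ← map_mul, ← map_inv]
      exact congrArg f (Subtype.ext (by
        show d.φ dP * d.φ aP * (d.φ dP)⁻¹ = (d.φ aP)⁻¹
        rw [conj_map _ (show dP * aP * dP⁻¹ = aP⁻¹ by decide +kernel), map_inv]))
    · rw [← map_mul, ← map_mul]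
      exact congrArg f (Subtype.ext (comm_map _ (by decide +kernel)))
  obtain ⟨xb, O⟩ := exists_out Cf
  obtain ⟨kb, hk1, hk2⟩ := O.h
  obtain ⟨k, rfl⟩ := hfs kb
  obtain ⟨kb', hk1', hk2'⟩ := O.h'
  obtain ⟨k', rfl⟩ := hfs kb'
  set x : G := (k : G) * d.φ rP * (k : G)⁻¹ with hxdef
  let xc : C d := k * rc * k⁻¹
  have hfx : f xc = xb := by rw [map_mul, map_mul, map_inv, hk1]
  have hdr : d.φ dP = d.g * d.φ rP * d.g⁻¹ := hgr.symm
  -- conjugates lifting exactly
  have hT : ∀ (m w : C d) (n l : G), n * d.φ rP * n⁻¹ = (m : G) →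
      (w : G) * d.φ cP = l * d.φ cP * l⁻¹ → f m = f w → (m : G) = w := by
    intro m w n l hn hl h
    rcases hlift _ _ h with e | e
    · exact e
    · exact absurd (hn.trans (e.trans hl)) (noC d hD n l)
  have hxI : x * d.φ cP = (k : G) * d.ψ uP * d.φ cP * ((k : G) * d.ψ uP)⁻¹ := by
    calc x * d.φ cP = x * ((k : G) * d.φ cP * (k : G)⁻¹) := by rw [hk]
      _ = (k : G) * (d.φ rP * d.φ cP) * (k : G)⁻¹ := by rw [hxdef]; group
      _ = _ := by rw [hI_rc]; group
  have hkd : (k : G) * d.φ dP * (k : G)⁻¹ = d.φ rP :=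
    hT (k * dc * k⁻¹) rc ((k : G) * d.g) _ (by
      show (k : G) * d.g * d.φ rP * ((k : G) * d.g)⁻¹ = (k : G) * d.φ dP * (k : G)⁻¹
      rw [hdr]; group) hI_rc (by rw [map_mul, map_mul, map_inv, hk2])
  have hk'r : (k' : G) * d.φ rP * (k' : G)⁻¹ = x :=
    hT (k' * rc * k'⁻¹) xc (k' : G) _ rfl hxI (by rw [hfx, map_mul, map_mul, map_inv, hk1'])
  have hk'd : (k' : G) * d.φ dP * (k' : G)⁻¹ = d.φ dP :=
    hT (k' * dc * k'⁻¹) dc ((k' : G) * d.g) _ (by
      show (k' : G) * d.g * d.φ rP * ((k' : G) * d.g)⁻¹ = (k' : G) * d.φ dP * (k' : G)⁻¹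
      rw [hdr]; group) ((comm_map d.φ (show dP * cP = cP * dP by decide +kernel)).trans hI_dc)
      (by rw [map_mul, map_mul, map_inv, hk2'])
  have hxg : x * d.g = d.g * x :=
    hcommLift k gc (by rw [show k * rc * k⁻¹ = xc from rfl, hfx]; exact O.x_g)
  have hxr : x * d.φ rP = d.φ rP * x :=
    hcommLift k rc (by rw [show k * rc * k⁻¹ = xc from rfl, hfx]; exact O.x_r)
  have hxd : x * d.φ dP = d.φ dP * x :=
    hcommLift k dc (by rw [show k * rc * k⁻¹ = xc from rfl, hfx]; exact O.x_d)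
  have hxc : x * d.φ cP = d.φ cP * x := Subgroup.mem_centralizer_singleton_iff.1 xc.2
  -- a conjugate of `za` centralising `x r d`
  obtain ⟨kb3, hk3⟩ := O.y
  obtain ⟨k3, rfl⟩ := hfs kb3
  let wc : C d := k3 * (zc * ac) * k3⁻¹
  let Xc : C d := xc * rc * dc
  have hB : (wc : G) * Xc = Xc * wc := by
    have hf' : f (wc * Xc * wc⁻¹) = f Xc := by
      have h : f wc * f Xc = f Xc * f wc := by
        simp only [wc, Xc, map_mul, map_inv] at hfx ⊢
        rw [hfx]; exact hk3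
      rw [map_mul, map_mul, h, map_inv, mul_inv_cancel_right]
    rcases hlift _ _ hf' with e | e
    · exact mul_inv_eq_iff_eq_mul.1 e
    · exfalso
      have hwc : (wc : G) * d.φ cP = d.φ cP * wc := Subgroup.mem_centralizer_singleton_iff.1 wc.2
      have hw3 : (wc : G) ^ 3 = 1 := by
        show ((k3 : G) * (d.φ zP * d.φ aP) * (k3 : G)⁻¹) ^ 3 = 1
        rw [conj_pow, ← map_mul, ← map_pow, show (zP * aP) ^ 3 = 1 by decide +kernel, map_one,
          mul_one, mul_inv_cancel]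
      have e' : (wc : G) * Xc * (wc : G)⁻¹ = (Xc : G) * d.φ cP := e
      have h2 : (wc : G) ^ 2 * Xc * ((wc : G) ^ 2)⁻¹ = Xc := by
        calc (wc : G) ^ 2 * Xc * ((wc : G) ^ 2)⁻¹
            = wc * ((wc : G) * Xc * (wc : G)⁻¹) * (wc : G)⁻¹ := by rw [pow_two]; group
          _ = wc * ((Xc : G) * d.φ cP) * (wc : G)⁻¹ := by rw [e']
          _ = wc * Xc * (d.φ cP * (wc : G)⁻¹) := by group
          _ = wc * Xc * ((wc : G)⁻¹ * d.φ cP) := by
              rw [(Commute.inv_left (show Commute (wc : G) (d.φ cP) from hwc)).eq]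
          _ = wc * Xc * (wc : G)⁻¹ * d.φ cP := by group
          _ = Xc := by rw [e', mul_assoc, hcc, mul_one]
      have h3 : (wc : G) ^ 3 * Xc * ((wc : G) ^ 3)⁻¹ = (Xc : G) * d.φ cP := by
        rw [show (wc : G) ^ 3 * Xc * ((wc : G) ^ 3)⁻¹ =
          wc * ((wc : G) ^ 2 * Xc * ((wc : G) ^ 2)⁻¹) * (wc : G)⁻¹ by group, h2, e']
      rw [hw3, inv_one, one_mul, mul_one] at h3
      exact hcne (mul_eq_left.1 h3.symm)
  have hnotT : ∀ v : G, v * (wc : G) = (wc : G) * v → ∀ l : G, l * d.φ rP * l⁻¹ ≠ v := by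
    intro v hv l hl
    refine noY d hD (l⁻¹ * k3) ?_
    have h1 : (wc : G) * (l * d.φ rP * l⁻¹) = l * d.φ rP * l⁻¹ * wc := by rw [hl]; exact hv.symm
    change (k3 : G) * (d.φ zP * d.φ aP) * (k3 : G)⁻¹ * (l * d.φ rP * l⁻¹) =
      l * d.φ rP * l⁻¹ * ((k3 : G) * (d.φ zP * d.φ aP) * (k3 : G)⁻¹) at h1
    calc l⁻¹ * k3 * (d.φ zP * d.φ aP) * (l⁻¹ * k3)⁻¹ * d.φ rP
        = l⁻¹ * ((k3 : G) * (d.φ zP * d.φ aP) * (k3 : G)⁻¹ * (l * d.φ rP * l⁻¹)) * l := by group
      _ = l⁻¹ * (l * d.φ rP * l⁻¹ * ((k3 : G) * (d.φ zP * d.φ aP) * (k3 : G)⁻¹)) * l := by rw [h1]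
      _ = _ := by group
  have hB1 : x * d.φ rP * d.φ dP * (wc : G) = (wc : G) * (x * d.φ rP * d.φ dP) := hB.symm
  have hB2 : x * d.φ rP * d.φ dP * d.φ cP * (wc : G) =
      (wc : G) * (x * d.φ rP * d.φ dP * d.φ cP) :=
    (Commute.mul_left (show Commute _ (wc : G) from hB1)
      (show Commute (d.φ cP) (wc : G) from
        (Subgroup.mem_centralizer_singleton_iff.1 wc.2).symm)).eq
  -- the translate of `x`
  set q : G := d.φ uP with hqdef
  set x' : G := q * x * q⁻¹ with hx'def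
  have hqr : q * d.φ rP = d.φ rP * q := comm_map _ (by decide +kernel)
  have hqd : q * d.φ dP = d.φ dP * q := comm_map _ (by decide +kernel)
  have hqcd : q * (d.φ cP * d.φ dP) * q⁻¹ = d.φ cP := by
    rw [← map_mul, conj_map d.φ (show uP * (cP * dP) * uP⁻¹ = cP by decide +kernel)]
  have hconjcomm : ∀ (m v v' : G), m * v * m⁻¹ = v' → x * v = v * x →
      (m * x * m⁻¹) * v' = v' * (m * x * m⁻¹) := by
    intro m v v' h hv
    rw [← h, show m * x * m⁻¹ * (m * v * m⁻¹) = m * (x * v) * m⁻¹ by group, hv]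
    group
  have hx'c : x' * d.φ cP = d.φ cP * x' :=
    hconjcomm q _ _ hqcd (Commute.mul_right (show Commute x _ from hxc) hxd).eq
  have hx'r : x' * d.φ rP = d.φ rP * x' :=
    hconjcomm q _ _ (by rw [hqr, mul_inv_cancel_right]) hxr
  have hx'd : x' * d.φ dP = d.φ dP * x' :=
    hconjcomm q _ _ (by rw [hqd, mul_inv_cancel_right]) hxd
  let x'c : C d := ⟨x', mem_C d hx'c⟩
  have hx'T : q * (k : G) * d.φ rP * (q * (k : G))⁻¹ = x' := by rw [hx'def, hxdef]; group
  have hnI : ∀ l : G, x' ≠ l * d.φ cP * l⁻¹ := fun l h => noC d hD _ l (hx'T.trans h)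
  -- moving by the second system
  have hq'x : ∀ m : G, q * x * q⁻¹ = x * m → d.ψ uP * x * (d.ψ uP)⁻¹ = x * (d.g * m * d.g⁻¹) := by
    intro m hm
    have hg1 : d.g⁻¹ * x * d.g = x := by rw [mul_assoc, hxg, inv_mul_cancel_left]
    calc d.ψ uP * x * (d.ψ uP)⁻¹ = d.g * q * d.g⁻¹ * x * (d.g * q * d.g⁻¹)⁻¹ := rfl
      _ = d.g * (q * (d.g⁻¹ * x * d.g) * q⁻¹) * d.g⁻¹ := by group
      _ = d.g * (x * m) * d.g⁻¹ := by rw [hg1, hm]
      _ = (d.g * x) * m * d.g⁻¹ := by group
      _ = x * (d.g * m * d.g⁻¹) := by rw [← hxg]; group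
  have hq'prod : ∀ v w : G, d.ψ uP * (v * w) * (d.ψ uP)⁻¹ =
      d.ψ uP * v * (d.ψ uP)⁻¹ * (d.ψ uP * w * (d.ψ uP)⁻¹) := fun v w => by group
  obtain ⟨hne1, hne2, hne3, hne4⟩ := O.x_ne
  have hxne : ∀ v : C d, x = (v : G) → xb = f v := fun v h => by
    rw [← hfx]; exact congrArg f (Subtype.ext h)
  have hsmall : x = 1 ∨ x = d.φ dP ∨ x = d.φ rP ∨ x = d.φ rP * d.φ dP → False := by
    rintro (h | h | h | h)
    · exact hne1 (by rw [hxne 1 h, map_one])
    · exact hne3 (hxne dc h)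
    · exact hne2 (hxne rc h)
    · exact hne4 (by rw [hxne (rc * dc) h, map_mul])
  have hfix : ∀ v : G, q * v = v * q → x' = v → x = v := by
    intro v hv h
    have : x = q⁻¹ * x' * q := by rw [hx'def]; group
    rw [this, h, mul_assoc, ← hv, inv_mul_cancel_left]
  have hqrd : q * (d.φ rP * d.φ dP) = d.φ rP * d.φ dP * q :=
    (Commute.mul_right (show Commute q _ from hqr) hqd).eq
  have hcases := O.cent (f x'c)
    (by rw [← map_mul, ← map_mul]; exact congrArg f (Subtype.ext hx'r))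
    (by rw [← map_mul, ← map_mul]; exact congrArg f (Subtype.ext hx'd))
  rw [← hfx] at hcases
  simp only [← map_mul] at hcases
  rw [← map_one f] at hcases
  have hckI : ∀ (m : C d) (v l : G), v * d.φ cP = l * d.φ cP * l⁻¹ →
      (m : G) * v * (m : G)⁻¹ * d.φ cP = (m : G) * l * d.φ cP * ((m : G) * l)⁻¹ := by
    intro m v l h
    calc (m : G) * v * (m : G)⁻¹ * d.φ cP
        = (m : G) * v * (m : G)⁻¹ * ((m : G) * d.φ cP * (m : G)⁻¹) := by rw [hk]
      _ = (m : G) * (v * d.φ cP) * (m : G)⁻¹ := by group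
      _ = _ := by rw [h]; group
  have hrdI : d.φ rP * d.φ dP * d.φ cP =
      d.ψ uP * d.φ uP * d.φ cP * (d.ψ uP * d.φ uP)⁻¹ := by
    rw [← hI_crd, ← map_mul, ← map_mul, ← map_mul, ← map_mul]
    exact congrArg d.φ (by decide +kernel)
  rcases hcases with h | h | h | h | h | h | h | h <;> rcases hlift _ _ h with e | e
  · apply hsmall
    exact Or.inl (hfix 1 (by group) e)
  · exact hnI 1 (by rw [show x' = 1 * d.φ cP from e]; group)
  · apply hsmall
    exact Or.inr (Or.inr (Or.inl (hfix _ hqr e)))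
  · exact hnI _ (Eq.trans e hI_rc)
  · apply hsmall
    exact Or.inr (Or.inl (hfix _ hqd e))
  · exact hnI _ (Eq.trans e ((comm_map d.φ (show dP * cP = cP * dP by decide +kernel)).trans hI_dc))
  · apply hsmall
    exact Or.inr (Or.inr (Or.inr (hfix _ hqrd e)))
  · exact hnI _ (Eq.trans e hrdI)
  · apply hsmall
    refine conj_cent d hD hxc hxr hxd ?_ h24
    have e' : q * x * q⁻¹ = x := e
    exact (mul_inv_eq_iff_eq_mul.1 e').symm
  · exact hnI _ (Eq.trans e hxI)
  · -- `x' = x r`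
    have e' : q * x * q⁻¹ = x * d.φ rP := e
    have h2 := hq'x _ e'
    rw [hgr] at h2
    refine hnotT _ hB1 (d.ψ uP * (q * (k : G))) ?_
    calc d.ψ uP * (q * (k : G)) * d.φ rP * (d.ψ uP * (q * (k : G)))⁻¹
        = d.ψ uP * (q * (k : G) * d.φ rP * (q * (k : G))⁻¹) * (d.ψ uP)⁻¹ := by group
      _ = d.ψ uP * (x * d.φ rP) * (d.ψ uP)⁻¹ := by rw [hx'T]; rw [show x' = x * d.φ rP from e']
      _ = x * d.φ dP * d.φ rP := by rw [hq'prod, h2, hq'r]
      _ = x * d.φ rP * d.φ dP := by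
          rw [mul_assoc x, mul_assoc x, comm_map d.φ (show dP * rP = rP * dP by decide +kernel)]
  · refine hnI ((k : G) * (d.ψ uP * d.φ uP)) (Eq.trans e ?_)
    have hxr' : x * d.φ rP = (k : G) * (d.φ rP * d.φ dP) * (k : G)⁻¹ := by
      calc x * d.φ rP = x * ((k : G) * d.φ dP * (k : G)⁻¹) := by rw [hkd]
        _ = _ := by rw [hxdef]; group
    show x * d.φ rP * d.φ cP = _
    rw [hxr']
    exact hckI k _ _ hrdI
  · -- `x' = x d`
    have e' : q * x * q⁻¹ = x * d.φ dP := e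
    have h2 := hq'x _ e'
    rw [hgd] at h2
    refine hnotT _ hB1 (d.ψ uP * (q * (k : G))) ?_
    calc d.ψ uP * (q * (k : G)) * d.φ rP * (d.ψ uP * (q * (k : G)))⁻¹
        = d.ψ uP * (q * (k : G) * d.φ rP * (q * (k : G))⁻¹) * (d.ψ uP)⁻¹ := by group
      _ = d.ψ uP * (x * d.φ dP) * (d.ψ uP)⁻¹ := by rw [hx'T]; rw [show x' = x * d.φ dP from e']
      _ = x * d.φ rP * d.φ dP := by rw [hq'prod, h2, hq'd]
  · refine hnI ((k' : G) * (d.ψ uP * d.φ uP)) (Eq.trans e ?_)
    have hxd' : x * d.φ dP = (k' : G) * (d.φ rP * d.φ dP) * (k' : G)⁻¹ := by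
      calc x * d.φ dP = (k' : G) * d.φ rP * (k' : G)⁻¹ * ((k' : G) * d.φ dP * (k' : G)⁻¹) := by
            rw [hk'r, hk'd]
        _ = _ := by group
    show x * d.φ dP * d.φ cP = _
    rw [hxd']
    exact hckI k' _ _ hrdI
  · exact hnotT _ hB1 _ (hx'T.trans e)
  · exact hnotT _ hB2 _ (hx'T.trans e)

end DoubleCProof

/-- The brick, relative to the structure of the centraliser. -/
theorem doubleC_of (hC : CentCStmt.{u}) : DoubleCStmt.{u} := by
  intro G _ _ d hD h24
  rcases hC G d with h | ⟨f, hfs, hfk⟩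
  · exact h
  · exact (DoubleCProof.no_S6 d hD h24 f hfs hfk).elim

/-- In the even configuration the centraliser of that involution is small. -/
theorem doubleC : DoubleCStmt.{u} := doubleC_of centC


end Cfsg.Agent.Lib.SymEightThree6
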