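import Cfsg.Agent.Lib.SymEightThree6.Spec

/-!
In the even configuration the centraliser of the involution centralising both elements of order
three has no quotient of type `S6`.
-/

set_option autoImplicit false

namespace Cfsg.Agent.Lib.SymEightThree6

open Equiv Equiv.Perm

universe u

namespace DoubleCProof

/-- Configurations in the quotient `S6`. -/
structure Conf {X : Type*} [Group X] (z a r d g : X) : Prop where
  z3 : z ^ 3 = 1
  z1 : z ≠ 1
  comm : z * a = a * z
  a_ne : a ≠ z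
  a_ne' : a ≠ z⁻¹
  g2 : g * g = 1
  g_z : g * z * g⁻¹ = a
  g_r : g * r * g⁻¹ = d
  r2 : r * r = 1
  r_z : r * z * r⁻¹ = z⁻¹
  r_a : r * a = a * r
  d2 : d * d = 1
  d_z : d * z = z * d
  d_a : d * a * d⁻¹ = a⁻¹
  rd : r * d = d * r

/-- What is needed from the quotient `S6`. -/
structure Out {X : Type*} [Group X] (z a r d g x : X) : Prop where
  h : ∃ k : X, k * r * k⁻¹ = x ∧ k * d * k⁻¹ = r
  h' : ∃ k : X, k * r * k⁻¹ = x ∧ k * d * k⁻¹ = d
  x_g : x * g = g * x
  x_r : x * r = r * x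
  x_d : x * d = d * x
  x_ne : x ≠ 1 ∧ x ≠ r ∧ x ≠ d ∧ x ≠ r * d
  y : ∃ k : X, k * (z * a) * k⁻¹ * (x * r * d) = x * r * d * (k * (z * a) * k⁻¹)
  cent : ∀ v : X, v * r = r * v → v * d = d * v → v = 1 ∨ v = r ∨ v = d ∨ v = r * d ∨
    v = x ∨ v = x * r ∨ v = x * d ∨ v = x * r * d

theorem conf_map {X Y : Type*} [Group X] [Group Y] (e : X ≃* Y) {z a r d g : X}
    (C : Conf z a r d g) : Conf (e z) (e a) (e r) (e d) (e g) where
  z3 := by rw [← map_pow, C.z3, map_one]
  z1 h := C.z1 (e.injective (h.trans (map_one e).symm))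
  comm := by rw [← map_mul, C.comm, map_mul]
  a_ne h := C.a_ne (e.injective h)
  a_ne' h := C.a_ne' (e.injective (h.trans (map_inv e z).symm))
  g2 := by rw [← map_mul, C.g2, map_one]
  g_z := by rw [← map_inv, ← map_mul, ← map_mul, C.g_z]
  g_r := by rw [← map_inv, ← map_mul, ← map_mul, C.g_r]
  r2 := by rw [← map_mul, C.r2, map_one]
  r_z := by rw [← map_inv, ← map_mul, ← map_mul, C.r_z, map_inv]
  r_a := by rw [← map_mul, C.r_a, map_mul]
  d2 := by rw [← map_mul, C.d2, map_one]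
  d_z := by rw [← map_mul, C.d_z, map_mul]
  d_a := by rw [← map_inv, ← map_mul, ← map_mul, C.d_a, map_inv]
  rd := by rw [← map_mul, C.rd, map_mul]

theorem out_map {X Y : Type*} [Group X] [Group Y] (e : X ≃* Y) {z a r d g x : X}
    (O : Out z a r d g x) : Out (e z) (e a) (e r) (e d) (e g) (e x) where
  h := by
    obtain ⟨k, h1, h2⟩ := O.h
    exact ⟨e k, by rw [← map_inv, ← map_mul, ← map_mul, h1],
      by rw [← map_inv, ← map_mul, ← map_mul, h2]⟩
  h' := by
    obtain ⟨k, h1, h2⟩ := O.h'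
    exact ⟨e k, by rw [← map_inv, ← map_mul, ← map_mul, h1],
      by rw [← map_inv, ← map_mul, ← map_mul, h2]⟩
  x_g := by rw [← map_mul, O.x_g, map_mul]
  x_r := by rw [← map_mul, O.x_r, map_mul]
  x_d := by rw [← map_mul, O.x_d, map_mul]
  x_ne := by
    obtain ⟨h1, h2, h3, h4⟩ := O.x_ne
    exact ⟨fun h => h1 (e.injective (h.trans (map_one e).symm)), fun h => h2 (e.injective h),
      fun h => h3 (e.injective h), fun h => h4 (e.injective (h.trans (map_mul e r d).symm))⟩
  y := by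
    obtain ⟨k, h1⟩ := O.y
    exact ⟨e k, by simpa only [map_mul, map_inv] using congrArg e h1⟩
  cent v hr hd := by
    obtain ⟨v, rfl⟩ := e.surjective v
    have hr' : v * r = r * v := e.injective (by simpa only [map_mul] using hr)
    have hd' : v * d = d * v := e.injective (by simpa only [map_mul] using hd)
    rcases O.cent v hr' hd' with h | h | h | h | h | h | h | h <;> subst h <;>
      simp only [map_one, map_mul, true_or, or_true]

/-- Transporting a configuration to a normal form. -/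
theorem out_of_map {X : Type*} [Group X] (e : X ≃* X) {z a r d g : X}
    (h : ∃ x, Out (e z) (e a) (e r) (e d) (e g) x) : ∃ x, Out z a r d g x := by
  obtain ⟨x, O⟩ := h
  exact ⟨e.symm x, by simpa using out_map e.symm O⟩

/-- The permutation group of six points. -/
abbrev S6 := Perm (Fin 6)

/-- `(012)` -/
def zA : S6 := swap 0 1 * swap 1 2
/-- `(345)` -/
def aA : S6 := swap 3 4 * swap 4 5
/-- `(12)` -/
def rA : S6 := swap 1 2
/-- `(45)` -/
def dA : S6 := swap 4 5
/-- `(03)(14)(25)` -/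
def gA : S6 := swap 0 3 * swap 1 4 * swap 2 5
/-- `(03)` -/
def xA : S6 := swap 0 3

/-- `(012)(345)` -/
def zB : S6 := zA * aA
/-- `(012)(354)` -/
def aB : S6 := zA * aA⁻¹
/-- `(03)(15)(24)` -/
def rB : S6 := swap 0 3 * swap 1 5 * swap 2 4
/-- `(03)(14)(25)` -/
def dB : S6 := gA
/-- `(45)` -/
def gB : S6 := dA
/-- `(03)(12)(45)` -/
def xB : S6 := swap 0 3 * swap 1 2 * swap 4 5

theorem outA : Out zA aA rA dA gA xA where
  h := ⟨swap 0 4 * swap 4 1 * (swap 2 3 * swap 3 5), by decide +kernel, by decide +kernel⟩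
  h' := ⟨swap 0 1 * swap 2 3, by decide +kernel, by decide +kernel⟩
  x_g := by decide +kernel
  x_r := by decide +kernel
  x_d := by decide +kernel
  x_ne := by decide +kernel
  y := ⟨swap 2 4 * swap 4 5 * swap 5 3, by decide +kernel⟩
  cent := by decide +kernel

theorem outB : Out zB aB rB dB gB xB where
  h := ⟨swap 2 4 * swap 4 5, by decide +kernel, by decide +kernel⟩
  h' := ⟨swap 2 5, by decide +kernel, by decide +kernel⟩
  x_g := by decide +kernel
  x_r := by decide +kernel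
  x_d := by decide +kernel
  x_ne := by decide +kernel
  y := ⟨swap 0 1 * swap 1 2 * swap 2 4 * swap 4 3, by decide +kernel⟩
  cent := by decide +kernel

/-- The normal forms are exhaustive once the first element is fixed. -/
theorem out_of_norm (z₀ a₀ r₀ d₀ g₀ x₀ k₀ : S6) (O : Out z₀ a₀ r₀ d₀ g₀ x₀)
    (hk : k₀ * z₀ * k₀⁻¹ = z₀)
    (ha : ∀ g : S6, g * g = 1 → z₀ * (g * z₀ * g⁻¹) = g * z₀ * g⁻¹ * z₀ →
      g * z₀ * g⁻¹ ≠ z₀ → g * z₀ * g⁻¹ ≠ z₀⁻¹ →
      g * z₀ * g⁻¹ = a₀ ∨ k₀ * (g * z₀ * g⁻¹) * k₀⁻¹ = a₀)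
    (hr : ∀ r : S6, r * r = 1 → r * z₀ * r⁻¹ = z₀⁻¹ → r * a₀ = a₀ * r →
      r = r₀ ∨ z₀ * r * z₀⁻¹ = r₀ ∨ z₀⁻¹ * r * z₀ = r₀)
    (hd : ∀ d : S6, d * d = 1 → d * z₀ = z₀ * d → d * a₀ * d⁻¹ = a₀⁻¹ →
      d = d₀ ∨ a₀ * d * a₀⁻¹ = d₀ ∨ a₀⁻¹ * d * a₀ = d₀)
    (hg : ∀ g : S6, g * z₀ * g⁻¹ = a₀ → g * g = 1 → g * r₀ * g⁻¹ = d₀ → g = g₀)
    {a r d g : S6} (C : Conf z₀ a r d g) : ∃ x, Out z₀ a r d g x := by
  have conj_fix : ∀ {x y : S6}, x * y = y * x → MulAut.conj x y = y := fun {x y} h => by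
    rw [MulAut.conj_apply, h, mul_inv_cancel_right]
  have step4 : ∀ g : S6, Conf z₀ a₀ r₀ d₀ g → ∃ x, Out z₀ a₀ r₀ d₀ g x := fun g C => by
    rw [hg g C.g_z C.g2 C.g_r]
    exact ⟨x₀, O⟩
  have step3 : ∀ d g : S6, Conf z₀ a₀ r₀ d g → ∃ x, Out z₀ a₀ r₀ d g x := by
    intro d g C
    rcases hd d C.d2 C.d_z C.d_a with h | h | h
    · subst h; exact step4 g C
    · refine out_of_map (MulAut.conj a₀) ?_
      have C' := conf_map (MulAut.conj a₀) C
      rw [conj_fix C.comm.symm, conj_fix rfl, conj_fix C.r_a.symm, MulAut.conj_apply a₀ d, h]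
        at C' ⊢
      exact step4 _ C'
    · refine out_of_map (MulAut.conj a₀⁻¹) ?_
      have C' := conf_map (MulAut.conj a₀⁻¹) C
      rw [conj_fix (Commute.inv_left C.comm.symm).eq, conj_fix (Commute.inv_left rfl).eq,
        conj_fix (Commute.inv_left C.r_a.symm).eq, MulAut.conj_apply a₀⁻¹ d, inv_inv, h] at C' ⊢
      exact step4 _ C'
  have step2 : ∀ r d g : S6, Conf z₀ a₀ r d g → ∃ x, Out z₀ a₀ r d g x := by
    intro r d g C
    rcases hr r C.r2 C.r_z C.r_a with h | h | h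
    · subst h; exact step3 d g C
    · refine out_of_map (MulAut.conj z₀) ?_
      have C' := conf_map (MulAut.conj z₀) C
      rw [conj_fix rfl, conj_fix C.comm, MulAut.conj_apply z₀ r, h] at C' ⊢
      exact step3 _ _ C'
    · refine out_of_map (MulAut.conj z₀⁻¹) ?_
      have C' := conf_map (MulAut.conj z₀⁻¹) C
      rw [conj_fix (Commute.inv_left rfl).eq, conj_fix (Commute.inv_left C.comm).eq,
        MulAut.conj_apply z₀⁻¹ r, inv_inv, h] at C' ⊢
      exact step3 _ _ C'
  have e := C.g_z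
  rcases ha g C.g2 (by rw [e]; exact C.comm) (by rw [e]; exact C.a_ne)
    (by rw [e]; exact C.a_ne') with h | h
  · rw [e] at h; subst h; exact step2 r d g C
  · rw [e] at h
    refine out_of_map (MulAut.conj k₀) ?_
    have C' := conf_map (MulAut.conj k₀) C
    rw [MulAut.conj_apply k₀ z₀, hk, MulAut.conj_apply k₀ a, h] at C' ⊢
    exact step2 _ _ _ C'

theorem formA {a r d g : S6} (C : Conf zA a r d g) : ∃ x, Out zA a r d g x :=
  out_of_norm zA aA rA dA gA xA (swap 4 5) outA (by decide +kernel) (by decide +kernel)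
    (by decide +kernel) (by decide +kernel) (by decide +kernel) C

theorem formB {a r d g : S6} (C : Conf zB a r d g) : ∃ x, Out zB a r d g x :=
  out_of_norm zB aB rB dB gB xB gA outB (by decide +kernel) (by decide +kernel)
    (by decide +kernel) (by decide +kernel) (by decide +kernel) C

/-- Every configuration in `S6` has the element. -/
theorem exists_out {z a r d g : S6} (C : Conf z a r d g) : ∃ x, Out z a r d g x := by
  haveI : Fact (Nat.Prime 3) := ⟨Nat.prime_three⟩
  have ho : orderOf z = 3 := orderOf_eq_prime C.z3 C.z1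
  obtain ⟨n, hn⟩ := Equiv.Perm.cycleType_prime_order (σ := z) (by rw [ho]; exact Nat.prime_three)
  rw [ho] at hn
  have hsum : z.cycleType.sum ≤ 6 := by
    rw [Equiv.Perm.sum_cycleType]
    simpa using Finset.card_le_univ z.support
  have hz : IsConj z zA ∨ IsConj z zB := by
    rw [hn, Multiset.sum_replicate, smul_eq_mul] at hsum
    rw [Equiv.Perm.isConj_iff_cycleType_eq, Equiv.Perm.isConj_iff_cycleType_eq, hn]
    have hA : zA.cycleType = {3} := by decide +kernel
    have hB : zB.cycleType = {3, 3} := by decide +kernel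
    rw [hA, hB]
    have : n = 0 ∨ n = 1 := by omega
    rcases this with rfl | rfl
    · exact Or.inl rfl
    · exact Or.inr rfl
  rcases hz with h | h <;> obtain ⟨k, hk⟩ := isConj_iff.1 h <;>
    refine out_of_map (MulAut.conj k) ?_ <;>
    have C' := conf_map (MulAut.conj k) C <;>
    rw [MulAut.conj_apply k z, hk] at C' ⊢
  · exact formA C'
  · exact formB C'

end DoubleCProof

end Cfsg.Agent.Lib.SymEightThree6
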