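import Cfsg.Agent.Lib.SymEightThree6.Spec
import Cfsg.Agent.Lib.AltEightThree6.Carm
import Cfsg.Agent.Lib.StepUp67.Chain
import Mathlib

/-!
A Coxeter chain through the two coordinate systems gives a copy of `S8`.
-/

set_option autoImplicit false
set_option maxRecDepth 8000
set_option synthInstance.maxSize 2000

namespace Cfsg.Agent.Lib.SymEightThree6

open Equiv Equiv.Perm

universe u

namespace EmbProof

open Cfsg.Agent.Lib.AltEightThree6 (c3 c33 t0 v0)
open Cfsg.Agent.Lib.AltEightThree6.Carm16 (centralizer_le_range card_centralizer_conj)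

/-- The natural map of `S3 × S5` into `S8`. -/
def kapS : P35 →* Perm (Fin 8) :=
  (finSumFinEquiv (m := 3) (n := 5)).permCongrHom.toMonoidHom.comp (Perm.sumCongrHom (Fin 3) (Fin 5))

/-- The seven generators as seen by the first system, where defined. -/
def inP : Fin 7 → Option P35 :=
  ![some rP, some (swap 1 2, 1), none, some cP, some (1, swap 1 2), some (1, swap 2 3), some sP]

/-- The seven generators as seen by the second system, where defined. -/
def inQ : Fin 7 → Option P35 :=
  ![some sP, some (aP * sP * aP⁻¹), some (1, swap 1 2), some cP, none, some (zP⁻¹ * rP * zP), some rP]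

theorem s1_eq : ((swap 1 2, 1) : P35) = zP * rP * zP⁻¹ := by decide +kernel

theorem s5_eq : ((1, swap 2 3) : P35) = aP⁻¹ * sP * aP := by decide +kernel

theorem cover : ∀ i j : Fin 7, (i = 2 ∧ j = 4) ∨ (i = 4 ∧ j = 2) ∨
    ((inP i).isSome ∧ (inP j).isSome) ∨ ((inQ i).isSome ∧ (inQ j).isSome) := by decide +kernel

theorem sq_P : ∀ i : Fin 7, ∀ p ∈ (inP i).toList, p * p = 1 := by decide +kernel

theorem sq_Q : ∀ i : Fin 7, ∀ p ∈ (inQ i).toList, p * p = 1 := by decide +kernel

theorem br_P : ∀ i j : Fin 7, (i : ℕ) + 1 = j → ∀ p ∈ (inP i).toList, ∀ q ∈ (inP j).toList,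
    (p * q) ^ 3 = 1 := by decide +kernel

theorem br_Q : ∀ i j : Fin 7, (i : ℕ) + 1 = j → ∀ p ∈ (inQ i).toList, ∀ q ∈ (inQ j).toList,
    (p * q) ^ 3 = 1 := by decide +kernel

theorem far_P : ∀ i j : Fin 7, (i : ℕ) + 1 < j → ∀ p ∈ (inP i).toList, ∀ q ∈ (inP j).toList,
    p * q = q * p := by decide +kernel

theorem far_Q : ∀ i j : Fin 7, (i : ℕ) + 1 < j → ∀ p ∈ (inQ i).toList, ∀ q ∈ (inQ j).toList,
    p * q = q * p := by decide +kernel

/-- Words for the stabiliser of the point `0` in the second factor. -/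
def word4 (x : Fin 3 × Fin 2 × Fin 2 × Fin 2) : P35 :=
  aP ^ (x.1 : ℕ) * tP ^ (x.2.1 : ℕ) * vP ^ (x.2.2.1 : ℕ) * sP ^ (x.2.2.2 : ℕ)

theorem word_s12 : ∃ x, word4 x = (1, swap 1 2) := by decide +kernel

theorem kap_small : kapS zP = (c3 : Perm (Fin 8)) ∧ kapS tP = (t0 : Perm (Fin 8)) ∧
    kapS vP = (v0 : Perm (Fin 8)) ∧ kapS rP = swap 0 1 ∧ kapS cP = swap 3 4 ∧
    kapS (zP * (1, swap 0 1 * swap 1 2)) = (c33 : Perm (Fin 8)) := by decide +kernel

theorem kap_first : ∀ i : Fin 2, ∃ j : Fin 7,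
    inP j = some ((swap i.castSucc i.succ, 1) : P35) ∧
      kapS (swap i.castSucc i.succ, 1) = swap j.castSucc j.succ := by decide +kernel

theorem kap_second : ∀ i : Fin 4, ∃ j : Fin 7,
    inP j = some ((1, swap i.castSucc i.succ) : P35) ∧
      kapS (1, swap i.castSucc i.succ) = swap j.castSucc j.succ := by decide +kernel

theorem conj_a : ∃ q : Perm (Fin 5),
    ((1, q) : P35) * (zP * (1, swap 0 1 * swap 1 2)) * (1, q)⁻¹ = zP * aP := by decide +kernel

theorem conj_swap : ∃ q : Perm (Fin 8), q * swap 0 1 * q⁻¹ = swap 3 4 :=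
  ⟨swap 0 3 * swap 1 4, by decide +kernel⟩

/-- Thirty six elements commuting with two disjoint three cycles. -/
def f36 (x : Fin 3 × Fin 3 × Fin 2 × Fin 2) : Perm (Fin 8) :=
  (swap 0 1 * swap 1 2) ^ (x.1 : ℕ) * (swap 3 4 * swap 4 5) ^ (x.2.1 : ℕ) *
    (swap 0 3 * swap 1 4 * swap 2 5) ^ (x.2.2.1 : ℕ) * (swap 6 7) ^ (x.2.2.2 : ℕ)

theorem f36_inj : ∀ x y, f36 x = f36 y → x = y := by decide +kernel

theorem f36_comm : ∀ x, (c33 : Perm (Fin 8)) * f36 x = f36 x * (c33 : Perm (Fin 8)) := by
  decide +kernel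

/-- A four group on four points. -/
def w4 (x : Fin 2 × Fin 2) : Perm (Fin 4) :=
  (swap 0 1 * swap 2 3) ^ (x.1 : ℕ) * (swap 0 2 * swap 1 3) ^ (x.2 : ℕ)

theorem w4_inj : ∀ x y, w4 x = w4 y → x = y := by decide +kernel

/-- Ninety six elements commuting with the four group. -/
def f96 (x : Perm (Fin 4) × Fin 2 × Fin 2) : Perm (Fin 8) :=
  (finSumFinEquiv (m := 4) (n := 4)).permCongrHom (Perm.sumCongrHom _ _ (x.1, w4 x.2))

theorem f96_inj : Function.Injective f96 := by
  rintro ⟨p, x⟩ ⟨q, y⟩ h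
  have h1 := Perm.sumCongrHom_injective ((finSumFinEquiv (m := 4) (n := 4)).permCongrHom.injective h)
  rw [Prod.ext_iff] at h1
  exact Prod.ext h1.1 (w4_inj _ _ h1.2)

theorem f96_comm : ∀ x, (t0 : Perm (Fin 8)) * f96 x = f96 x * (t0 : Perm (Fin 8)) ∧
    (v0 : Perm (Fin 8)) * f96 x = f96 x * (v0 : Perm (Fin 8)) := by decide +kernel

/-- The centraliser of a transposition contains `S2 × S6`. -/
def f1440 : Perm (Fin 2) × Perm (Fin 6) →* Perm (Fin 8) :=
  (finSumFinEquiv (m := 2) (n := 6)).permCongrHom.toMonoidHom.comp (Perm.sumCongrHom _ _)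

theorem swap01_eq : f1440 (swap 0 1, 1) = swap 0 1 := by decide +kernel

theorem perm2_comm : ∀ p : Perm (Fin 2), swap 0 1 * p = p * swap 0 1 := by decide +kernel

theorem card_centralizer_swap :
    1440 ≤ Nat.card (Subgroup.centralizer ({swap 0 1} : Set (Perm (Fin 8)))) := by
  let f : Perm (Fin 2) × Perm (Fin 6) → Subgroup.centralizer ({swap 0 1} : Set (Perm (Fin 8))) :=
    fun x => ⟨f1440 x, Subgroup.mem_centralizer_singleton_iff.2 (by
      rw [← swap01_eq, ← map_mul, ← map_mul]
      exact congrArg f1440 (Prod.ext (perm2_comm x.1).symm (by simp)))⟩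
  have h := Nat.card_le_card_of_injective f fun x y e => Perm.sumCongrHom_injective
    ((finSumFinEquiv (m := 2) (n := 6)).permCongrHom.injective (congrArg Subtype.val e))
  rw [Nat.card_prod, Nat.card_perm, Nat.card_perm] at h
  simpa [Nat.factorial] using h

theorem commute_word4 {G : Type*} [Group G] (f : P35 →* G) {w : G} (ha : Commute (f aP) w)
    (ht : Commute (f tP) w) (hv : Commute (f vP) w) (hs : Commute (f sP) w) :
    Commute (f (1, swap 1 2)) w := by
  obtain ⟨x, hx⟩ := word_s12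
  rw [← hx, word4, map_mul, map_mul, map_mul, map_pow, map_pow, map_pow, map_pow]
  exact (((ha.pow_left _).mul_left (ht.pow_left _)).mul_left (hv.pow_left _)).mul_left (hs.pow_left _)

theorem comm_first : ∀ q : Perm (Fin 5), zP * ((1, q) : P35) = (1, q) * zP ∧
    rP * ((1, q) : P35) = (1, q) * rP := by decide +kernel

theorem t_v_snd : tP = ((1, swap 1 2 * swap 3 4) : P35) ∧ vP = ((1, swap 1 3 * swap 2 4) : P35) :=
  ⟨rfl, rfl⟩

end EmbProof

open EmbProof in
open Cfsg.Agent.Lib.AltEightThree6 (c3 c33 t0 v0) in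
open Cfsg.Agent.Lib.AltEightThree6.Carm16 (centralizer_le_range card_centralizer_conj) in
/-- A copy of `S8` in the main case. -/
theorem embed : EmbStmt.{u} := by
  classical
  intro G _ _ d hgood hC
  obtain ⟨hT, hCV, hcomm⟩ := hgood
  have hrs : d.ψ rP = d.φ sP := d.ψ_rP_of hT sP_cP
  -- the second transposition chain commutes with the first
  have h24 : Commute (d.φ (1, swap 1 2)) (d.ψ (1, swap 1 2)) := by
    have hw : ∀ x : G, Commute x (d.ψ aP) → Commute x (d.ψ tP) → Commute x (d.ψ vP) →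
        Commute x (d.ψ sP) → Commute x (d.ψ (1, swap 1 2)) := fun x a b c e =>
      (commute_word4 d.ψ a.symm b.symm c.symm e.symm).symm
    refine commute_word4 d.φ ?_ ?_ ?_ ?_
    · rw [← d.ψ_z]
      exact Commute.map (show Commute zP _ from (comm_first _).1) d.ψ
    · refine hw _ ?_ (hcomm _ (by simp) _ (by simp)) (hcomm _ (by simp) _ (by simp)) ?_
      · rw [d.ψ_a]
        exact Commute.map (show Commute tP zP from (comm_first _).1.symm) d.φ
      · rw [← hT]
        exact Commute.map (show Commute tP rP from (comm_first _).2.symm) d.φ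
    · refine hw _ ?_ (hcomm _ (by simp) _ (by simp)) (hcomm _ (by simp) _ (by simp)) ?_
      · rw [d.ψ_a]
        exact Commute.map (show Commute vP zP from (comm_first _).1.symm) d.φ
      · rw [← hT]
        exact Commute.map (show Commute vP rP from (comm_first _).2.symm) d.φ
    · rw [← hrs]
      exact Commute.map (show Commute rP _ from (comm_first _).2) d.ψ
  let s : Fin 7 → G := ![d.φ rP, d.φ (swap 1 2, 1), d.ψ (1, swap 1 2), d.φ cP, d.φ (1, swap 1 2),
    d.φ (1, swap 2 3), d.φ sP]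
  have hP : ∀ i p, inP i = some p → s i = d.φ p := by
    intro i p h
    fin_cases i <;> simp [inP] at h <;> subst h <;> rfl
  have hQ : ∀ i p, inQ i = some p → s i = d.ψ p := by
    intro i p h
    fin_cases i <;> simp [inQ] at h <;> subst h
    · exact hT
    · show d.φ (swap 1 2, 1) = _
      rw [s1_eq, map_mul, map_mul, map_inv, hT, ← d.ψ_a]
      simp only [map_mul, map_inv]
    · rfl
    · exact d.ψ_c.symm
    · show d.φ (1, swap 2 3) = _
      rw [s5_eq, map_mul, map_mul, map_inv, ← hrs, ← d.ψ_z]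
      simp only [map_mul, map_inv]
    · exact hrs.symm
  have hsq : ∀ i, s i * s i = 1 := fun i => by
    rcases cover i i with ⟨a, b⟩ | ⟨a, b⟩ | ⟨a, -⟩ | ⟨a, -⟩
    · exact absurd (a.symm.trans b) (by decide)
    · exact absurd (a.symm.trans b) (by decide)
    · obtain ⟨p, hp⟩ := Option.isSome_iff_exists.1 a
      rw [hP i p hp, ← map_mul, sq_P i p (Option.mem_toList.2 hp), map_one]
    · obtain ⟨p, hp⟩ := Option.isSome_iff_exists.1 a
      rw [hQ i p hp, ← map_mul, sq_Q i p (Option.mem_toList.2 hp), map_one]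
  have hbr : ∀ i j : Fin 7, (i : ℕ) + 1 = j → (s i * s j) ^ 3 = 1 := fun i j h => by
    rcases cover i j with ⟨rfl, rfl⟩ | ⟨rfl, rfl⟩ | ⟨a, b⟩ | ⟨a, b⟩
    · exact absurd h (by decide)
    · exact absurd h (by decide)
    · obtain ⟨p, hp⟩ := Option.isSome_iff_exists.1 a
      obtain ⟨q, hq⟩ := Option.isSome_iff_exists.1 b
      rw [hP i p hp, hP j q hq, ← map_mul, ← map_pow, br_P i j h p (Option.mem_toList.2 hp) q (Option.mem_toList.2 hq), map_one]
    · obtain ⟨p, hp⟩ := Option.isSome_iff_exists.1 a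
      obtain ⟨q, hq⟩ := Option.isSome_iff_exists.1 b
      rw [hQ i p hp, hQ j q hq, ← map_mul, ← map_pow, br_Q i j h p (Option.mem_toList.2 hp) q (Option.mem_toList.2 hq), map_one]
  have hfar : ∀ i j : Fin 7, (i : ℕ) + 1 < j → Commute (s i) (s j) := fun i j h => by
    rcases cover i j with ⟨rfl, rfl⟩ | ⟨rfl, rfl⟩ | ⟨a, b⟩ | ⟨a, b⟩
    · exact h24.symm
    · exact absurd h (by decide)
    · obtain ⟨p, hp⟩ := Option.isSome_iff_exists.1 a
      obtain ⟨q, hq⟩ := Option.isSome_iff_exists.1 b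
      rw [hP i p hp, hP j q hq]
      exact Commute.map (show Commute p q from far_P i j h p (Option.mem_toList.2 hp) q (Option.mem_toList.2 hq)) d.φ
    · obtain ⟨p, hp⟩ := Option.isSome_iff_exists.1 a
      obtain ⟨q, hq⟩ := Option.isSome_iff_exists.1 b
      rw [hQ i p hp, hQ j q hq]
      exact Commute.map (show Commute p q from far_Q i j h p (Option.mem_toList.2 hp) q (Option.mem_toList.2 hq)) d.ψ
  obtain ⟨θ, hθ⟩ := StepUp67.exists_hom_chain s hsq hbr hfar
  -- the copy agrees with the first system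
  have hagree : ∀ p, θ (kapS p) = d.φ p := by
    have hE : ∀ (n : ℕ) (ι : Perm (Fin (n + 1)) →* P35),
        (∀ i : Fin n, ∃ j : Fin 7, inP j = some (ι (swap i.castSucc i.succ)) ∧
          kapS (ι (swap i.castSucc i.succ)) = swap j.castSucc j.succ) →
        ∀ q, θ (kapS (ι q)) = d.φ (ι q) := by
      intro n ι h q
      have hq : q ∈ Submonoid.closure (Set.range fun i : Fin n => swap i.castSucc i.succ) := by
        rw [Equiv.Perm.mclosure_swap_castSucc_succ]; trivial
      refine MonoidHom.eqOn_closureM (f := θ.comp (kapS.comp ι)) (g := d.φ.comp ι) ?_ hq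
      rintro _ ⟨i, rfl⟩
      obtain ⟨j, hj1, hj2⟩ := h i
      show θ (kapS (ι _)) = d.φ (ι _)
      rw [hj2, hθ, hP j _ hj1]
    rintro ⟨p1, p2⟩
    rw [show ((p1, p2) : P35) = (p1, 1) * (1, p2) by simp, map_mul, map_mul, map_mul]
    exact congrArg₂ (· * ·) (hE 2 (MonoidHom.inl _ _) kap_first p1) (hE 4 (MonoidHom.inr _ _) kap_second p2)
  have hinj : Function.Injective θ := by
    refine StepUp67.injective_of_swaps (by omega) (a := (0 : Fin 8)) (b := 1) (c := 2) (by decide) (by decide)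
      (by decide) ?_
    have h0 : θ (swap 0 1) = d.φ rP := hθ 0
    have h1 : θ (swap 1 2) = d.φ (swap 1 2, 1) := hθ 1
    rw [h0, h1]
    exact fun e => absurd (d.φ_inj e) (by decide +kernel)
  obtain ⟨kz, kt, kv, kr, kc, k33⟩ := kap_small
  refine ⟨θ, hinj, ?_, ?_, ?_, ?_, d.sylow⟩
  · rw [← kz, hagree]
    intro w hw
    obtain ⟨p, rfl⟩ : w ∈ d.φ.range := by
      rw [d.φ_range]
      refine Subgroup.centralizer_le_normalizer _ ?_
      rw [Subgroup.mem_centralizer_iff]
      rintro _ ⟨k, rfl⟩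
      exact ((show Commute w (d.φ zP) from Subgroup.mem_centralizer_singleton_iff.1 hw).zpow_right k).eq.symm
    exact ⟨kapS p, hagree p⟩
  · rw [← Set.image_singleton]
    refine centralizer_le_range hinj _ ?_
    have hcard : Nat.card (Subgroup.centralizer ({θ (c33 : Perm (Fin 8))} : Set G)) = 36 := by
      obtain ⟨q, hq⟩ := conj_a
      rw [← k33, hagree, ← card_centralizer_conj (d.φ (1, q)), ← map_inv, ← map_mul, ← map_mul, hq, map_mul]
      exact d.card_cent
    rw [Set.image_singleton, hcard]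
    let f : Fin 3 × Fin 3 × Fin 2 × Fin 2 →
        Subgroup.centralizer ({(c33 : Perm (Fin 8))} : Set (Perm (Fin 8))) := fun x =>
      ⟨f36 x, Subgroup.mem_centralizer_singleton_iff.2 (f36_comm x).symm⟩
    simpa using Nat.card_le_card_of_injective f fun x y h => f36_inj x y (congrArg Subtype.val h)
  · have e : ({θ (t0 : Perm (Fin 8)), θ (v0 : Perm (Fin 8))} : Set G) =
        θ '' {(t0 : Perm (Fin 8)), (v0 : Perm (Fin 8))} := by
      rw [Set.image_insert_eq, Set.image_singleton]
    rw [e]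
    refine centralizer_le_range hinj _ ?_
    rw [← e, ← kt, ← kv, hagree, hagree, kt, kv]
    refine hCV.trans_le ?_
    let f : Perm (Fin 4) × Fin 2 × Fin 2 →
        Subgroup.centralizer ({(t0 : Perm (Fin 8)), (v0 : Perm (Fin 8))} : Set (Perm (Fin 8))) := fun x =>
      ⟨f96 x, Subgroup.mem_centralizer_iff.2 (by
        rintro b (rfl | rfl)
        exacts [(f96_comm x).1, (f96_comm x).2])⟩
    have := Nat.card_le_card_of_injective f fun x y h => f96_inj (congrArg Subtype.val h)
    rw [Nat.card_prod, Nat.card_prod, Nat.card_perm] at this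
    simpa [Nat.factorial] using this
  · rw [← Set.image_singleton]
    refine centralizer_le_range hinj _ ?_
    rw [Set.image_singleton]
    refine le_trans (le_of_eq ?_) (hC.trans card_centralizer_swap)
    obtain ⟨q, hq⟩ := conj_swap
    rw [← card_centralizer_conj (θ q), ← map_inv, ← map_mul, ← map_mul, hq, ← kc, hagree]

end Cfsg.Agent.Lib.SymEightThree6
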