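import Cfsg.Agent.Lib.SymEightThree6.Spec
import Mathlib

/-!
The normaliser of the product of the two alternating groups in the exceptional configuration.
-/

set_option autoImplicit false
set_option linter.style.haveILetI false

namespace Cfsg.Agent.Lib.SymEightThree6.ExcBasicPf

open Equiv Subgroup

universe u

abbrev P5 := Equiv.Perm (Fin 5)
abbrev A5 := alternatingGroup (Fin 5)

def a5 : P5 := swap 2 3 * swap 3 4
def b5 : P5 := swap 0 1 * swap 1 2
def c5 : P5 := swap 0 1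
def z3 : Equiv.Perm (Fin 3) := swap 0 1 * swap 1 2
def d5 : P5 := swap 0 1 * swap 3 4

theorem cent_z3 : ∀ p : Equiv.Perm (Fin 3), p * z3 = z3 * p → ∃ k : Fin 3, p = z3 ^ (k : ℕ) := by
  decide +kernel

theorem centre_even : ∀ q : P5, q * a5 = a5 * q → q * b5 = b5 * q → q = 1 := by
  decide +kernel

theorem three_conj : ∀ q : P5, Perm.sign q = 1 → q ^ 3 = 1 → q ≠ 1 →
    ∃ r : P5, Perm.sign r = 1 ∧ r * a5 * r⁻¹ = q := by
  decide +kernel

theorem a5_even : Perm.sign a5 = 1 := by decide +kernel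
theorem b5_even : Perm.sign b5 = 1 := by decide +kernel
theorem c5_odd : Perm.sign c5 = -1 := by decide +kernel
theorem d5_even : Perm.sign d5 = 1 := by decide +kernel
theorem a5_cube : a5 ^ 3 = 1 := by decide +kernel
theorem a5_ne : a5 ≠ 1 := by decide +kernel
theorem c5_sq : c5 * c5 = 1 := by decide +kernel
theorem c5_comm : c5 * a5 = a5 * c5 := by decide +kernel
theorem zP_comm : zP * aP = aP * zP := by decide +kernel
theorem rP_conj_z : rP * zP * rP⁻¹ = zP⁻¹ := by decide +kernel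
theorem rP_conj_za : rP * (zP * aP) * rP⁻¹ = (zP * aP⁻¹)⁻¹ := by decide +kernel

section

variable {G : Type u} [Group G] (d : Data G)

/-- The second factor of the first system. -/
def k1 : P5 →* G := d.φ.comp (MonoidHom.inr _ _)
/-- The second factor of the second system. -/
def k2 : P5 →* G := d.ψ.comp (MonoidHom.inr _ _)

theorem k1_inj : Function.Injective (k1 d) := fun _ _ h => (Prod.ext_iff.1 (d.φ_inj h)).2
theorem k2_inj : Function.Injective (k2 d) := fun _ _ h => (Prod.ext_iff.1 (d.ψ_inj h)).2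

theorem z_eq : d.φ zP = k2 d a5 := d.ψ_a.symm
theorem a_eq : d.φ aP = k1 d a5 := rfl
theorem c_eq1 : d.φ cP = k1 d c5 := rfl
theorem c_eq2 : d.φ cP = k2 d c5 := d.ψ_c.symm

/-- The first factor. -/
def K1 : Subgroup G := A5.map (k1 d)
/-- The second factor. -/
def K2 : Subgroup G := A5.map (k2 d)

theorem base_eq : d.base = K1 d ⊔ K2 d := rfl

variable {d}

theorem mem_K1 {x : G} : x ∈ K1 d ↔ ∃ q, Perm.sign q = 1 ∧ k1 d q = x := by
  simp [K1, Subgroup.mem_map, Perm.mem_alternatingGroup]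

theorem mem_K2 {x : G} : x ∈ K2 d ↔ ∃ q, Perm.sign q = 1 ∧ k2 d q = x := by
  simp [K2, Subgroup.mem_map, Perm.mem_alternatingGroup]

theorem g_sq_one (d : Data G) : d.g * d.g = 1 := by
  rcases d.g_sq with h | h
  · exact h
  exfalso
  have hg : d.g ∈ Subgroup.centralizer ({d.φ zP * d.φ aP} : Set G) := by
    rw [Subgroup.mem_centralizer_singleton_iff]
    have h1 : d.g * (d.φ zP * d.φ aP) * d.g⁻¹ = d.φ zP * d.φ aP := by
      rw [show d.g * (d.φ zP * d.φ aP) * d.g⁻¹ =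
        (d.g * d.φ zP * d.g⁻¹) * (d.g * d.φ aP * d.g⁻¹) by group, d.g_z, d.g_a, ← map_mul,
        ← map_mul, zP_comm]
    calc d.g * (d.φ zP * d.φ aP) = d.g * (d.φ zP * d.φ aP) * d.g⁻¹ * d.g := by group
      _ = _ := by rw [h1]
  have h2 := d.sq_cent _ hg
  rw [pow_two, h] at h2
  have h3 : d.φ cP ∈ (Subgroup.closure ({zP, aP} : Set P35)).map d.φ := by
    rw [MonoidHom.map_closure, Set.image_pair]
    exact h2
  obtain ⟨w, hw, hwc⟩ := h3
  rw [d.φ_inj hwc] at hw
  have hle : Subgroup.closure ({zP, aP} : Set P35) ≤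
      (Perm.sign.comp (MonoidHom.snd (Equiv.Perm (Fin 3)) P5)).ker := by
    rw [Subgroup.closure_le]
    rintro x (rfl | rfl)
    · simp [zP]
    · show Perm.sign a5 = 1
      exact a5_even
  have h4 : Perm.sign c5 = 1 := hle hw
  rw [c5_odd] at h4
  exact absurd h4 (by decide)

theorem g_inv (d : Data G) : d.g⁻¹ = d.g := inv_eq_of_mul_eq_one_left (g_sq_one d)

theorem gc_comm (d : Data G) : d.g * d.φ cP = d.φ cP * d.g := by
  calc d.g * d.φ cP = d.g * d.φ cP * d.g⁻¹ * d.g := by group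
    _ = _ := by rw [d.g_c]

theorem g_k1 (q : P5) : d.g * k1 d q * d.g⁻¹ = k2 d q := rfl

theorem g_k2 (q : P5) : d.g * k2 d q * d.g⁻¹ = k1 d q := by
  rw [← g_k1, show d.g * (d.g * k1 d q * d.g⁻¹) * d.g⁻¹ =
    (d.g * d.g) * k1 d q * (d.g * d.g)⁻¹ by group, g_sq_one]
  group

theorem phi_conj_k1 (w : P35) (q : P5) :
    d.φ w * k1 d q * (d.φ w)⁻¹ = k1 d (w.2 * q * w.2⁻¹) := by
  simp only [k1, MonoidHom.comp_apply, ← map_inv, ← map_mul]
  congr 1
  ext <;> simp

variable (hcomm : ∀ p q : P5, Perm.sign p = 1 → Perm.sign q = 1 →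
    d.φ (1, p) * d.ψ (1, q) = d.ψ (1, q) * d.φ (1, p))
include hcomm

theorem comm12 {p q : P5} (hp : Perm.sign p = 1) (hq : Perm.sign q = 1) :
    k1 d p * k2 d q = k2 d q * k1 d p := hcomm p q hp hq

theorem centK1_z : ∀ {x : G}, x ∈ Subgroup.centralizer ({d.φ zP} : Set G) →
    ∃ q q' : P5, q * a5 = a5 * q ∧ Perm.sign q' = 1 ∧ x = k2 d q * k1 d q' := by
  intro x hx
  have hxr : x ∈ d.φ.range := by
    rw [d.φ_range]
    rw [Subgroup.mem_centralizer_singleton_iff] at hx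
    have hc : x ∈ Subgroup.centralizer (Subgroup.zpowers (d.φ zP) : Set G) := by
      rw [Subgroup.mem_centralizer_iff]
      rintro h hh
      obtain ⟨n, rfl⟩ := Subgroup.mem_zpowers_iff.1 hh
      exact ((show Commute x (d.φ zP) from hx).zpow_right n).eq.symm
    exact Subgroup.centralizer_le_normalizer _ hc
  obtain ⟨⟨p, q⟩, rfl⟩ := hxr
  rw [Subgroup.mem_centralizer_singleton_iff, ← map_mul, ← map_mul] at hx
  have hp : p * z3 = z3 * p := congrArg Prod.fst (d.φ_inj hx)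
  obtain ⟨k, rfl⟩ := cent_z3 p hp
  have hz : d.φ (z3 ^ (k : ℕ), 1) = k2 d (a5 ^ (k : ℕ)) := by
    rw [map_pow, ← z_eq, ← map_pow]
    congr 1
    ext <;> simp [zP, z3]
  have hsplit : ∀ r : P5, d.φ (z3 ^ (k : ℕ), r) = k2 d (a5 ^ (k : ℕ)) * k1 d r := by
    intro r
    rw [← hz, k1, MonoidHom.comp_apply, ← map_mul]
    congr 1
    all_goals ext <;> simp
  rcases Int.units_eq_one_or (Perm.sign q) with hq | hq
  · exact ⟨a5 ^ (k : ℕ), q, (Commute.pow_self a5 _).eq, hq, hsplit q⟩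
  · refine ⟨a5 ^ (k : ℕ) * c5, c5 * q, ?_, by rw [map_mul, c5_odd, hq]; decide, ?_⟩
    · rw [mul_assoc, c5_comm, ← mul_assoc, (Commute.pow_self a5 _).eq, mul_assoc]
    · rw [hsplit q, map_mul, map_mul, ← c_eq2, c_eq1]
      rw [mul_assoc, ← mul_assoc (k1 d c5), ← map_mul (k1 d) c5 c5, c5_sq, map_one, one_mul]

theorem centK2 {x : G} (hx : ∀ q, Perm.sign q = 1 → x * k2 d q = k2 d q * x) : x ∈ K1 d := by
  have hz : x ∈ Subgroup.centralizer ({d.φ zP} : Set G) := by
    rw [Subgroup.mem_centralizer_singleton_iff, z_eq]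
    exact hx a5 a5_even
  obtain ⟨q, q', -, hq', rfl⟩ := centK1_z hcomm hz
  have h1 : ∀ r, Perm.sign r = 1 → q * r = r * q := by
    intro r hr
    apply k2_inj d
    rw [map_mul, map_mul]
    have h2 := hx r hr
    rw [mul_assoc, comm12 hcomm hq' hr, ← mul_assoc, ← mul_assoc] at h2
    exact mul_right_cancel h2
  rw [centre_even q (h1 a5 a5_even) (h1 b5 b5_even), map_one, one_mul]
  exact mem_K1.2 ⟨q', hq', rfl⟩

theorem centK1 {x : G} (hx : ∀ q, Perm.sign q = 1 → x * k1 d q = k1 d q * x) : x ∈ K2 d := by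
  have hy : d.g * x * d.g⁻¹ ∈ K1 d := centK2 hcomm fun q hq => by
    rw [← g_k1]
    calc d.g * x * d.g⁻¹ * (d.g * k1 d q * d.g⁻¹) = d.g * (x * k1 d q) * d.g⁻¹ := by group
      _ = d.g * (k1 d q * x) * d.g⁻¹ := by rw [hx q hq]
      _ = _ := by group
  obtain ⟨q, hq, he⟩ := mem_K1.1 hy
  refine mem_K2.2 ⟨q, hq, ?_⟩
  rw [← g_k1, he, g_inv]
  have h := g_sq_one d
  calc d.g * (d.g * x * d.g) * d.g = (d.g * d.g) * x * (d.g * d.g) := by group
    _ = x := by rw [h, one_mul, mul_one]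

theorem centA {x : G} (hx : x ∈ Subgroup.centralizer ({d.φ aP} : Set G)) :
    ∃ q q' : P5, q * a5 = a5 * q ∧ Perm.sign q' = 1 ∧ x = k1 d q * k2 d q' := by
  have hy : d.g * x * d.g⁻¹ ∈ Subgroup.centralizer ({d.φ zP} : Set G) := by
    rw [Subgroup.mem_centralizer_singleton_iff] at hx ⊢
    rw [← d.g_a]
    calc d.g * x * d.g⁻¹ * (d.g * d.φ aP * d.g⁻¹) = d.g * (x * d.φ aP) * d.g⁻¹ := by group
      _ = d.g * (d.φ aP * x) * d.g⁻¹ := by rw [hx]
      _ = _ := by group
  obtain ⟨q, q', h1, h2, he⟩ := centK1_z hcomm hy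
  refine ⟨q, q', h1, h2, ?_⟩
  have h := g_sq_one d
  calc x = (d.g * d.g) * x * (d.g * d.g) := by rw [h, one_mul, mul_one]
    _ = d.g * (d.g * x * d.g⁻¹) * d.g⁻¹ := by rw [g_inv]; group
    _ = (d.g * k2 d q * d.g⁻¹) * (d.g * k1 d q' * d.g⁻¹) := by rw [he]; group
    _ = _ := by rw [g_k1, g_k2]

theorem kk_inj {p q : P5} (hp : Perm.sign p = 1) (hq : Perm.sign q = 1)
    (h : k1 d p = k2 d q) : p = 1 := by
  have h1 : ∀ r, Perm.sign r = 1 → p * r = r * p := by
    intro r hr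
    apply k1_inj d
    rw [map_mul, map_mul, h]
    exact (comm12 hcomm hr hq).symm
  exact centre_even p (h1 a5 a5_even) (h1 b5 b5_even)

/-- The product map. -/
def mu : A5 × A5 →* G :=
  MonoidHom.noncommCoprod ((k1 d).comp A5.subtype) ((k2 d).comp A5.subtype)
    fun p q => comm12 hcomm (Perm.mem_alternatingGroup.1 p.2) (Perm.mem_alternatingGroup.1 q.2)

theorem mu_inj : Function.Injective (mu hcomm) := by
  rw [injective_iff_map_eq_one]
  rintro ⟨p, q⟩ h
  have h' : k1 d (p : P5) = k2 d ((q : P5)⁻¹) := by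
    rw [map_inv]
    exact eq_inv_of_mul_eq_one_left h
  have hq : Perm.sign ((q : P5)⁻¹) = 1 := by
    rw [map_inv, Perm.mem_alternatingGroup.1 q.2, inv_one]
  have hp : (p : P5) = 1 := kk_inj hcomm (Perm.mem_alternatingGroup.1 p.2) hq h'
  rw [hp, map_one, ← map_one (k2 d)] at h'
  exact Prod.ext (Subtype.ext hp) (Subtype.ext (inv_eq_one.1 (k2_inj d h').symm))

theorem mu_range : (mu hcomm).range = d.base := by
  refine (MonoidHom.noncommCoprod_range ..).trans ?_
  rw [MonoidHom.range_comp, MonoidHom.range_comp, Subgroup.range_subtype]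
  rfl

theorem conj_K2_of_K1 {x : G}
    (hx : ∀ q, Perm.sign q = 1 → x * k1 d q * x⁻¹ ∈ K1 d)
    (hx' : ∀ q, Perm.sign q = 1 → x⁻¹ * k1 d q * x ∈ K1 d) :
    ∀ q, Perm.sign q = 1 → x * k2 d q * x⁻¹ ∈ K2 d := by
  intro q hq
  apply centK1 hcomm
  intro p hp
  obtain ⟨p', hp', he⟩ := mem_K1.1 (hx' p hp)
  rw [show k1 d p = x * k1 d p' * x⁻¹ by rw [he]; group]
  calc x * k2 d q * x⁻¹ * (x * k1 d p' * x⁻¹) = x * (k2 d q * k1 d p') * x⁻¹ := by group
    _ = x * (k1 d p' * k2 d q) * x⁻¹ := by rw [comm12 hcomm hp' hq]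
    _ = _ := by group

theorem mem_normBase [Finite G] {x : G} (h : ∀ b ∈ d.base, x * b * x⁻¹ ∈ d.base) :
    x ∈ d.normBase :=
  Subgroup.mem_normalizer_fintype h

theorem phi_range_le [Finite G] : d.φ.range ≤ d.normBase := by
  rintro _ ⟨w, rfl⟩
  have hK : ∀ v : P35, ∀ q, Perm.sign q = 1 → d.φ v * k1 d q * (d.φ v)⁻¹ ∈ K1 d := by
    intro v q hq
    rw [phi_conj_k1]
    exact mem_K1.2 ⟨_, by simp [hq], rfl⟩
  have hK' := conj_K2_of_K1 hcomm (hK w) (fun q hq => by
    have := hK w⁻¹ q hq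
    rwa [map_inv, inv_inv] at this)
  refine mem_normBase hcomm fun b hb => ?_
  rw [base_eq] at hb ⊢
  have hle : K1 d ⊔ K2 d ≤ (K1 d ⊔ K2 d).comap (MulAut.conj (d.φ w)).toMonoidHom := by
    refine sup_le (fun y hy => ?_) (fun y hy => ?_)
    · obtain ⟨q, hq, rfl⟩ := mem_K1.1 hy
      exact Subgroup.mem_sup_left (hK w q hq)
    · obtain ⟨q, hq, rfl⟩ := mem_K2.1 hy
      exact Subgroup.mem_sup_right (hK' q hq)
  exact hle hb

theorem g_mem [Finite G] : d.g ∈ d.normBase := by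
  refine mem_normBase hcomm fun b hb => ?_
  rw [base_eq] at hb ⊢
  have hle : K1 d ⊔ K2 d ≤ (K1 d ⊔ K2 d).comap (MulAut.conj d.g).toMonoidHom := by
    refine sup_le (fun y hy => ?_) (fun y hy => ?_)
    · obtain ⟨q, hq, rfl⟩ := mem_K1.1 hy
      exact Subgroup.mem_sup_right (mem_K2.2 ⟨q, hq, (g_k1 q).symm⟩)
    · obtain ⟨q, hq, rfl⟩ := mem_K2.1 hy
      exact Subgroup.mem_sup_left (mem_K1.2 ⟨q, hq, (g_k2 q).symm⟩)
  exact hle hb

theorem base_le [Finite G] : d.base ≤ d.normBase := Subgroup.le_normalizer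

theorem base_conj_K1 {b : G} (hb : b ∈ d.base) {y : G} (hy : y ∈ K1 d) :
    b * y * b⁻¹ ∈ K1 d := by
  rw [← mu_range hcomm] at hb
  obtain ⟨⟨p, q⟩, rfl⟩ := hb
  obtain ⟨r, hr, rfl⟩ := mem_K1.1 hy
  refine mem_K1.2 ⟨(p : P5) * r * (p : P5)⁻¹, by simp [hr], ?_⟩
  have hq := Perm.mem_alternatingGroup.1 q.2
  show k1 d ((p : P5) * r * (p : P5)⁻¹) =
    k1 d p * k2 d q * k1 d r * (k1 d p * k2 d q)⁻¹
  rw [mul_inv_rev, map_mul, map_mul, map_inv]
  calc k1 d p * k1 d r * (k1 d p)⁻¹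
      = k1 d p * (k1 d r * k2 d q) * (k2 d q)⁻¹ * (k1 d p)⁻¹ := by group
    _ = k1 d p * (k2 d q * k1 d r) * (k2 d q)⁻¹ * (k1 d p)⁻¹ := by rw [comm12 hcomm hr hq]
    _ = _ := by group

/-- Elements fixing the first factor lie in two cosets of the base. -/
theorem stab_K1 [Finite G] {x : G} (hx : ∀ y ∈ K1 d, x * y * x⁻¹ ∈ K1 d) :
    x ∈ d.base ∨ x * d.φ cP ∈ d.base := by
  have hA : d.φ aP ∈ K1 d := mem_K1.2 ⟨a5, a5_even, rfl⟩
  obtain ⟨q, hq, he⟩ := mem_K1.1 (hx _ hA)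
  have h3 : q ^ 3 = 1 := by
    apply k1_inj d
    rw [map_pow, he, conj_pow, a_eq, ← map_pow, a5_cube, map_one]
    group
  have h1 : q ≠ 1 := by
    rintro rfl
    rw [map_one, eq_comm, conj_eq_one_iff, a_eq, ← map_one (k1 d)] at he
    exact a5_ne (k1_inj d he)
  obtain ⟨r, hr, rfl⟩ := three_conj q hq h3 h1
  have hy : (k1 d r)⁻¹ * x ∈ Subgroup.centralizer ({d.φ aP} : Set G) := by
    rw [Subgroup.mem_centralizer_singleton_iff]
    rw [map_mul, map_mul, map_inv] at he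
    calc (k1 d r)⁻¹ * x * d.φ aP = (k1 d r)⁻¹ * (x * d.φ aP * x⁻¹) * x := by group
      _ = (k1 d r)⁻¹ * (k1 d r * k1 d a5 * (k1 d r)⁻¹) * x := by rw [he]
      _ = _ := by rw [a_eq]; group
  obtain ⟨s, s', hs, hs', he'⟩ := centA hcomm hy
  have hx' : x = k1 d (r * s) * k2 d s' := by
    rw [map_mul, mul_assoc, ← he']
    group
  have hb2 : ∀ t, Perm.sign t = 1 → k2 d t ∈ d.base := fun t ht => by
    rw [base_eq]; exact Subgroup.mem_sup_right (mem_K2.2 ⟨t, ht, rfl⟩)
  have hb1 : ∀ t, Perm.sign t = 1 → k1 d t ∈ d.base := fun t ht => by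
    rw [base_eq]; exact Subgroup.mem_sup_left (mem_K1.2 ⟨t, ht, rfl⟩)
  rcases Int.units_eq_one_or (Perm.sign s) with h | h
  · left
    rw [hx']
    exact d.base.mul_mem (hb1 _ (by rw [map_mul, hr, h, one_mul])) (hb2 _ hs')
  · right
    have hcm : k2 d s' * d.φ cP = d.φ cP * k2 d (c5⁻¹ * s' * c5) := by
      rw [c_eq2, map_mul, map_mul, map_inv]
      group
    rw [hx', mul_assoc, hcm, ← mul_assoc, c_eq1, ← map_mul]
    exact d.base.mul_mem (hb1 _ (by rw [map_mul, map_mul, hr, h, c5_odd]; decide))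
      (hb2 _ (by simp [hs']))

theorem K1_ne_K2 : ¬ ∀ y ∈ K1 d, y ∈ K2 d := by
  intro h
  obtain ⟨q, hq, he⟩ := mem_K2.1 (h _ (mem_K1.2 ⟨a5, a5_even, rfl⟩))
  exact a5_ne (kk_inj hcomm a5_even hq he.symm)

theorem conj_image [Finite G] {x : G} (hx : x ∈ d.normBase) :
    (∀ y ∈ K1 d, x * y * x⁻¹ ∈ K1 d) ∨ (∀ y ∈ K1 d, x * y * x⁻¹ ∈ K2 d) := by
  have hbase : ∀ b ∈ d.base, x * b * x⁻¹ ∈ d.base :=
    fun b hb => (Subgroup.mem_normalizer_iff.1 hx b).1 hb
  have hbase' : ∀ b ∈ d.base, x⁻¹ * b * x ∈ d.base := fun b hb => by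
    have := (Subgroup.mem_normalizer_iff.1 (d.normBase.inv_mem hx) b).1 hb
    rwa [inv_inv] at this
  have hK1 : K1 d ≤ d.base := by rw [base_eq]; exact le_sup_left
  let f : A5 →* G := (k1 d).comp A5.subtype
  let X : Subgroup G := (K1 d).map (MulAut.conj x).toMonoidHom
  have hXb : ∀ b ∈ d.base, ∀ y ∈ X, b * y * b⁻¹ ∈ X := by
    rintro b hb _ ⟨y, hy, rfl⟩
    refine ⟨(x⁻¹ * b * x) * y * (x⁻¹ * b * x)⁻¹, base_conj_K1 hcomm (hbase' b hb) hy, ?_⟩
    simp only [MulEquiv.coe_toMonoidHom, MulAut.conj_apply]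
    group
  haveI : (X.comap f).Normal := ⟨fun n hn p => by
    simp only [Subgroup.mem_comap, map_mul, map_inv] at hn ⊢
    exact hXb _ (hK1 (mem_K1.2 ⟨(p : P5), Perm.mem_alternatingGroup.1 p.2, rfl⟩)) _ hn⟩
  rcases (‹(X.comap f).Normal›).eq_bot_or_eq_top with h | h
  · right
    intro y hy
    have hyX : x * y * x⁻¹ ∈ X := ⟨y, hy, rfl⟩
    apply centK1 hcomm
    intro q hq
    have hqb : k1 d q ∈ d.base := hK1 (mem_K1.2 ⟨q, hq, rfl⟩)
    set w := x * y * x⁻¹ with hw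
    have hcX : k1 d q * w * (k1 d q)⁻¹ * w⁻¹ ∈ X :=
      X.mul_mem (hXb _ hqb _ hyX) (X.inv_mem hyX)
    have hcK : k1 d q * w * (k1 d q)⁻¹ * w⁻¹ ∈ K1 d := by
      rw [show k1 d q * w * (k1 d q)⁻¹ * w⁻¹ = k1 d q * (w * (k1 d q)⁻¹ * w⁻¹) by group]
      exact (K1 d).mul_mem (mem_K1.2 ⟨q, hq, rfl⟩)
        (base_conj_K1 hcomm (hbase y (hK1 hy)) ((K1 d).inv_mem (mem_K1.2 ⟨q, hq, rfl⟩)))
    obtain ⟨s, hs, hse⟩ := mem_K1.1 hcK
    have hmem : (⟨s, Perm.mem_alternatingGroup.2 hs⟩ : A5) ∈ X.comap f := by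
      show k1 d s ∈ X
      rw [hse]
      exact hcX
    rw [h, Subgroup.mem_bot] at hmem
    have hs1 : s = 1 := congrArg Subtype.val hmem
    rw [hs1, map_one] at hse
    calc w * k1 d q = (k1 d q * w * (k1 d q)⁻¹ * w⁻¹) * (w * k1 d q) := by rw [← hse, one_mul]
      _ = _ := by group
  · left
    intro y hy
    have hle : K1 d ≤ X := by
      intro t ht
      obtain ⟨q, hq, rfl⟩ := mem_K1.1 ht
      have hm : (⟨q, Perm.mem_alternatingGroup.2 hq⟩ : A5) ∈ X.comap f := by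
        rw [h]; exact Subgroup.mem_top _
      exact hm
    have hcard : Nat.card X ≤ Nat.card (K1 d) := by
      rw [Subgroup.card_map_of_injective (MulAut.conj x).injective]
    rw [Subgroup.eq_of_le_of_card_ge hle hcard]
    exact ⟨y, hy, rfl⟩

theorem cosets [Finite G] {x : G} (hx : x ∈ d.normBase) :
    ∃ h ∈ ({1, d.φ cP, d.g, d.φ cP * d.g} : Set G), x * h ∈ d.base := by
  rcases conj_image hcomm hx with h | h
  · rcases stab_K1 hcomm h with h' | h'
    · exact ⟨1, by simp, by simpa using h'⟩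
    · exact ⟨_, by simp, h'⟩
  · have hK : ∀ y ∈ K1 d, d.g * x * y * (d.g * x)⁻¹ ∈ K1 d := by
      intro y hy
      obtain ⟨q, hq, he⟩ := mem_K2.1 (h y hy)
      rw [show d.g * x * y * (d.g * x)⁻¹ = d.g * (x * y * x⁻¹) * d.g⁻¹ by group, ← he, g_k2]
      exact mem_K1.2 ⟨q, hq, rfl⟩
    have hg := g_sq_one d
    have hgi := g_inv d
    rcases stab_K1 hcomm hK with h' | h'
    · refine ⟨d.g, by simp, ?_⟩
      have := (Subgroup.mem_normalizer_iff.1 (g_mem hcomm) _).1 h'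
      rwa [show d.g * (d.g * x) * d.g⁻¹ = (d.g * d.g) * x * d.g⁻¹ by group, hg, one_mul, hgi]
        at this
    · refine ⟨d.φ cP * d.g, by simp, ?_⟩
      have := (Subgroup.mem_normalizer_iff.1 (g_mem hcomm) _).1 h'
      rwa [show d.g * (d.g * x * d.φ cP) * d.g⁻¹ = (d.g * d.g) * (x * (d.φ cP * d.g⁻¹)) by
        group, hg, one_mul, hgi] at this

theorem rep_sq {h : G} (hh : h ∈ ({1, d.φ cP, d.g, d.φ cP * d.g} : Set G)) : h * h = 1 := by
  have hg := g_sq_one d
  have hc : d.φ cP * d.φ cP = 1 := by rw [c_eq1, ← map_mul, c5_sq, map_one]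
  rcases hh with rfl | rfl | rfl | rfl
  · simp
  · exact hc
  · exact hg
  · rw [show d.φ cP * d.g * (d.φ cP * d.g) = d.φ cP * (d.g * d.φ cP) * d.g by group, gc_comm,
      ← mul_assoc, hc, one_mul, hg]

theorem rep_mem [Finite G] {h : G} (hh : h ∈ ({1, d.φ cP, d.g, d.φ cP * d.g} : Set G)) :
    h ∈ d.normBase := by
  have hc : d.φ cP ∈ d.normBase := phi_range_le hcomm ⟨cP, rfl⟩
  rcases hh with rfl | rfl | rfl | rfl
  exacts [d.normBase.one_mem, hc, g_mem hcomm, d.normBase.mul_mem hc (g_mem hcomm)]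

theorem c_notMem : d.φ cP ∉ d.base := by
  rw [← mu_range hcomm]
  rintro ⟨⟨p, q⟩, h⟩
  have hp := Perm.mem_alternatingGroup.1 p.2
  have hq := Perm.mem_alternatingGroup.1 q.2
  change k1 d p * k2 d q = _ at h
  have h' : k1 d ((p : P5)⁻¹ * c5) = k2 d q := by
    rw [map_mul, map_inv, ← c_eq1, ← h]
    group
  have h1 : ∀ r, Perm.sign r = 1 → (p : P5)⁻¹ * c5 * r = r * ((p : P5)⁻¹ * c5) := by
    intro r hr
    apply k1_inj d
    rw [map_mul, map_mul (k1 d) r, h']
    exact (comm12 hcomm hr hq).symm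
  have h2 := congrArg Perm.sign (centre_even _ (h1 a5 a5_even) (h1 b5 b5_even))
  rw [map_mul, map_inv, hp, c5_odd, map_one, inv_one, one_mul] at h2
  exact absurd h2 (by decide)

theorem g_notMem (e : G) (he : e = 1 ∨ e = d.φ cP) : e * d.g ∉ d.base := by
  intro h
  apply K1_ne_K2 hcomm
  intro y hy
  obtain ⟨r, hr, rfl⟩ := mem_K1.1 hy
  have hc : ∀ t, Perm.sign t = 1 → e * k2 d t * e⁻¹ ∈ K2 d := by
    intro t ht
    rcases he with rfl | rfl
    · simpa using mem_K2.2 ⟨t, ht, rfl⟩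
    · rw [c_eq2, ← map_inv, ← map_mul, ← map_mul]
      exact mem_K2.2 ⟨_, by simp [ht], rfl⟩
  -- the element `e * g` carries the first factor into the second and normalises the first
  have h1 := base_conj_K1 hcomm (d.base.inv_mem h) (mem_K1.2 ⟨r, hr, rfl⟩ : k1 d r ∈ K1 d)
  obtain ⟨s, hs, hse⟩ := mem_K1.1 h1
  have h2 := hc s hs
  rw [← g_k1, hse] at h2
  have : e * (d.g * ((e * d.g)⁻¹ * k1 d r * (e * d.g)⁻¹⁻¹) * d.g⁻¹) * e⁻¹ = k1 d r := by group
  rwa [this] at h2

theorem index_eq [Finite G] : d.base.relIndex d.normBase = 4 := by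
  have hb : d.base ≤ d.normBase := base_le hcomm
  have hgc : d.φ cP * d.g = d.g * d.φ cP := (gc_comm d).symm
  have hg := g_sq_one d
  have hcc : d.φ cP * d.φ cP = 1 := by rw [c_eq1, ← map_mul, c5_sq, map_one]
  let f : d.base × Fin 4 → d.normBase := fun x =>
    ⟨(x.1 : G) * ![1, d.φ cP, d.g, d.φ cP * d.g] x.2, d.normBase.mul_mem (hb x.1.2)
      (rep_mem hcomm (by generalize x.2 = k; fin_cases k <;> simp))⟩
  have hbij : Function.Bijective f := by
    constructor
    · rintro ⟨b, i⟩ ⟨b', j⟩ he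
      have he' : (b : G) * ![1, d.φ cP, d.g, d.φ cP * d.g] i =
          (b' : G) * ![1, d.φ cP, d.g, d.φ cP * d.g] j := congrArg Subtype.val he
      suffices i = j by
        subst this
        rw [Subtype.ext (mul_right_cancel he')]
      have key : ![1, d.φ cP, d.g, d.φ cP * d.g] i * (![1, d.φ cP, d.g, d.φ cP * d.g] j)⁻¹
          ∈ d.base := by
        have h0 := congrArg (fun t => (b : G)⁻¹ * t * (![1, d.φ cP, d.g, d.φ cP * d.g] j)⁻¹) he'
        simp only [inv_mul_cancel_left, mul_assoc, mul_inv_cancel, mul_one] at h0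
        rw [h0]
        exact d.base.mul_mem (d.base.inv_mem b.2) b'.2
      have hci : (d.φ cP)⁻¹ = d.φ cP := inv_eq_of_mul_eq_one_left hcc
      have hgi := g_inv d
      have n1 := c_notMem hcomm
      have n2 : d.g ∉ d.base := fun h => g_notMem hcomm 1 (Or.inl rfl) (by rwa [one_mul])
      have n3 := g_notMem hcomm _ (Or.inr rfl)
      have e1 : ∀ y, d.φ cP * (d.φ cP * y) = y := fun y => by rw [← mul_assoc, hcc, one_mul]
      have e2 : ∀ y, d.g * (d.g * y) = y := fun y => by rw [← mul_assoc, hg, one_mul]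
      have e3 : ∀ y, d.g * (d.φ cP * y) = d.φ cP * (d.g * y) := fun y => by
        rw [← mul_assoc, ← hgc, mul_assoc]
      fin_cases i <;> fin_cases j <;>
        simp [hci, hgi, ← hgc, mul_inv_rev, mul_assoc, hg, hcc, e1, e2, e3] at key ⊢ <;>
        first
          | exact absurd key n1
          | exact absurd key n2
          | exact absurd key n3
    · rintro ⟨x, hx⟩
      obtain ⟨h, hh, hxh⟩ := cosets hcomm hx
      obtain ⟨i, hi⟩ : ∃ i : Fin 4, ![1, d.φ cP, d.g, d.φ cP * d.g] i = h := by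
        rcases hh with rfl | rfl | rfl | rfl
        exacts [⟨0, rfl⟩, ⟨1, rfl⟩, ⟨2, rfl⟩, ⟨3, rfl⟩]
      refine ⟨(⟨x * h, hxh⟩, i), Subtype.ext ?_⟩
      show x * h * ![1, d.φ cP, d.g, d.φ cP * d.g] i = x
      rw [hi, mul_assoc, rep_sq hcomm hh, mul_one]
  have hcard : Nat.card d.normBase = Nat.card d.base * 4 := by
    rw [← Nat.card_eq_of_bijective f hbij, Nat.card_prod, Nat.card_fin]
  have h := (d.base.subgroupOf d.normBase).card_mul_index
  rw [Nat.card_congr (Subgroup.subgroupOfEquivOfLe hb).toEquiv, hcard] at h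
  exact Nat.eq_of_mul_eq_mul_left Nat.card_pos h

theorem sq_mem [Finite G] {x : G} (hx : x ∈ d.normBase) : x ^ 2 ∈ d.base := by
  obtain ⟨h, hh, hxh⟩ := cosets hcomm hx
  have h2 := rep_sq hcomm hh
  have hi : h⁻¹ = h := inv_eq_of_mul_eq_one_left h2
  have h3 := (Subgroup.mem_normalizer_iff.1 (rep_mem hcomm hh) _).1 hxh
  rw [show h * (x * h) * h⁻¹ = h * x by group] at h3
  have h4 := d.base.mul_mem hxh h3
  rwa [show x * h * (h * x) = x * (h * h) * x by group, h2, mul_one, ← pow_two] at h4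

theorem minimal [Finite G] {X : Subgroup G} (hX : X ≤ d.base)
    (hn : ∀ g ∈ d.normBase, ∀ x ∈ X, g * x * g⁻¹ ∈ X) : X = ⊥ ∨ X = d.base := by
  have hK1 : K1 d ≤ d.base := by rw [base_eq]; exact le_sup_left
  let f : A5 →* G := (k1 d).comp A5.subtype
  haveI : (X.comap f).Normal := ⟨fun n hn' p => by
    simp only [Subgroup.mem_comap, map_mul, map_inv] at hn' ⊢
    exact hn _ (base_le hcomm (hK1 (mem_K1.2 ⟨(p : P5), Perm.mem_alternatingGroup.1 p.2, rfl⟩)))
      _ hn'⟩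
  rcases (‹(X.comap f).Normal›).eq_bot_or_eq_top with h | h
  · left
    rw [eq_bot_iff]
    intro w hw
    have hcent : ∀ v ∈ X, ∀ q, Perm.sign q = 1 → v * k1 d q = k1 d q * v := by
      intro v hv q hq
      have hq1 : k1 d q ∈ K1 d := mem_K1.2 ⟨q, hq, rfl⟩
      have hcX : k1 d q * v * (k1 d q)⁻¹ * v⁻¹ ∈ X :=
        X.mul_mem (hn _ (base_le hcomm (hK1 hq1)) _ hv) (X.inv_mem hv)
      have hcK : k1 d q * v * (k1 d q)⁻¹ * v⁻¹ ∈ K1 d := by
        rw [show k1 d q * v * (k1 d q)⁻¹ * v⁻¹ = k1 d q * (v * (k1 d q)⁻¹ * v⁻¹) by group]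
        exact (K1 d).mul_mem hq1 (base_conj_K1 hcomm (hX hv) ((K1 d).inv_mem hq1))
      obtain ⟨s, hs, hse⟩ := mem_K1.1 hcK
      have hmem : (⟨s, Perm.mem_alternatingGroup.2 hs⟩ : A5) ∈ X.comap f := by
        show k1 d s ∈ X
        rw [hse]
        exact hcX
      rw [h, Subgroup.mem_bot] at hmem
      rw [show s = 1 from congrArg Subtype.val hmem, map_one] at hse
      calc v * k1 d q = (k1 d q * v * (k1 d q)⁻¹ * v⁻¹) * (v * k1 d q) := by
            rw [← hse, one_mul]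
        _ = _ := by group
    obtain ⟨q, hq, hqw⟩ := mem_K2.1 (centK1 hcomm (hcent w hw))
    obtain ⟨q', hq', hqw'⟩ := mem_K2.1
      (centK1 hcomm (hcent _ (hn _ (g_mem hcomm) _ hw)))
    rw [← hqw, g_k2] at hqw'
    have h1 := kk_inj hcomm hq hq' hqw'.symm
    rw [← hqw, h1, map_one]
    exact Subgroup.one_mem _
  · right
    refine le_antisymm hX ?_
    rw [base_eq]
    have hle : K1 d ≤ X := by
      intro t ht
      obtain ⟨q, hq, rfl⟩ := mem_K1.1 ht
      have hm : (⟨q, Perm.mem_alternatingGroup.2 hq⟩ : A5) ∈ X.comap f := by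
        rw [h]; exact Subgroup.mem_top _
      exact hm
    refine sup_le hle fun t ht => ?_
    obtain ⟨q, hq, rfl⟩ := mem_K2.1 ht
    rw [← g_k1]
    exact hn _ (g_mem hcomm) _ (hle (mem_K1.2 ⟨q, hq, rfl⟩))

theorem c3_le [Finite G] : Subgroup.centralizer ({d.φ zP} : Set G) ≤ d.normBase := by
  intro x hx
  obtain ⟨q, q', hq, hq', rfl⟩ := centK1_z hcomm hx
  refine d.normBase.mul_mem ?_ (base_le hcomm ?_)
  · have hm : k2 d q = d.g * k1 d q * d.g⁻¹ := rfl
    rw [hm]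
    exact d.normBase.mul_mem (d.normBase.mul_mem (g_mem hcomm)
      (phi_range_le hcomm ⟨_, rfl⟩)) (d.normBase.inv_mem (g_mem hcomm))
  · rw [base_eq]
    exact Subgroup.mem_sup_left (mem_K1.2 ⟨q', hq', rfl⟩)

theorem y_le [Finite G] :
    Subgroup.centralizer ({d.φ zP * d.φ aP} : Set G) ≤ d.normBase := by
  set C := Subgroup.centralizer ({d.φ zP * d.φ aP} : Set G) with hC
  set H := C ⊓ d.normBase with hH
  let S : Subgroup P35 := Subgroup.centralizer {zP, aP}
  have hS : Nat.card S = 18 := by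
    rw [Nat.card_congr (Equiv.subtypeEquivRight (q := fun w : P35 => zP * w = w * zP ∧ aP * w = w * aP)
      fun w => by simp [S, Subgroup.mem_centralizer_iff]), Nat.card_eq_fintype_card]
    decide +kernel
  have hle : S.map d.φ ≤ H := by
    rintro _ ⟨w, hw, rfl⟩
    refine ⟨?_, phi_range_le hcomm ⟨w, rfl⟩⟩
    simp only [S, SetLike.mem_coe, Subgroup.mem_centralizer_iff, Set.mem_insert_iff,
      Set.mem_singleton_iff, forall_eq_or_imp, forall_eq] at hw
    show d.φ w ∈ C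
    rw [hC, Subgroup.mem_centralizer_singleton_iff, ← map_mul, ← map_mul,
      ← map_mul, ← mul_assoc, ← hw.1, mul_assoc, ← hw.2, mul_assoc]
  have hgC : d.g ∈ C := by
    rw [hC, Subgroup.mem_centralizer_singleton_iff]
    calc d.g * (d.φ zP * d.φ aP)
        = (d.g * d.φ zP * d.g⁻¹) * (d.g * d.φ aP * d.g⁻¹) * d.g := by group
      _ = _ := by rw [d.g_z, d.g_a, ← map_mul, ← map_mul, zP_comm]
  have hlt : S.map d.φ < H := by
    refine lt_of_le_of_ne hle fun e => ?_
    obtain ⟨w, -, hw⟩ : d.g ∈ S.map d.φ := by rw [e]; exact ⟨hgC, g_mem hcomm⟩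
    have h1 := d.g_z
    rw [← hw, ← map_inv, ← map_mul, ← map_mul] at h1
    have h2 : w.2 * 1 * w.2⁻¹ = a5 := congrArg Prod.snd (d.φ_inj h1)
    rw [mul_one, mul_inv_cancel] at h2
    exact a5_ne h2.symm
  have hcard : 18 < Nat.card H := by
    have h18 : Nat.card (S.map d.φ) = 18 := by
      rw [Subgroup.card_map_of_injective d.φ_inj, hS]
    by_contra hcon
    exact hlt.ne (Subgroup.eq_of_le_of_card_ge hle (by omega))
  have hdvd : Nat.card H ∣ 36 := d.card_cent ▸ Subgroup.card_dvd_of_le (inf_le_left : H ≤ C)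
  have h36 : Nat.card H = 36 := by
    obtain ⟨k, hk⟩ := hdvd
    rcases k with _ | _ | k
    · omega
    · omega
    · nlinarith
  exact (Subgroup.eq_of_le_of_card_ge (inf_le_left : H ≤ C) (by rw [d.card_cent, h36])).ge.trans
    inf_le_right

theorem cv_le [Finite G] (hcv : Nat.card d.CV = 240) : d.CV ≤ d.normBase := by
  let V : Subgroup P5 := Subgroup.closure {swap 1 2 * swap 3 4, swap 1 3 * swap 2 4}
  let H := d.CV ⊓ d.base
  have hVe : ∀ v ∈ V, Perm.sign v = 1 ∧ v * (swap 1 2 * swap 3 4) = (swap 1 2 * swap 3 4) * v ∧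
      v * (swap 1 3 * swap 2 4) = (swap 1 3 * swap 2 4) * v := by
    intro v hv
    have hle : V ≤ A5 ⊓ Subgroup.centralizer {swap 1 2 * swap 3 4, swap 1 3 * swap 2 4} := by
      rw [Subgroup.closure_le]
      rintro w (rfl | rfl) <;>
        simp only [Subgroup.coe_inf, Set.mem_inter_iff, SetLike.mem_coe, Perm.mem_alternatingGroup,
          Subgroup.mem_centralizer_iff, Set.mem_insert_iff, Set.mem_singleton_iff,
          forall_eq_or_imp, forall_eq] <;> decide +kernel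
    obtain ⟨h1, h2⟩ := hle hv
    exact ⟨Perm.mem_alternatingGroup.1 h1, (h2 _ (Or.inl rfl)).symm, (h2 _ (Or.inr rfl)).symm⟩
  let m : V × A5 → H := fun x => ⟨k1 d x.1 * k2 d x.2, by
    obtain ⟨hs, ht, hv⟩ := hVe _ x.1.2
    have hq := Perm.mem_alternatingGroup.1 x.2.2
    have ev1 : Perm.sign (swap 1 2 * swap 3 4 : P5) = 1 := by decide +kernel
    have ev2 : Perm.sign (swap 1 3 * swap 2 4 : P5) = 1 := by decide +kernel
    have key : ∀ t : P5, Perm.sign t = 1 → (x.1 : P5) * t = t * x.1 →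
        k1 d t * (k1 d x.1 * k2 d x.2) = k1 d x.1 * k2 d x.2 * k1 d t := by
      intro t hte hc
      rw [← mul_assoc, ← map_mul, ← hc, map_mul, mul_assoc, comm12 hcomm hte hq, mul_assoc]
    refine ⟨?_, ?_⟩
    · show _ ∈ Subgroup.centralizer _
      rw [Subgroup.mem_centralizer_iff]
      rintro w (rfl | rfl)
      · exact key _ ev1 ht
      · exact key _ ev2 hv
    · show _ ∈ d.base
      rw [base_eq]
      exact Subgroup.mul_mem_sup (mem_K1.2 ⟨_, hs, rfl⟩) (mem_K2.2 ⟨_, hq, rfl⟩)⟩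
  have hm : Function.Injective m := by
    rintro ⟨p, q⟩ ⟨p', q'⟩ he
    have he' : mu hcomm (⟨p, (Perm.mem_alternatingGroup.2 (hVe _ p.2).1)⟩, q) =
        mu hcomm (⟨p', (Perm.mem_alternatingGroup.2 (hVe _ p'.2).1)⟩, q') := congrArg Subtype.val he
    have h2 := mu_inj hcomm he'
    simp only [Prod.mk.injEq, Subtype.mk.injEq] at h2
    exact Prod.ext (Subtype.ext h2.1) h2.2
  have h4 : 4 ≤ Nat.card V := by
    let s : Fin 4 → V :=
      ![1, ⟨_, Subgroup.subset_closure (Set.mem_insert _ _)⟩,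
        ⟨_, Subgroup.subset_closure (Set.mem_insert_of_mem _ rfl)⟩,
        ⟨_, V.mul_mem (Subgroup.subset_closure (Set.mem_insert _ _))
          (Subgroup.subset_closure (Set.mem_insert_of_mem _ rfl))⟩]
    have hs : Function.Injective s := by
      intro i j hij
      have h' : ![1, (swap 1 2 * swap 3 4 : P5), swap 1 3 * swap 2 4,
          swap 1 2 * swap 3 4 * (swap 1 3 * swap 2 4)] i =
          ![1, (swap 1 2 * swap 3 4 : P5), swap 1 3 * swap 2 4,
          swap 1 2 * swap 3 4 * (swap 1 3 * swap 2 4)] j := by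
        have := congrArg Subtype.val hij
        fin_cases i <;> fin_cases j <;> simpa [s] using this
      revert h'
      revert i j
      decide +kernel
    calc 4 = Nat.card (Fin 4) := (Nat.card_fin 4).symm
      _ ≤ _ := Nat.card_le_card_of_injective s hs
  have hA : Nat.card A5 = 60 := by
    rw [nat_card_alternatingGroup]
    simp [Nat.factorial]
  have hH : 240 ≤ Nat.card H := by
    have := Nat.card_le_card_of_injective m hm
    rw [Nat.card_prod, hA] at this
    omega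
  exact (Subgroup.eq_of_le_of_card_ge (inf_le_left : H ≤ d.CV) (by rw [hcv]; exact hH)).ge.trans
    (inf_le_right.trans (base_le hcomm))

theorem centC_le [Finite G] (hD : Subgroup.centralizer ({d.φ cP} : Set G) ≤
    Subgroup.normalizer (Subgroup.closure ({d.φ zP, d.φ aP} : Set G) : Set G)) :
    Subgroup.centralizer ({d.φ cP} : Set G) ≤ d.normBase := by
  intro x hx
  have hr : ∀ {y : G}, (y * d.φ zP * y⁻¹ = d.φ zP ∨ y * d.φ zP * y⁻¹ = (d.φ zP)⁻¹) →
      y ∈ d.normBase := by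
    rintro y (h | h)
    · apply c3_le hcomm
      rw [Subgroup.mem_centralizer_singleton_iff]
      calc y * d.φ zP = y * d.φ zP * y⁻¹ * y := by group
        _ = _ := by rw [h]
    · have h1 : d.φ rP * y ∈ d.normBase := by
        apply c3_le hcomm
        rw [Subgroup.mem_centralizer_singleton_iff]
        calc d.φ rP * y * d.φ zP = d.φ rP * (y * d.φ zP * y⁻¹) * y := by group
          _ = (d.φ rP * d.φ zP * (d.φ rP)⁻¹)⁻¹ * (d.φ rP * y) := by rw [h]; group
          _ = _ := by rw [← map_inv, ← map_mul, ← map_mul, rP_conj_z, ← map_inv, inv_inv]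
      have h2 := d.normBase.mul_mem (d.normBase.inv_mem (phi_range_le hcomm ⟨rP, rfl⟩)) h1
      rwa [inv_mul_cancel_left] at h2
  let W : Subgroup P35 := Subgroup.closure {zP, aP}
  have hW : W.map d.φ = Subgroup.closure ({d.φ zP, d.φ aP} : Set G) := by
    rw [MonoidHom.map_closure, Set.image_pair]
  have hm : x * d.φ zP * x⁻¹ ∈ W.map d.φ := by
    rw [hW]
    exact (Subgroup.mem_normalizer_iff.1 (hD hx) _).1 (Subgroup.subset_closure (Set.mem_insert _ _))
  obtain ⟨w, hw, hwe⟩ := hm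
  have hle : W ≤ Subgroup.centralizer {zP, aP} ⊓
      (Perm.sign.comp (MonoidHom.snd (Equiv.Perm (Fin 3)) P5)).ker := by
    rw [Subgroup.closure_le]
    rintro v (rfl | rfl) <;>
      simp only [Subgroup.coe_inf, Set.mem_inter_iff, SetLike.mem_coe, MonoidHom.mem_ker,
        Subgroup.mem_centralizer_iff, Set.mem_insert_iff, Set.mem_singleton_iff,
        forall_eq_or_imp, forall_eq, MonoidHom.comp_apply, MonoidHom.coe_snd] <;> decide +kernel
  obtain ⟨hw1, hw2⟩ := hle hw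
  have hcases : ∀ w : P35, w * zP = zP * w → w * aP = aP * w → Perm.sign w.2 = 1 →
      w ∈ [1, zP, zP⁻¹, aP, aP⁻¹, zP * aP, (zP * aP)⁻¹, rP * (zP * aP) * rP⁻¹,
        (rP * (zP * aP) * rP⁻¹)⁻¹] := by
    decide +kernel
  -- the centraliser of `z` is too large for the elements of the shape `z * a`
  have hbig : 36 < Nat.card (Subgroup.centralizer ({d.φ zP} : Set G)) := by
    have hle : K1 d ≤ Subgroup.centralizer ({d.φ zP} : Set G) := by
      intro t ht
      obtain ⟨q, hq, rfl⟩ := mem_K1.1 ht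
      rw [Subgroup.mem_centralizer_singleton_iff, z_eq]
      exact comm12 hcomm hq a5_even
    have := Subgroup.card_le_of_le hle
    rw [K1, Subgroup.card_map_of_injective (k1_inj d), nat_card_alternatingGroup] at this
    simp [Nat.factorial] at this
    omega
  have hconj : ∀ (s t : G), Nat.card (Subgroup.centralizer ({s * t * s⁻¹} : Set G)) =
      Nat.card (Subgroup.centralizer ({t} : Set G)) := by
    intro s t
    have : Subgroup.centralizer ({s * t * s⁻¹} : Set G) =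
        (Subgroup.centralizer ({t} : Set G)).map (MulAut.conj s).toMonoidHom := by
      ext y
      simp only [Subgroup.mem_map_equiv, Subgroup.mem_centralizer_singleton_iff,
        MulAut.conj_symm_apply]
      constructor
      · intro h
        calc s⁻¹ * y * s * t = s⁻¹ * (y * (s * t * s⁻¹)) * s := by group
          _ = s⁻¹ * (s * t * s⁻¹ * y) * s := by rw [h]
          _ = _ := by group
      · intro h
        calc y * (s * t * s⁻¹) = s * (s⁻¹ * y * s * t) * s⁻¹ := by group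
          _ = s * (t * (s⁻¹ * y * s)) * s⁻¹ := by rw [h]
          _ = _ := by group
    rw [this, Subgroup.card_map_of_injective (MulAut.conj s).injective]
  have hinv : ∀ t : G, Subgroup.centralizer ({t⁻¹} : Set G) = Subgroup.centralizer {t} := by
    intro t
    ext y
    simp only [Subgroup.mem_centralizer_singleton_iff]
    exact (Commute.inv_right_iff (a := y) (b := t))
  have hza : Nat.card (Subgroup.centralizer ({d.φ (zP * aP)} : Set G)) = 36 := by
    rw [map_mul]; exact d.card_cent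
  have hno : ∀ t : G, Nat.card (Subgroup.centralizer ({t} : Set G)) = 36 →
      x * d.φ zP * x⁻¹ ≠ t := fun t ht he => by
    rw [← he, hconj] at ht
    omega
  have hgx : ∀ {y : G}, d.g * y ∈ d.normBase → y ∈ d.normBase := fun {y} h => by
    have := d.normBase.mul_mem (d.normBase.inv_mem (g_mem hcomm)) h
    rwa [inv_mul_cancel_left] at this
  have hlist := hcases w (hw1 _ (Or.inl rfl)).symm (hw1 _ (Or.inr rfl)).symm hw2
  simp only [List.mem_cons, List.not_mem_nil, or_false] at hlist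
  rcases hlist with rfl | rfl | rfl | rfl | rfl | rfl | rfl | rfl | rfl
  · rw [map_one, eq_comm, conj_eq_one_iff, z_eq, ← map_one (k2 d)] at hwe
    exact absurd (k2_inj d hwe) a5_ne
  · exact hr (Or.inl hwe.symm)
  · exact hr (Or.inr (by rw [← hwe, map_inv]))
  · refine hgx (hr (Or.inl ?_))
    calc d.g * x * d.φ zP * (d.g * x)⁻¹ = d.g * (x * d.φ zP * x⁻¹) * d.g⁻¹ := by group
      _ = _ := by rw [← hwe, d.g_a]
  · refine hgx (hr (Or.inr ?_))
    calc d.g * x * d.φ zP * (d.g * x)⁻¹ = d.g * (x * d.φ zP * x⁻¹) * d.g⁻¹ := by group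
      _ = (d.g * d.φ aP * d.g⁻¹)⁻¹ := by rw [← hwe, map_inv]; group
      _ = _ := by rw [d.g_a]
  · exact absurd hwe.symm (hno _ hza)
  · exact absurd hwe.symm (hno _ (by rw [map_inv, hinv, hza]))
  · exact absurd hwe.symm (hno _ (by rw [map_mul, map_mul d.φ rP, map_inv, hconj, hza]))
  · refine absurd hwe.symm (hno _ ?_)
    rw [map_inv, hinv, map_mul, map_mul d.φ rP, map_inv, hconj, hza]

theorem cent_base [Finite G] : Subgroup.centralizer (d.base : Set G) = ⊥ := by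
  rw [eq_bot_iff]
  intro x hx
  rw [Subgroup.mem_centralizer_iff] at hx
  have h1 : x ∈ K2 d := centK1 hcomm fun q hq => (hx _ (by
    rw [base_eq]; exact Subgroup.mem_sup_left (mem_K1.2 ⟨q, hq, rfl⟩))).symm
  have h2 : x ∈ K1 d := centK2 hcomm fun q hq => (hx _ (by
    rw [base_eq]; exact Subgroup.mem_sup_right (mem_K2.2 ⟨q, hq, rfl⟩))).symm
  obtain ⟨p, hp, rfl⟩ := mem_K1.1 h2
  obtain ⟨q, hq, he⟩ := mem_K2.1 h1
  rw [kk_inj hcomm hp hq he.symm, map_one]
  exact Subgroup.one_mem _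

end

end Cfsg.Agent.Lib.SymEightThree6.ExcBasicPf

namespace Cfsg.Agent.Lib.SymEightThree6

universe u

theorem excBasic : ExcBasicStmt.{u} := fun G _ _ d hE hC =>
  { base_iso :=
      ⟨(MulEquiv.subgroupCongr (ExcBasicPf.mu_range hE.2.2).symm).trans
        (MonoidHom.ofInjective (ExcBasicPf.mu_inj hE.2.2)).symm⟩
    cent_base := ExcBasicPf.cent_base hE.2.2
    index := ExcBasicPf.index_eq hE.2.2
    sq := fun _ hg => ExcBasicPf.sq_mem hE.2.2 hg
    minimal := fun _ hX hn => ExcBasicPf.minimal hE.2.2 hX hn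
    c3_le := ExcBasicPf.c3_le hE.2.2
    y_le := ExcBasicPf.y_le hE.2.2
    cv_le := ExcBasicPf.cv_le hE.2.2 hE.2.1
    centC_le := ExcBasicPf.centC_le hE.2.2 hC }

end Cfsg.Agent.Lib.SymEightThree6
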