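import Cfsg.Agent.Lib.SymEightThree6.Spec
import Mathlib.GroupTheory.SpecificGroups.Alternating
import Mathlib.GroupTheory.NoncommCoprod

/-!
In the exceptional configuration the normaliser of the product is the whole group.
-/

set_option autoImplicit false

namespace Cfsg.Agent.Lib.SymEightThree6.FinishB

open Equiv Equiv.Perm

universe u

abbrev S5 := Perm (Fin 5)
abbrev A5 := alternatingGroup (Fin 5)

theorem s5_centre : ∀ p : S5, sign p = 1 →
    p * (swap 2 3 * swap 3 4) = swap 2 3 * swap 3 4 * p →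
    p * (swap 0 1 * swap 1 2) = swap 0 1 * swap 1 2 * p → p = 1 := by decide +kernel

theorem s5_five : ∀ p : S5, p * p * p * p * p = 1 → swap 0 1 * p = p * swap 0 1 → p = 1 := by decide +kernel

theorem s5_inv : ∀ p : S5, sign p = 1 → p * p = 1 →
    p = 1 ∨ ∃ k : S5, sign k = 1 ∧ k * (swap 1 2 * swap 3 4) * k⁻¹ = p := by decide +kernel

theorem s5_odd : ∀ p : S5, sign p = 1 → swap 0 1 * p * (swap 0 1 * p) = 1 →
    ∃ k : S5, sign k = 1 ∧ k * swap 0 1 * k⁻¹ = swap 0 1 * p := by decide +kernel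

variable {G : Type u} [Group G]

/-- One factor. -/
def fA (d : Data G) : A5 →* G :=
  (d.φ.comp (MonoidHom.inr (Perm (Fin 3)) S5)).comp A5.subtype

/-- The other factor. -/
def fB (d : Data G) : A5 →* G :=
  (d.ψ.comp (MonoidHom.inr (Perm (Fin 3)) S5)).comp A5.subtype

theorem fA_apply (d : Data G) (p : A5) : fA d p = d.φ (1, (p : S5)) := rfl

theorem fB_apply (d : Data G) (p : A5) : fB d p = d.ψ (1, (p : S5)) := rfl

variable (d : Data G) (hE : d.Exc)

theorem comm_ab (hE : d.Exc) (p q : A5) : Commute (fA d p) (fB d q) :=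
  hE.2.2 _ _ (mem_alternatingGroup.mp p.2) (mem_alternatingGroup.mp q.2)

/-- The product of the two factors. -/
def prodHom (hE : d.Exc) : A5 × A5 →* G := (fA d).noncommCoprod (fB d) (comm_ab d hE)

theorem prodHom_apply (p q : A5) : prodHom d hE (p, q) = fA d p * fB d q := rfl

theorem range_prodHom : (prodHom d hE).range = d.base := by
  rw [prodHom, MonoidHom.noncommCoprod_range, fA, fB, MonoidHom.range_comp, MonoidHom.range_comp,
    Subgroup.range_subtype]
  rfl

theorem prodHom_injective : Function.Injective (prodHom d hE) := by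
  rw [injective_iff_map_eq_one]
  rintro ⟨p, q⟩ h
  rw [prodHom_apply] at h
  have hc : ∀ r : A5, Commute (fA d p) (fA d r) := fun r => by
    have e : fA d p = fB d q⁻¹ := by rw [map_inv]; exact eq_inv_of_mul_eq_one_left h
    rw [e]
    exact (comm_ab d hE r q⁻¹).symm
  have key : ∀ r : S5, sign r = 1 → (p : S5) * r = r * (p : S5) := fun r hr => by
    have := hc ⟨r, mem_alternatingGroup.mpr hr⟩
    have := d.φ_inj (((map_mul d.φ _ _).trans this.eq).trans (map_mul d.φ _ _).symm)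
    exact congrArg Prod.snd this
  have hp : p = 1 := Subtype.ext (s5_centre _ (mem_alternatingGroup.mp p.2) (key _ (by decide)) (key _ (by decide)))
  subst hp
  rw [map_one, one_mul] at h
  have hq : q = 1 := Subtype.ext (congrArg Prod.snd (d.ψ_inj (h.trans (map_one d.ψ).symm)))
  rw [hq]; rfl

/-- Conjugation of the alternating group by the transposition. -/
def cj (p : A5) : A5 :=
  ⟨swap 0 1 * (p : S5) * (swap 0 1)⁻¹, mem_alternatingGroup.mpr (by
    rw [map_mul, map_mul, mem_alternatingGroup.mp p.2, mul_one, map_inv, mul_inv_cancel])⟩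

theorem conj_fA (p : A5) : d.φ cP * fA d p * (d.φ cP)⁻¹ = fA d (cj p) := by
  rw [fA_apply, fA_apply, ← map_inv, ← map_mul, ← map_mul]
  congr 1

theorem conj_fB (p : A5) : d.φ cP * fB d p * (d.φ cP)⁻¹ = fB d (cj p) := by
  rw [fB_apply, fB_apply, ← d.ψ_c, ← map_inv, ← map_mul, ← map_mul]
  congr 1

theorem conj_prodHom (x : A5 × A5) :
    d.φ cP * prodHom d hE x * (d.φ cP)⁻¹ = prodHom d hE (cj x.1, cj x.2) := by
  obtain ⟨p, q⟩ := x
  rw [prodHom_apply, ← conj_mul, conj_fA, conj_fB]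
  rfl

theorem cP_sq : d.φ cP * d.φ cP = 1 := by
  rw [← map_mul, show cP * cP = 1 by decide +kernel, map_one]

theorem conj_g (p : A5) : d.g * fA d p * d.g⁻¹ = fB d p := rfl

theorem g_comm : d.g * d.φ cP = d.φ cP * d.g := by
  conv_rhs => rw [← d.g_c]
  group

include hE in
theorem c_not_base : d.φ cP ∉ d.base := by
  intro hm
  rw [← range_prodHom d hE] at hm
  obtain ⟨⟨p, q⟩, hpq⟩ := hm
  have h : ∀ r : A5, cj r = p * r * p⁻¹ := fun r => by
    have h1 := conj_fA d r
    rw [← hpq, prodHom_apply] at h1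
    have h2 : fA d p * fB d q * fA d r * (fA d p * fB d q)⁻¹ = fA d (p * r * p⁻¹) := by
      rw [mul_inv_rev, mul_assoc (fA d p) (fB d q), ← (comm_ab d hE r q).eq, map_mul, map_mul, map_inv]
      group
    exact (Prod.ext_iff.mp (prodHom_injective d hE (a₁ := (cj r, 1)) (a₂ := (p * r * p⁻¹, 1))
      (by rw [prodHom_apply, prodHom_apply, ← h1, h2]))).1
  have key : ∀ r : S5, sign r = 1 → (p : S5)⁻¹ * swap 0 1 * r = r * ((p : S5)⁻¹ * swap 0 1) := fun r hr => by
    have e := congrArg Subtype.val (h ⟨r, mem_alternatingGroup.mpr hr⟩)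
    simp only [cj, Subgroup.coe_mul, Subgroup.coe_inv] at e
    calc (p : S5)⁻¹ * swap 0 1 * r = (p : S5)⁻¹ * (swap 0 1 * r * (swap 0 1)⁻¹) * swap 0 1 := by group
      _ = (p : S5)⁻¹ * ((p : S5) * r * (p : S5)⁻¹) * swap 0 1 := by rw [e]
      _ = r * ((p : S5)⁻¹ * swap 0 1) := by group
  have hs : ∀ x : S5, x * (swap 2 3 * swap 3 4) = swap 2 3 * swap 3 4 * x →
      x * (swap 0 1 * swap 1 2) = swap 0 1 * swap 1 2 * x → x = 1 := by decide +kernel
  have := congrArg sign (hs _ (key _ (by decide)) (key _ (by decide)))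
  rw [map_mul, map_inv, mem_alternatingGroup.mp p.2, inv_one, one_mul, map_one, sign_swap'] at this
  exact absurd this (by decide)

include hE in
theorem fA_ne_fB {p q : A5} (h : fA d p = fB d q) : p = 1 := by
  have := prodHom_injective d hE (a₁ := (p, 1)) (a₂ := (1, q))
    (by rw [prodHom_apply, prodHom_apply, map_one, map_one, mul_one, one_mul, h])
  exact (Prod.ext_iff.mp this).1

/-- `(12)(34)`. -/
def t5 : A5 := ⟨swap 1 2 * swap 3 4, mem_alternatingGroup.mpr (by decide)⟩

theorem fA_t5 : fA d t5 = d.φ tP := rfl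

theorem fB_t5 : fB d t5 = d.ψ tP := rfl

theorem t5_ne : t5 ≠ 1 := by decide

include hE in
theorem conj_base_t (b : G) (hb : b ∈ d.base) : ∃ p : A5, b * fA d t5 * b⁻¹ = fA d p := by
  rw [← range_prodHom d hE] at hb
  obtain ⟨⟨p, q⟩, rfl⟩ := hb
  refine ⟨p * t5 * p⁻¹, ?_⟩
  rw [prodHom_apply, mul_inv_rev, mul_assoc (fA d p) (fB d q), ← (comm_ab d hE t5 q).eq, map_mul, map_mul, map_inv]
  group

include hE in
theorem g_not_coset {b : G} (hb : b ∈ d.base) {h : G} (hh : h = d.g ∨ h = d.g * d.φ cP) :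
    h * b * fA d t5 * (h * b)⁻¹ ≠ fA d t5 := by
  intro e
  obtain ⟨p, hp⟩ := conj_base_t d hE b hb
  have e' : h * fA d p * h⁻¹ = fA d t5 := by rw [← hp]; exact Eq.trans (by group) e
  rcases hh with rfl | rfl
  · rw [conj_g] at e'
    exact t5_ne (fA_ne_fB d hE e'.symm)
  · have e2 : d.g * (d.φ cP * fA d p * (d.φ cP)⁻¹) * d.g⁻¹ = fA d t5 := by rw [← e']; group
    rw [conj_fA, conj_g] at e2
    exact t5_ne (fA_ne_fB d hE e2.symm)

include hE in
theorem cosets (F : ExcFacts d) {m : G} (hm : m ∈ d.normBase) :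
    ∃ h b, b ∈ d.base ∧ m = h * b ∧ (h = 1 ∨ h = d.φ cP ∨ h = d.g ∨ h = d.g * d.φ cP) := by
  have hc : d.φ cP ∈ d.normBase := F.centC_le (Subgroup.mem_centralizer_singleton_iff.mpr rfl)
  have hg : d.g ∈ d.normBase := F.centC_le (Subgroup.mem_centralizer_singleton_iff.mpr (g_comm d))
  let B := d.base.subgroupOf d.normBase
  let r : Bool × Bool → d.normBase := fun x =>
    (if x.1 then ⟨d.g, hg⟩ else 1) * (if x.2 then ⟨d.φ cP, hc⟩ else 1)
  have hcnot := c_not_base d hE
  have hgnot : ∀ h, (h = d.g ∨ h = d.g * d.φ cP) → h ∉ d.base := fun h hh hb => by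
    obtain ⟨p, hp⟩ := conj_base_t d hE h hb
    rcases hh with rfl | rfl
    · rw [conj_g] at hp
      exact t5_ne (by
        have := prodHom_injective d hE (a₁ := (1, t5)) (a₂ := (p, 1))
          (by rw [prodHom_apply, prodHom_apply, map_one, map_one, mul_one, one_mul, hp])
        exact (Prod.ext_iff.mp this).2)
    · have e2 : d.g * (d.φ cP * fA d t5 * (d.φ cP)⁻¹) * d.g⁻¹ = fA d p := by rw [← hp]; group
      rw [conj_fA, conj_g] at e2
      have := prodHom_injective d hE (a₁ := (1, cj t5)) (a₂ := (p, 1))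
        (by rw [prodHom_apply, prodHom_apply, map_one, map_one, mul_one, one_mul, e2])
      have h2 : cj t5 = 1 := (Prod.ext_iff.mp this).2
      exact absurd h2 (by decide +kernel)
  have hinj : Function.Injective (fun x => (QuotientGroup.mk (r x) : d.normBase ⧸ B)) := by
    intro x y e
    have e' : ((r x)⁻¹ * r y : d.normBase).1 ∈ d.base := Subgroup.mem_subgroupOf.mp (QuotientGroup.eq.mp e)
    have hcc : (d.φ cP)⁻¹ = d.φ cP := inv_eq_of_mul_eq_one_right (cP_sq d)
    obtain ⟨x1, x2⟩ := x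
    obtain ⟨y1, y2⟩ := y
    have hgc := g_comm d
    cases x1 <;> cases x2 <;> cases y1 <;> cases y2 <;> first | rfl | (exfalso; simp [r] at e')
    all_goals first
      | exact hcnot e'
      | exact hcnot (inv_mem_iff.mp e')
      | exact hgnot _ (Or.inl rfl) e'
      | exact hgnot _ (Or.inl rfl) (inv_mem_iff.mp e')
      | exact hgnot _ (Or.inr rfl) e'
      | exact hgnot _ (Or.inr rfl) (inv_mem_iff.mp e')
      | exact hgnot _ (Or.inr rfl) (inv_mem_iff.mp (by rw [hgc, mul_inv_rev, hcc]; exact e'))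
      | exact hgnot _ (Or.inr rfl) (inv_mem_iff.mp (by rw [mul_inv_rev, hcc]; simpa [hcc] using e'))
      | exact hgnot _ (Or.inl rfl) (by rw [show d.g = (d.φ cP)⁻¹ * (d.g * d.φ cP) by rw [hgc]; group]; exact e')
      | exact hgnot _ (Or.inr rfl) (by rw [hgc]; nth_rw 1 [← hcc]; exact e')
      | exact hgnot _ (Or.inl rfl) (inv_mem_iff.mp (by
          rw [show d.g⁻¹ = (d.g * d.φ cP)⁻¹ * d.φ cP by rw [hgc]; group] ; simpa using e'))
      | exact hgnot _ (Or.inr rfl) (inv_mem_iff.mp (by rw [mul_inv_rev, hcc, ← hcc]; simpa [hgc] using e'))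
  have hcard : Nat.card (d.normBase ⧸ B) = 4 := F.index
  haveI : Finite (d.normBase ⧸ B) := Nat.finite_of_card_ne_zero (by rw [hcard]; norm_num)
  have hsurj := (hinj.bijective_of_nat_card_le (by rw [hcard]; simp)).2
  obtain ⟨x, hx⟩ := hsurj (QuotientGroup.mk ⟨m, hm⟩)
  have hb : ((r x)⁻¹ * ⟨m, hm⟩ : d.normBase).1 ∈ d.base := Subgroup.mem_subgroupOf.mp (QuotientGroup.eq.mp hx)
  refine ⟨(r x).1, _, hb, by simp, ?_⟩
  obtain ⟨x1, x2⟩ := x
  cases x1 <;> cases x2 <;> simp [r]

theorem conj_centralizer_le {M : Subgroup G} {s m u : G} (hs : Subgroup.centralizer ({s} : Set G) ≤ M)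
    (hm : m ∈ M) (hu : u = m * s * m⁻¹) : Subgroup.centralizer ({u} : Set G) ≤ M := by
  intro x hx
  have h := Subgroup.mem_centralizer_singleton_iff.mp hx
  have hs' : m⁻¹ * x * m ∈ M := hs (Subgroup.mem_centralizer_singleton_iff.mpr (by
    calc m⁻¹ * x * m * s = m⁻¹ * (x * u) * m := by rw [hu]; group
      _ = m⁻¹ * (u * x) * m := by rw [h]
      _ = s * (m⁻¹ * x * m) := by rw [hu]; group))
  have := M.mul_mem (M.mul_mem hm hs') (M.inv_mem hm)
  simpa [mul_assoc] using this

theorem exists_commuting [Finite G] {x y : G} (hx : x * x = 1) (hy : y * y = 1)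
    (hne : ¬ IsConj x y) : ∃ u : G, u * u = 1 ∧ u ≠ 1 ∧ u * x = x * u ∧ u * y = y * u := by
  set w := x * y with hw
  have hxi : x⁻¹ = x := inv_eq_of_mul_eq_one_right hx
  have hyi : y⁻¹ = y := inv_eq_of_mul_eq_one_right hy
  have hwy : x * w = y := by rw [hw, ← mul_assoc, hx, one_mul]
  have hconj : ∀ k : ℕ, x * w ^ k * x⁻¹ = (w ^ k)⁻¹ := fun k => by
    rw [← conj_pow, ← inv_pow, show x * w * x⁻¹ = w⁻¹ by rw [hwy, hxi, hw, mul_inv_rev, hxi, hyi]]
  rcases Nat.even_or_odd (orderOf w) with ⟨k, hk⟩ | ⟨k, hk⟩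
  · have h2 : w ^ k * w ^ k = 1 := by rw [← pow_add, ← hk, pow_orderOf_eq_one]
    have hpos := orderOf_pos w
    refine ⟨w ^ k, h2, pow_ne_one_of_lt_orderOf (by omega) (by omega), ?_, ?_⟩
    · have := hconj k
      rw [inv_eq_of_mul_eq_one_right h2, mul_inv_eq_iff_eq_mul] at this
      exact this.symm
    · have hx' := hconj k
      rw [inv_eq_of_mul_eq_one_right h2, mul_inv_eq_iff_eq_mul] at hx'
      calc w ^ k * y = w ^ k * x * w := by rw [mul_assoc, hwy]
        _ = x * w ^ k * w := by rw [hx']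
        _ = x * (w * w ^ k) := by rw [mul_assoc, ← pow_succ, pow_succ']
        _ = y * w ^ k := by rw [← mul_assoc, hwy]
  · refine absurd (isConj_iff.mpr ⟨(w ^ (k + 1))⁻¹, ?_⟩) hne
    have h1 : x * w ^ (k + 1) = (w ^ (k + 1))⁻¹ * x := mul_inv_eq_iff_eq_mul.mp (hconj (k + 1))
    calc (w ^ (k + 1))⁻¹ * x * (w ^ (k + 1))⁻¹⁻¹ = x * w ^ (k + 1) * w ^ (k + 1) := by rw [← h1, inv_inv]
      _ = x * (w ^ orderOf w * w) := by rw [mul_assoc, ← pow_add, ← pow_succ, hk]; ring_nf
      _ = y := by rw [pow_orderOf_eq_one, one_mul, hwy]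

include hE in
theorem cent_involution (F : ExcFacts d)
    (hT : Subgroup.centralizer ({d.φ tP} : Set G) ≤ d.normBase)
    (hTT : Subgroup.centralizer ({d.φ tP * d.ψ tP} : Set G) ≤ d.normBase)
    {u : G} (hu : u * u = 1) (hu1 : u ≠ 1) (hut : u * fA d t5 = fA d t5 * u) (hum : u ∈ d.normBase) :
    Subgroup.centralizer ({u} : Set G) ≤ d.normBase := by
  have hc : d.φ cP ∈ d.normBase := F.centC_le (Subgroup.mem_centralizer_singleton_iff.mpr rfl)
  have hg : d.g ∈ d.normBase := F.centC_le (Subgroup.mem_centralizer_singleton_iff.mpr (g_comm d))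
  have hB : ∀ x, prodHom d hE x ∈ d.normBase := fun x =>
    Subgroup.le_normalizer (range_prodHom d hE ▸ ⟨x, rfl⟩)
  have hT' : Subgroup.centralizer ({fB d t5} : Set G) ≤ d.normBase :=
    conj_centralizer_le hT hg (conj_g d t5).symm
  obtain ⟨h, b, hb, rfl, hh⟩ := cosets d hE F hum
  have hne : h = 1 ∨ h = d.φ cP := by
    rcases hh with hh | hh | hh | hh
    · exact Or.inl hh
    · exact Or.inr hh
    · exact absurd (by rw [hut]; group) (g_not_coset d hE hb (Or.inl hh))
    · exact absurd (by rw [hut]; group) (g_not_coset d hE hb (Or.inr hh))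
  rw [← range_prodHom d hE] at hb
  obtain ⟨⟨p, q⟩, rfl⟩ := hb
  rcases hne with rfl | rfl
  · rw [one_mul] at hu hu1 ⊢
    rw [← map_mul, ← map_one (prodHom d hE)] at hu
    obtain ⟨hp, hq⟩ := Prod.ext_iff.mp (prodHom_injective d hE hu)
    have hsplit : ∀ r : A5, r * r = 1 → r = 1 ∨ ∃ k : A5, k * t5 * k⁻¹ = r := fun r hr => by
      rcases s5_inv _ (mem_alternatingGroup.mp r.2) (congrArg Subtype.val hr) with h1 | ⟨k, hk, e⟩
      · exact Or.inl (Subtype.ext h1)
      · exact Or.inr ⟨⟨k, mem_alternatingGroup.mpr hk⟩, Subtype.ext e⟩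
    rcases hsplit p hp with rfl | ⟨k, rfl⟩
    · rcases hsplit q hq with rfl | ⟨l, rfl⟩
      · exact absurd (map_one _) hu1
      · refine conj_centralizer_le hT' (hB (1, l)) ?_
        simp only [prodHom_apply, map_one, one_mul, map_mul, map_inv]
    · rcases hsplit q hq with rfl | ⟨l, rfl⟩
      · refine conj_centralizer_le hT (hB (k, 1)) ?_
        simp only [prodHom_apply, map_one, mul_one, map_mul, map_inv, fA_t5]
      · refine conj_centralizer_le hTT (hB (k, l)) ?_
        rw [← fA_t5 d, ← fB_t5 d, ← prodHom_apply d hE t5 t5, ← map_inv, ← map_mul, ← map_mul]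
        rfl
  · have e : d.φ cP * prodHom d hE (p, q) * (d.φ cP * prodHom d hE (p, q)) =
        prodHom d hE (cj p * p, cj q * q) := by
      rw [← mul_assoc, show prodHom d hE (cj p * p, cj q * q) =
        prodHom d hE (cj p, cj q) * prodHom d hE (p, q) from map_mul (prodHom d hE) (cj p, cj q) (p, q),
        ← conj_prodHom d hE (p, q), inv_eq_of_mul_eq_one_right (cP_sq d)]
    rw [e, ← map_one (prodHom d hE)] at hu
    obtain ⟨hp, hq⟩ := Prod.ext_iff.mp (prodHom_injective d hE hu)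
    have hodd : ∀ r : A5, cj r * r = 1 → ∃ k : A5, (k : S5) * (swap 0 1 : S5) * (k : S5)⁻¹ = (swap 0 1 : S5) * (r : S5) := by
      intro r hr
      have := congrArg Subtype.val hr
      simp only [cj, Subgroup.coe_mul, Subgroup.coe_one, swap_inv] at this
      obtain ⟨k, hk, e⟩ := s5_odd _ (mem_alternatingGroup.mp r.2) (by rw [← mul_assoc]; exact this)
      exact ⟨⟨k, mem_alternatingGroup.mpr hk⟩, e⟩
    obtain ⟨k, hk⟩ := hodd p hp
    obtain ⟨l, hl⟩ := hodd q hq
    have hfix : ∀ (k r : A5), (k : S5) * (swap 0 1 : S5) * (k : S5)⁻¹ = (swap 0 1 : S5) * (r : S5) → cj k * k⁻¹ = r := by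
      intro k r e
      refine Subtype.ext ?_
      simp only [cj, Subgroup.coe_mul, Subgroup.coe_inv, swap_inv]
      calc (swap 0 1 : S5) * (k : S5) * swap 0 1 * (k : S5)⁻¹ = (swap 0 1 : S5) * ((k : S5) * swap 0 1 * (k : S5)⁻¹) := by group
        _ = (r : S5) := by rw [e, ← mul_assoc, Equiv.swap_mul_self, one_mul]
    refine conj_centralizer_le F.centC_le (hB (k, l)) ?_
    rw [← hfix k p hk, ← hfix l q hl, show ((cj k * k⁻¹, cj l * l⁻¹) : A5 × A5) =
      (cj k, cj l) * (k, l)⁻¹ from rfl, map_mul, map_inv, ← conj_prodHom d hE (k, l),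
      inv_eq_of_mul_eq_one_right (cP_sq d)]
    simp only [← mul_assoc, cP_sq, one_mul]

include hE in
theorem sq_base_of_cube (F : ExcFacts d) {y : G} (hy : y ∈ d.normBase) (h3 : y ^ 3 = 1) : y ∈ d.base := by
  have h2 := F.sq y hy
  have : y = (y ^ 2)⁻¹ := by
    rw [eq_inv_iff_mul_eq_one, ← pow_succ', h3]
  rw [this]
  exact inv_mem h2

include hE in
theorem not_conj (F : ExcFacts d) : ¬ IsConj (fA d t5) (d.φ cP) := by
  intro h
  obtain ⟨x, hx⟩ := isConj_iff.mp h
  let f5 : A5 := ⟨swap 0 1 * swap 1 2 * swap 2 3 * swap 3 4, mem_alternatingGroup.mpr (by decide)⟩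
  set f := x * fB d f5 * x⁻¹ with hf
  have hfc : f * d.φ cP = d.φ cP * f := by
    rw [hf, ← hx]
    calc x * fB d f5 * x⁻¹ * (x * fA d t5 * x⁻¹) = x * (fB d f5 * fA d t5) * x⁻¹ := by group
      _ = x * (fA d t5 * fB d f5) * x⁻¹ := by rw [(comm_ab d hE t5 f5).eq]
      _ = x * fA d t5 * x⁻¹ * (x * fB d f5 * x⁻¹) := by group
  have hf5 : f ^ 5 = 1 := by
    rw [hf, conj_pow, ← map_pow, show f5 ^ 5 = 1 by decide +kernel, map_one, mul_one, mul_inv_cancel]
  have hfm : f ∈ d.normBase := F.centC_le (Subgroup.mem_centralizer_singleton_iff.mpr hfc)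
  have hfb : f ∈ d.base := by
    have h4 := F.sq (f ^ 3) (pow_mem hfm _)
    rwa [← pow_mul, show (3 * 2 : ℕ) = 5 + 1 from rfl, pow_add, hf5, one_mul, pow_one] at h4
  rw [← range_prodHom d hE] at hfb
  obtain ⟨⟨p, q⟩, hpq⟩ := hfb
  have hcj := conj_prodHom d hE (p, q)
  rw [hpq, ← hfc, mul_inv_cancel_right] at hcj
  rw [← hpq] at hcj
  obtain ⟨h1, h2⟩ := Prod.ext_iff.mp (prodHom_injective d hE hcj)
  rw [← hpq, ← map_pow, ← map_one (prodHom d hE)] at hf5
  obtain ⟨h3, h4⟩ := Prod.ext_iff.mp (prodHom_injective d hE hf5)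
  have hkill : ∀ r : A5, r = cj r → r ^ 5 = 1 → r = 1 := fun r e e5 => by
    refine Subtype.ext (s5_five _ ?_ ?_)
    · have := congrArg Subtype.val e5
      simpa [pow_succ] using this
    · calc (swap 0 1 : S5) * (r : S5) = (cj r : S5) * swap 0 1 := by simp [cj, mul_assoc]
        _ = (r : S5) * swap 0 1 := by rw [← e]
  have hf1 : f = 1 := by
    rw [← hpq, show ((p, q) : A5 × A5) = 1 from Prod.ext (hkill p h1 h3) (hkill q h2 h4), map_one]
  have : fB d f5 = 1 := by
    rw [hf] at hf1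
    have := congrArg (fun g => x⁻¹ * g * x) hf1
    simpa [mul_assoc] using this
  have := congrArg Prod.snd (d.ψ_inj (this.trans (map_one d.ψ).symm))
  exact absurd this (by decide +kernel)

include hE in
theorem three_le (F : ExcFacts d) {N : Subgroup G} [N.Normal] (hN : N ≤ d.normBase) (hBN : d.base ≤ N)
    (f : A5 →* G) (hf : f.range ≤ d.base) (h : G) :
    f.range ≤ d.base.comap (MulAut.conj h).toMonoidHom := by
  rintro _ ⟨p, rfl⟩
  have hp : p ∈ Subgroup.closure ((A5.subtype) ⁻¹' {σ : S5 | IsThreeCycle σ}) := by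
    have : Subgroup.map A5.subtype (Subgroup.closure ((A5.subtype) ⁻¹' {σ : S5 | IsThreeCycle σ})) = A5 := by
      rw [MonoidHom.map_closure, Set.image_preimage_eq_of_subset ?_, closure_three_cycles_eq_alternating]
      intro σ hσ
      exact ⟨⟨σ, IsThreeCycle.mem_alternatingGroup hσ⟩, rfl⟩
    obtain ⟨p', hp', e⟩ := (SetLike.ext_iff.mp this (p : S5)).mpr p.2
    exact Subtype.ext e ▸ hp'
  suffices Subgroup.closure ((A5.subtype) ⁻¹' {σ : S5 | IsThreeCycle σ}) ≤
      (d.base.comap (MulAut.conj h).toMonoidHom).comap f from this hp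
  rw [Subgroup.closure_le]
  intro σ hσ
  have h3 : (σ : S5) ^ 3 = 1 := by
    have := IsThreeCycle.orderOf hσ
    rw [← this]; exact pow_orderOf_eq_one _
  show h * f σ * h⁻¹ ∈ d.base
  refine sq_base_of_cube d hE F (hN (Subgroup.Normal.conj_mem inferInstance _ (hBN (hf ⟨σ, rfl⟩)) h)) ?_
  rw [conj_pow, ← map_pow, show σ ^ 3 = 1 from Subtype.ext h3, map_one, mul_one, mul_inv_cancel]

include hE in
theorem main [Finite G] (F : ExcFacts d)
    (hT : Subgroup.centralizer ({d.φ tP} : Set G) ≤ d.normBase)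
    (hTT : Subgroup.centralizer ({d.φ tP * d.ψ tP} : Set G) ≤ d.normBase) : d.normBase = ⊤ := by
  set N := Subgroup.normalClosure ({d.φ cP} : Set G) with hN
  have hconj : ∀ x : G, x * d.φ cP * x⁻¹ ∈ d.normBase := by
    intro x
    have hy : x * d.φ cP * x⁻¹ * (x * d.φ cP * x⁻¹) = 1 := by rw [conj_mul, cP_sq, mul_one, mul_inv_cancel]
    have ht : fA d t5 * fA d t5 = 1 := by rw [← map_mul, show t5 * t5 = 1 by decide +kernel, map_one]
    obtain ⟨u, hu, hu1, hux, huy⟩ := exists_commuting ht hy (fun h => not_conj d hE F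
      (h.trans (isConj_iff.mpr ⟨x⁻¹, by group⟩)))
    exact cent_involution d hE F hT hTT hu hu1 hux (hT (Subgroup.mem_centralizer_singleton_iff.mpr hux))
      (Subgroup.mem_centralizer_singleton_iff.mpr huy.symm)
  have hNM : N ≤ d.normBase := by
    rw [hN, Subgroup.normalClosure, Subgroup.closure_le]
    intro y hy
    obtain ⟨a, rfl, ha⟩ := Group.mem_conjugatesOfSet_iff.mp hy
    obtain ⟨x, rfl⟩ := isConj_iff.mp ha
    exact hconj x
  have hcN : d.φ cP ∈ N := Subgroup.subset_normalClosure rfl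
  have hBN : d.base ≤ N := by
    refine inf_eq_right.mp ((F.minimal (N ⊓ d.base) inf_le_right ?_).resolve_left ?_)
    · intro g hg x hx
      exact ⟨Subgroup.Normal.conj_mem inferInstance _ hx.1 g, (Subgroup.mem_normalizer_iff.mp hg x).mp hx.2⟩
    · intro hbot
      have hc : d.φ cP ∈ Subgroup.centralizer (d.base : Set G) := by
        intro b hb
        have h1 : d.φ cP * b * (d.φ cP)⁻¹ * b⁻¹ ∈ d.base :=
          mul_mem ((Subgroup.mem_normalizer_iff.mp
            (F.centC_le (Subgroup.mem_centralizer_singleton_iff.mpr rfl)) b).mp hb) (inv_mem hb)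
        have h2 : d.φ cP * b * (d.φ cP)⁻¹ * b⁻¹ ∈ N := by
          rw [mul_assoc (d.φ cP) b, mul_assoc (d.φ cP)]
          exact mul_mem hcN (Subgroup.Normal.conj_mem inferInstance _ (inv_mem hcN) b)
        have : d.φ cP * b * (d.φ cP)⁻¹ * b⁻¹ ∈ N ⊓ d.base := ⟨h2, h1⟩
        rw [hbot, Subgroup.mem_bot, mul_inv_eq_one, mul_inv_eq_iff_eq_mul] at this
        exact this.symm
      rw [F.cent_base, Subgroup.mem_bot, ← map_one d.φ] at hc
      exact absurd (d.φ_inj hc) (by decide +kernel)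
  rw [eq_top_iff]
  intro h _
  have hle : ∀ h : G, d.base ≤ d.base.comap (MulAut.conj h).toMonoidHom := by
    intro h
    have hA : (fA d).range ≤ d.base := by
      rw [← range_prodHom d hE, prodHom, MonoidHom.noncommCoprod_range]; exact le_sup_left
    have hB : (fB d).range ≤ d.base := by
      rw [← range_prodHom d hE, prodHom, MonoidHom.noncommCoprod_range]; exact le_sup_right
    conv_lhs => rw [← range_prodHom d hE, prodHom, MonoidHom.noncommCoprod_range]
    exact sup_le (three_le d hE F hNM hBN _ hA h) (three_le d hE F hNM hBN _ hB h)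
  refine Subgroup.mem_normalizer_iff.mpr fun x => ⟨fun hx => hle h hx, fun hx => ?_⟩
  have := hle h⁻¹ hx
  simpa [mul_assoc] using this

theorem _root_.Cfsg.Agent.Lib.SymEightThree6.finishB : FinishBStmt.{u} :=
  fun _ _ _ d hE F hT _ hTT => main d hE F hT hTT

end Cfsg.Agent.Lib.SymEightThree6.FinishB
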