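import Cfsg.Agent.Lib.SymEightThree6.Spec

/-!
The coordinate systems for the three-local characterisation of the symmetric group of degree
eight: an element of the normaliser of the Sylow subgroup exchanges `z` with a commuting `a`.
-/

set_option autoImplicit false

namespace Cfsg.Agent.Lib.SymEightThree6.SetupProof

open Equiv Equiv.Perm

universe u

/-- The three cycle `(234)` of five points. -/
def q0 : Perm (Fin 5) := swap 2 3 * swap 3 4

theorem rP_z : rP * zP * rP⁻¹ = zP⁻¹ := by decide +kernel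

theorem rP_a : rP * aP * rP⁻¹ = aP := by decide +kernel

theorem sP_z : sP * zP * sP⁻¹ = zP := by decide +kernel

theorem sP_a : sP * aP * sP⁻¹ = aP⁻¹ := by decide +kernel

theorem rP_basic : rP * cP * rP⁻¹ = cP ∧ sP * cP * sP⁻¹ = cP ∧ rP ^ 2 = 1 := by decide +kernel

theorem zP_cube : zP ^ 3 = 1 := by decide +kernel

theorem zP_ne : zP ≠ 1 := by decide +kernel

theorem aP_cube : aP ^ 3 = 1 := by decide +kernel

theorem aP_ne : aP ≠ 1 ∧ aP ≠ zP ∧ aP ≠ zP⁻¹ := by decide +kernel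

theorem cP_basic : cP ^ 2 = 1 ∧ cP ≠ 1 ∧ cP * zP = zP * cP ∧ cP * aP = aP * cP := by
  decide +kernel

theorem two_step : ∀ q : Perm (Fin 5), q ^ 3 = 1 →
    (q0 * q * q0⁻¹ = q ∨ q0 * q * q0⁻¹ = q⁻¹) →
    (swap 1 2 * swap 3 4 * q * (swap 1 2 * swap 3 4)⁻¹ = q ∨
      swap 1 2 * swap 3 4 * q * (swap 1 2 * swap 3 4)⁻¹ = q⁻¹) →
    (swap 0 1 * swap 1 2 * q * (swap 0 1 * swap 1 2)⁻¹ = q ∨
      swap 0 1 * swap 1 2 * q * (swap 0 1 * swap 1 2)⁻¹ = q⁻¹) → q = 1 := by
  decide +kernel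

theorem first_step : ∀ p : Perm (Fin 3), p ^ 3 = 1 →
    p = 1 ∨ p = swap 0 1 * swap 1 2 ∨ p = (swap 0 1 * swap 1 2)⁻¹ := by
  decide +kernel

theorem conj_step : ∀ q : Perm (Fin 5), q ^ 3 = 1 → q ≠ 1 →
    ∃ h : Perm (Fin 5), h * q0 * h⁻¹ = q := by
  decide +kernel

theorem stab_card :
    Fintype.card {x : Perm (Fin 3) × Perm (Fin 5) //
      x.2 * q0 * x.2⁻¹ = q0 ∨ x.2 * q0 * x.2⁻¹ = q0⁻¹} = 72 := by
  decide +kernel

theorem cent_first : ∀ p : Perm (Fin 3), p * (swap 0 1 * swap 1 2) = swap 0 1 * swap 1 2 * p →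
    p ^ 3 = 1 ∧ (p ^ 2 = 1 → p = 1) := by
  decide +kernel

theorem cent_second : ∀ q : Perm (Fin 5), q * q0 = q0 * q →
    (q ^ 3 = 1 ∨ q ^ 3 = swap 0 1) ∧ (q ^ 2 = 1 → q = 1 ∨ q = swap 0 1) := by
  decide +kernel

theorem shape_step : ∀ q : Perm (Fin 5), q ^ 2 = 1 → q * q0 * q⁻¹ = q0⁻¹ →
    q * swap 0 1 * q⁻¹ = swap 0 1 → ∃ k : Perm (Fin 5), (k = 1 ∨ k = q0 ∨ k = q0⁻¹) ∧
      (k * swap 3 4 * k⁻¹ = q ∨ k * (swap 0 1 * swap 3 4) * k⁻¹ = q) := by
  decide +kernel

theorem shift_fix : ∀ k : Perm (Fin 5), (k = 1 ∨ k = q0 ∨ k = q0⁻¹) →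
    k * q0 * k⁻¹ = q0 ∧ k * swap 0 1 * k⁻¹ = swap 0 1 := by
  decide +kernel

/-- An element of order dividing two commuting with both generators. -/
theorem cent_two (l : P35) (h1 : l * zP = zP * l) (h2 : l * aP = aP * l) (h3 : l ^ 2 = 1) :
    l = 1 ∨ l = cP := by
  have hp := (cent_first l.1 (congrArg Prod.fst h1)).2 (congrArg Prod.fst h3)
  rcases (cent_second l.2 (congrArg Prod.snd h2)).2 (congrArg Prod.snd h3) with h | h
  · exact .inl (Prod.ext hp h)
  · exact .inr (Prod.ext hp h)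

/-- The cube of an element commuting with both generators. -/
theorem cent_cube (l : P35) (h1 : l * zP = zP * l) (h2 : l * aP = aP * l) :
    l ^ 3 = 1 ∨ l ^ 3 = cP := by
  have hp := (cent_first l.1 (congrArg Prod.fst h1)).1
  rcases (cent_second l.2 (congrArg Prod.snd h2)).1 with h | h
  · exact .inl (Prod.ext hp h)
  · exact .inr (Prod.ext hp h)

variable {G : Type u} [Group G]

theorem mem_zpowers_cases {x w : G} (hx : x ^ 3 = 1) (hw : w ∈ Subgroup.zpowers x) :
    w = 1 ∨ w = x ∨ w = x⁻¹ := by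
  obtain ⟨k, rfl⟩ := Subgroup.mem_zpowers_iff.1 hw
  have h3 : x ^ (3 : ℤ) = 1 := by exact_mod_cast hx
  rw [zpow_eq_zpow_emod k h3]
  have h1 := Int.emod_nonneg k (b := 3) (by norm_num)
  have h2 := Int.emod_lt_of_pos k (b := 3) (by norm_num)
  rcases (show k % 3 = 0 ∨ k % 3 = 1 ∨ k % 3 = 2 by omega) with h | h | h <;> rw [h]
  · left; exact zpow_zero x
  · right; left; exact zpow_one x
  · right; right
    apply eq_inv_of_mul_eq_one_left
    rw [show x ^ (2 : ℤ) * x = x ^ 3 by rw [zpow_two, pow_three]; group, hx]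

/-- The nine elements of a commuting pair of elements of order three. -/
theorem mem_closure_pair {z a x : G} (hc : z * a = a * z) (hz : z ^ 3 = 1) (ha : a ^ 3 = 1)
    (hx : x ∈ Subgroup.closure ({z, a} : Set G)) :
    ∃ i j : G, (i = 1 ∨ i = z ∨ i = z⁻¹) ∧ (j = 1 ∨ j = a ∨ j = a⁻¹) ∧ x = i * j := by
  have key : ∃ m n : ℤ, x = z ^ m * a ^ n := by
    induction hx using Subgroup.closure_induction with
    | mem w hw =>
      rcases hw with rfl | hw
      · exact ⟨1, 0, by simp⟩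
      · rw [Set.mem_singleton_iff] at hw
        exact ⟨0, 1, by simp [hw]⟩
    | one => exact ⟨0, 0, by simp⟩
    | mul v w _ _ hv hw =>
      obtain ⟨m, n, rfl⟩ := hv
      obtain ⟨m', n', rfl⟩ := hw
      refine ⟨m + m', n + n', ?_⟩
      rw [zpow_add, zpow_add]
      exact (show Commute a z from hc.symm).zpow_zpow n m' |>.mul_mul_mul_comm (z ^ m) (a ^ n')
    | inv v _ hv =>
      obtain ⟨m, n, rfl⟩ := hv
      refine ⟨-m, -n, ?_⟩
      rw [mul_inv_rev, zpow_neg, zpow_neg]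
      exact ((show Commute a z from hc.symm).zpow_zpow n m).inv_inv.eq
  obtain ⟨m, n, rfl⟩ := key
  exact ⟨z ^ m, a ^ n, mem_zpowers_cases hz ⟨m, rfl⟩, mem_zpowers_cases ha ⟨n, rfl⟩, rfl⟩

theorem cent_inv (x : G) :
    Subgroup.centralizer ({x⁻¹} : Set G) = Subgroup.centralizer ({x} : Set G) := by
  ext w
  simp only [Subgroup.mem_centralizer_singleton_iff]
  constructor
  · intro h; have := (Commute.inv_right_iff (a := w) (b := x)).1 h; exact this
  · intro h; exact (Commute.inv_right_iff (a := w) (b := x)).2 h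

theorem cent_conj (g x : G) :
    Nat.card (Subgroup.centralizer ({g * x * g⁻¹} : Set G)) =
      Nat.card (Subgroup.centralizer ({x} : Set G)) := by
  have h : Subgroup.centralizer ({g * x * g⁻¹} : Set G) =
      (Subgroup.centralizer ({x} : Set G)).map (MulAut.conj g).toMonoidHom := by
    ext w
    rw [Subgroup.mem_map_equiv, MulAut.conj_symm_apply]
    simp only [Subgroup.mem_centralizer_singleton_iff]
    constructor
    · intro h
      calc g⁻¹ * w * g * x = g⁻¹ * (w * (g * x * g⁻¹)) * g := by group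
        _ = g⁻¹ * ((g * x * g⁻¹) * w) * g := by rw [h]
        _ = x * (g⁻¹ * w * g) := by group
    · intro h
      calc w * (g * x * g⁻¹) = g * (g⁻¹ * w * g * x) * g⁻¹ := by group
        _ = g * (x * (g⁻¹ * w * g)) * g⁻¹ := by rw [h]
        _ = g * x * g⁻¹ * w := by group
  rw [h]
  exact (Nat.card_congr ((Subgroup.centralizer ({x} : Set G)).equivMapOfInjective _
    (MulAut.conj g).injective).toEquiv).symm

theorem cent_of_sign {x x' : G} (h : x' = x ∨ x' = x⁻¹) :
    Subgroup.centralizer ({x'} : Set G) = Subgroup.centralizer ({x} : Set G) := by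
  rcases h with rfl | rfl
  · rfl
  · exact cent_inv x

theorem zpowers_of_sign {x x' : G} (h : x' = x ∨ x' = x⁻¹) :
    Subgroup.zpowers x' = Subgroup.zpowers x := by
  rcases h with rfl | rfl
  · rfl
  · exact Subgroup.zpowers_inv

theorem comp_conj_range (f : P35 →* G) (h : P35) :
    (f.comp (MulAut.conj h).toMonoidHom).range = f.range := by
  rw [MonoidHom.range_comp, MonoidHom.range_eq_top.2 (MulAut.conj h).surjective,
    ← MonoidHom.range_eq_map]

theorem mem_normalizer_of_conj_mem [Finite G] {S : Subgroup G} {x : G}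
    (h : ∀ w ∈ S, x * w * x⁻¹ ∈ S) : x ∈ Subgroup.normalizer (S : Set G) := by
  have hmap : S.map (MulAut.conj x).toMonoidHom = S := by
    apply Subgroup.eq_of_le_of_card_ge
    · rintro _ ⟨v, hv, rfl⟩; exact h v hv
    · exact le_of_eq (Nat.card_congr
        (S.equivMapOfInjective _ (MulAut.conj x).injective).toEquiv)
  rw [Subgroup.mem_normalizer_iff]
  intro w
  refine ⟨h w, fun hw => ?_⟩
  rw [← hmap] at hw
  obtain ⟨v, hv, he⟩ := hw
  have e2 : x * v * x⁻¹ = x * w * x⁻¹ := he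
  rw [mul_left_inj, mul_right_inj] at e2
  rwa [← e2]

theorem mem_normalizer_zpowers [Finite G] {x w : G} (hw : x * w * x⁻¹ ∈ Subgroup.zpowers w) :
    x ∈ Subgroup.normalizer (Subgroup.zpowers w : Set G) := by
  apply mem_normalizer_of_conj_mem
  intro v hv
  obtain ⟨k, rfl⟩ := Subgroup.mem_zpowers_iff.1 hv
  rw [← conj_zpow]
  exact zpow_mem hw k

theorem setup : SetupStmt.{u} := by
  classical
  intro G _ _ P D hDP y z hgen hcomm hcard hexp _hC hN hy hysq hzC hzN
  obtain ⟨eN⟩ := hN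
  obtain ⟨eC⟩ := hzC
  obtain ⟨eL⟩ := hzN
  have hcD : ∀ a ∈ D, ∀ b ∈ D, a * b = b * a := by
    intro a ha b hb
    exact congrArg Subtype.val (hcomm.is_comm.comm (⟨a, ha⟩ : D) ⟨b, hb⟩)
  have hyD : y ∈ D := hgen ▸ Subgroup.subset_closure (by simp)
  have hzD : z ∈ D := hgen ▸ Subgroup.subset_closure (by simp)
  have h360 : Nat.card (Subgroup.centralizer ({z} : Set G)) = 360 := by
    rw [Nat.card_congr eC.toEquiv, Nat.card_prod, Nat.card_congr Multiplicative.toAdd,
      Nat.card_zmod, Nat.card_perm, Nat.card_fin]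
    decide
  have hz1 : z ≠ 1 := by
    intro h
    have hle : D ≤ Subgroup.zpowers y := by
      rw [← hgen, Subgroup.closure_le]
      intro w hw
      rcases hw with rfl | hw
      · exact Subgroup.mem_zpowers _
      · rw [Set.mem_singleton_iff] at hw
        rw [hw, h]; exact one_mem _
    have h1 := Subgroup.card_le_of_le hle
    rw [hcard, Nat.card_zpowers] at h1
    have h2 : orderOf y ≤ 3 := orderOf_le_of_pow_eq_one (by norm_num) (hexp y hyD)
    omega
  -- the coordinate system at `z`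
  let f : P35 →* G :=
    (Subgroup.normalizer (Subgroup.zpowers z : Set G)).subtype.comp eL.symm.toMonoidHom
  have hf : Function.Injective f := (Subgroup.subtype_injective _).comp eL.symm.injective
  have hfr : f.range = Subgroup.normalizer (Subgroup.zpowers z : Set G) := by
    rw [MonoidHom.range_comp, MonoidHom.range_eq_top.2 eL.symm.surjective,
      ← MonoidHom.range_eq_map, Subgroup.range_subtype]
  have hzmem : z ∈ f.range := by
    rw [hfr]; exact Subgroup.le_normalizer (Subgroup.mem_zpowers z)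
  obtain ⟨x, hx⟩ := hzmem
  have hx3 : x ^ 3 = 1 := hf (by rw [map_pow, hx, map_one, hexp z hzD])
  have hx1 : x ≠ 1 := fun h => hz1 (by rw [← hx, h, map_one])
  have hxn : ∀ l : P35, l * x * l⁻¹ = x ∨ l * x * l⁻¹ = x⁻¹ := by
    intro l
    have hl : f l ∈ Subgroup.normalizer (Subgroup.zpowers z : Set G) := hfr ▸ ⟨l, rfl⟩
    have h := (Subgroup.mem_normalizer_iff.1 hl z).1 (Subgroup.mem_zpowers z)
    rcases mem_zpowers_cases (hexp z hzD) h with h1 | h1 | h1
    · exact absurd (conj_eq_one_iff.1 h1) hz1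
    · left; exact hf (by rw [map_mul, map_mul, map_inv, hx, h1])
    · right; exact hf (by rw [map_mul, map_mul, map_inv, map_inv, hx, h1])
  have hxz : zP = x ∨ zP = x⁻¹ := by
    obtain ⟨p, q⟩ := x
    have p3 : p ^ 3 = 1 := congrArg Prod.fst hx3
    have q3 : q ^ 3 = 1 := congrArg Prod.snd hx3
    have key : ∀ l : P35, l.2 * q * l.2⁻¹ = q ∨ l.2 * q * l.2⁻¹ = q⁻¹ := fun l =>
      (hxn l).imp (fun h => congrArg Prod.snd h) (fun h => congrArg Prod.snd h)
    have q1 : q = 1 := two_step q q3 (key aP) (key tP) (key (1, swap 0 1 * swap 1 2))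
    subst q1
    rcases first_step p p3 with rfl | rfl | rfl
    · exact absurd rfl hx1
    · left; rfl
    · right; exact Prod.ext (inv_inv _).symm inv_one.symm
  have hfz : f zP = z ∨ f zP = z⁻¹ := by
    rcases hxz with h | h
    · left; rw [h, hx]
    · right; rw [h, map_inv, hx]
  have hDf : D ≤ f.range := by
    intro d hd
    rw [hfr]
    have hc : d ∈ Subgroup.centralizer ((Subgroup.zpowers z : Subgroup G) : Set G) := by
      intro w hw
      obtain ⟨k, rfl⟩ := Subgroup.mem_zpowers_iff.1 hw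
      exact ((show Commute z d from hcD z hzD d hd).zpow_left k).eq
    exact Subgroup.centralizer_le_normalizer _ hc
  have hfzD : f zP ∈ D := by rcases hfz with h | h <;> rw [h] <;> [exact hzD; exact inv_mem hzD]
  -- an element of `D` outside the line of `z`, moved to `(234)`
  obtain ⟨x', hx'⟩ := hDf hyD
  have h3 : x' ^ 3 = 1 := hf (by rw [map_pow, hx', map_one, hexp y hyD])
  have hp3 : x'.1 ^ 3 = 1 := congrArg Prod.fst h3
  have hq1 : x'.2 ≠ 1 := by
    intro h
    have hyz : y ∈ Subgroup.zpowers z := by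
      rw [← zpowers_of_sign hfz, ← hx']
      rcases first_step _ hp3 with h' | h' | h'
      · rw [show x' = 1 from Prod.ext h' h, map_one]; exact one_mem _
      · rw [show x' = zP from Prod.ext h' h]; exact Subgroup.mem_zpowers _
      · rw [show x' = zP⁻¹ from Prod.ext h' (h.trans inv_one.symm), map_inv]
        exact inv_mem (Subgroup.mem_zpowers _)
    have hle : D ≤ Subgroup.zpowers z := by
      rw [← hgen, Subgroup.closure_le]
      intro w hw
      rcases hw with rfl | hw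
      · exact hyz
      · rw [Set.mem_singleton_iff] at hw
        rw [hw]; exact Subgroup.mem_zpowers _
    have h1 := Subgroup.card_le_of_le hle
    rw [hcard, Nat.card_zpowers] at h1
    have h2 : orderOf z ≤ 3 := orderOf_le_of_pow_eq_one (by norm_num) (hexp z hzD)
    omega
  obtain ⟨h, hhq⟩ := conj_step _ (congrArg Prod.snd h3) hq1
  let φ : P35 →* G := f.comp (MulAut.conj ((1, h) : P35)).toMonoidHom
  have hφ : Function.Injective φ := hf.comp (MulAut.conj _).injective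
  have hφz : φ zP = f zP := by
    show f (((1, h) : P35) * zP * ((1, h) : P35)⁻¹) = f zP
    exact congrArg f (Prod.ext (by simp) (by simp [zP]))
  have hφr : φ.range = Subgroup.normalizer (Subgroup.zpowers (φ zP) : Set G) := by
    rw [comp_conj_range, hfr, hφz, zpowers_of_sign hfz]
  have hφzD : φ zP ∈ D := hφz ▸ hfzD
  have hφaD : φ aP ∈ D := by
    have e : ((1, h) : P35) * aP * ((1, h) : P35)⁻¹ = (1, x'.2) :=
      Prod.ext (by simp [aP]) hhq
    show f (((1, h) : P35) * aP * ((1, h) : P35)⁻¹) ∈ D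
    rw [e]
    rcases first_step _ hp3 with h' | h' | h'
    · rw [show ((1, x'.2) : P35) = x' from Prod.ext h'.symm rfl, hx']
      exact hyD
    · rw [show ((1, x'.2) : P35) = zP⁻¹ * x' from
        Prod.ext (by show (1 : Perm (Fin 3)) = zP.1⁻¹ * x'.1; rw [h']; exact (inv_mul_cancel _).symm)
          (by simp [zP]), map_mul, map_inv, hx']
      exact mul_mem (inv_mem hfzD) hyD
    · rw [show ((1, x'.2) : P35) = zP * x' from
        Prod.ext (by show (1 : Perm (Fin 3)) = zP.1 * x'.1; rw [h']; exact (mul_inv_cancel _).symm)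
          (by simp [zP]), map_mul, hx']
      exact mul_mem hfzD hyD
  have zz3 : φ zP ^ 3 = 1 := by rw [← map_pow, zP_cube, map_one]
  have aa3 : φ aP ^ 3 = 1 := by rw [← map_pow, aP_cube, map_one]
  have hza : φ zP * φ aP = φ aP * φ zP := hcD _ hφzD _ hφaD
  have haz : φ aP ∉ Subgroup.zpowers (φ zP) := by
    intro hm
    rcases mem_zpowers_cases zz3 hm with hm | hm | hm
    · exact aP_ne.1 (hφ (hm.trans (map_one φ).symm))
    · exact aP_ne.2.1 (hφ hm)
    · exact aP_ne.2.2 (hφ (hm.trans (map_inv φ zP).symm))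
  have hDgen : D = Subgroup.closure ({φ zP, φ aP} : Set G) := by
    have hle : Subgroup.closure ({φ zP, φ aP} : Set G) ≤ D := by
      rw [Subgroup.closure_le]
      rintro w (rfl | rfl) <;> assumption
    symm
    apply Subgroup.eq_of_le_of_card_ge hle
    rw [hcard]
    have hzp : Subgroup.zpowers (φ zP) ≤ Subgroup.closure ({φ zP, φ aP} : Set G) := by
      rw [Subgroup.zpowers_le]; exact Subgroup.subset_closure (by simp)
    have h3 : Nat.card (Subgroup.zpowers (φ zP)) = 3 := by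
      rw [Nat.card_zpowers]
      haveI : Fact (Nat.Prime 3) := ⟨Nat.prime_three⟩
      exact orderOf_eq_prime zz3 (fun e => zP_ne (hφ (e.trans (map_one φ).symm)))
    have d1 := Subgroup.card_dvd_of_le hzp
    have d2 := Subgroup.card_dvd_of_le hle
    rw [hcard] at d2
    rw [h3] at d1
    by_contra hlt
    push Not at hlt
    have he : Nat.card (Subgroup.closure ({φ zP, φ aP} : Set G)) = 3 := by
      generalize Nat.card (Subgroup.closure ({φ zP, φ aP} : Set G)) = n at d1 d2 hlt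
      interval_cases n <;> omega
    have := Subgroup.eq_of_le_of_card_ge hzp (by rw [he, h3])
    exact haz (this ▸ Subgroup.subset_closure (by simp))
  -- the stabiliser of the line of `z` in the normaliser of `D`
  set N := Subgroup.normalizer (D : Set G) with hNdef
  have hN144 : Nat.card N = 144 := by
    rw [Subgroup.card_eq_card_quotient_mul_card_subgroup (D.subgroupOf N),
      Nat.card_congr eN.toEquiv, Nat.card_prod, DihedralGroup.nat_card,
      Nat.card_congr Multiplicative.toAdd, Nat.card_zmod,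
      Nat.card_congr (Subgroup.subgroupOfEquivOfLe Subgroup.le_normalizer).toEquiv, hcard]
  have hmemN : ∀ l : P35, φ l ∈ N ↔
      (l.2 * q0 * l.2⁻¹ = q0 ∨ l.2 * q0 * l.2⁻¹ = q0⁻¹) := by
    intro l
    constructor
    · intro hl
      have hm : φ (l * aP * l⁻¹) ∈ D := by
        rw [map_mul, map_mul, map_inv]
        exact (Subgroup.mem_normalizer_iff.1 hl _).1 hφaD
      rw [hDgen] at hm
      obtain ⟨i, j, hi, hj, he⟩ := mem_closure_pair hza zz3 aa3 hm
      obtain ⟨i', rfl, hi'⟩ : ∃ i', i = φ i' ∧ i'.2 = 1 := by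
        rcases hi with rfl | rfl | rfl
        · exact ⟨1, (map_one φ).symm, rfl⟩
        · exact ⟨zP, rfl, rfl⟩
        · exact ⟨zP⁻¹, (map_inv φ zP).symm, inv_one⟩
      obtain ⟨j', rfl, hj'⟩ : ∃ j', j = φ j' ∧ (j'.2 = 1 ∨ j'.2 = q0 ∨ j'.2 = q0⁻¹) := by
        rcases hj with rfl | rfl | rfl
        · exact ⟨1, (map_one φ).symm, .inl rfl⟩
        · exact ⟨aP, rfl, .inr (.inl rfl)⟩
        · exact ⟨aP⁻¹, (map_inv φ aP).symm, .inr (.inr rfl)⟩
      rw [← map_mul] at he
      have h2 : l.2 * q0 * l.2⁻¹ = i'.2 * j'.2 := congrArg Prod.snd (hφ he)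
      rw [hi', one_mul] at h2
      rcases hj' with h' | h' | h'
      · rw [h', conj_eq_one_iff] at h2
        exact absurd h2 (by decide +kernel)
      · exact .inl (h2.trans h')
      · exact .inr (h2.trans h')
    · intro hl
      refine mem_normalizer_of_conj_mem fun w hw => ?_
      rw [hDgen] at hw
      induction hw using Subgroup.closure_induction with
      | mem w hw =>
        rcases hw with rfl | hw
        · have hn : φ l ∈ Subgroup.normalizer (Subgroup.zpowers (φ zP) : Set G) :=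
            hφr ▸ ⟨l, rfl⟩
          exact Subgroup.zpowers_le.2 hφzD
            ((Subgroup.mem_normalizer_iff.1 hn _).1 (Subgroup.mem_zpowers _))
        · rw [Set.mem_singleton_iff] at hw
          subst hw
          rw [← map_inv, ← map_mul, ← map_mul]
          rcases hl with h | h
          · rw [show l * aP * l⁻¹ = aP from Prod.ext (by simp [aP]) h]
            exact hφaD
          · rw [show l * aP * l⁻¹ = aP⁻¹ from Prod.ext (by simp [aP]) h, map_inv]
            exact inv_mem hφaD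
      | one => simp
      | mul v w _ _ hv hw =>
        rw [show φ l * (v * w) * (φ l)⁻¹ = φ l * v * (φ l)⁻¹ * (φ l * w * (φ l)⁻¹) by group]
        exact mul_mem hv hw
      | inv v _ hv =>
        rw [show φ l * v⁻¹ * (φ l)⁻¹ = (φ l * v * (φ l)⁻¹)⁻¹ by group]
        exact inv_mem hv
  set K := N ⊓ φ.range with hKdef
  have hK72 : Nat.card K = 72 := by
    have hK : K = (N.comap φ).map φ := by
      rw [hKdef, Subgroup.map_comap_eq, inf_comm]
    rw [hK, ← Nat.card_congr ((N.comap φ).equivMapOfInjective φ hφ).toEquiv, ← stab_card,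
      ← Nat.card_eq_fintype_card]
    apply Nat.card_congr
    exact
      { toFun := fun l => ⟨l.1, (hmemN l.1).1 l.2⟩
        invFun := fun w => ⟨w.1, (hmemN _).2 w.2⟩
        left_inv := fun l => rfl
        right_inv := fun w => rfl }
  have hidx : (K.subgroupOf N).index = 2 := by
    have h1 := Subgroup.card_mul_index (K.subgroupOf N)
    rw [Nat.card_congr (Subgroup.subgroupOfEquivOfLe (inf_le_left : K ≤ N)).toEquiv, hK72,
      hN144] at h1
    omega
  obtain ⟨⟨g, hgN⟩, hgK⟩ : ∃ g : N, g ∉ K.subgroupOf N := by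
    by_contra hcon
    push Not at hcon
    rw [(Subgroup.eq_top_iff' _).2 hcon, Subgroup.index_top] at hidx
    omega
  have hgz : g ∉ Subgroup.normalizer (Subgroup.zpowers (φ zP) : Set G) := fun h =>
    hgK ⟨hgN, hφr ▸ h⟩
  have hconj : ∀ w ∈ D, g * w * g⁻¹ ∈ D := fun w hw =>
    (Subgroup.mem_normalizer_iff.1 hgN w).1 hw
  have hs_z : φ rP * φ zP * (φ rP)⁻¹ = (φ zP)⁻¹ := by
    rw [← map_inv φ rP, ← map_mul, ← map_mul, rP_z, map_inv]
  have hs_a : φ rP * φ aP * (φ rP)⁻¹ = φ aP := by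
    rw [← map_inv φ rP, ← map_mul, ← map_mul, rP_a]
  have ht_z : φ sP * φ zP * (φ sP)⁻¹ = φ zP := by
    rw [← map_inv φ sP, ← map_mul, ← map_mul, sP_z]
  have ht_a : φ sP * φ aP * (φ sP)⁻¹ = (φ aP)⁻¹ := by
    rw [← map_inv φ sP, ← map_mul, ← map_mul, sP_a, map_inv]
  have hsK : φ rP ∈ N := (hmemN rP).2 (.inl (by decide +kernel))
  have hwa : g * φ zP * g⁻¹ = φ aP ∨ g * φ zP * g⁻¹ = (φ aP)⁻¹ := by
    have hwD : g * φ zP * g⁻¹ ∈ D := hconj _ hφzD
    rw [hDgen] at hwD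
    obtain ⟨i, j, hi, hj, he⟩ := mem_closure_pair hza zz3 aa3 hwD
    by_cases hi1 : i = 1
    · subst hi1
      rw [one_mul] at he
      rcases hj with rfl | rfl | rfl
      · exact absurd (conj_eq_one_iff.1 he) (fun e => zP_ne (hφ (e.trans (map_one φ).symm)))
      · exact .inl he
      · exact .inr he
    by_cases hj1 : j = 1
    · subst hj1
      rw [mul_one] at he
      exfalso
      rcases hi with rfl | rfl | rfl
      · exact hi1 rfl
      · exact hgz (mem_normalizer_zpowers (by rw [he]; exact Subgroup.mem_zpowers _))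
      · exact hgz (mem_normalizer_zpowers (by rw [he]; exact inv_mem (Subgroup.mem_zpowers _)))
    exfalso
    -- conjugation by `g⁻¹ s g` fixes the line of `z`, so `s` fixes a diagonal line
    have hm : (⟨g, hgN⟩ : N)⁻¹ * ⟨φ rP, hsK⟩ * ⟨g, hgN⟩ ∈ K.subgroupOf N := by
      rw [Subgroup.mul_mem_iff_of_index_two hidx, Subgroup.mul_mem_iff_of_index_two hidx,
        inv_mem_iff]
      have : (⟨φ rP, hsK⟩ : N) ∈ K.subgroupOf N := ⟨hsK, rP, rfl⟩
      tauto
    have hn : g⁻¹ * φ rP * g ∈ Subgroup.normalizer (Subgroup.zpowers (φ zP) : Set G) :=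
      hφr ▸ hm.2
    have hpow := (Subgroup.mem_normalizer_iff.1 hn (φ zP)).1 (Subgroup.mem_zpowers _)
    have hsw : φ rP * (i * j) * (φ rP)⁻¹ = i⁻¹ * j := by
      have e1 : φ rP * i * (φ rP)⁻¹ = i⁻¹ := by
        rcases hi with rfl | rfl | rfl
        · exact absurd rfl hi1
        · exact hs_z
        · rw [show φ rP * (φ zP)⁻¹ * (φ rP)⁻¹ = (φ rP * φ zP * (φ rP)⁻¹)⁻¹ by group, hs_z]
      have e2 : φ rP * j * (φ rP)⁻¹ = j := by
        rcases hj with rfl | rfl | rfl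
        · exact absurd rfl hj1
        · exact hs_a
        · rw [show φ rP * (φ aP)⁻¹ * (φ rP)⁻¹ = (φ rP * φ aP * (φ rP)⁻¹)⁻¹ by group, hs_a]
      rw [show φ rP * (i * j) * (φ rP)⁻¹ = φ rP * i * (φ rP)⁻¹ * (φ rP * j * (φ rP)⁻¹) by
        group, e1, e2]
    have hi' : ∃ i', i = φ i' ∧ (i' = zP ∨ i' = zP⁻¹) := by
      rcases hi with rfl | rfl | rfl
      · exact absurd rfl hi1
      · exact ⟨zP, rfl, .inl rfl⟩
      · exact ⟨zP⁻¹, (map_inv φ zP).symm, .inr rfl⟩
    have hj' : ∃ j', j = φ j' ∧ (j' = aP ∨ j' = aP⁻¹) := by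
      rcases hj with rfl | rfl | rfl
      · exact absurd rfl hj1
      · exact ⟨aP, rfl, .inl rfl⟩
      · exact ⟨aP⁻¹, (map_inv φ aP).symm, .inr rfl⟩
    obtain ⟨i', rfl, hi2⟩ := hi'
    obtain ⟨j', rfl, hj2⟩ := hj'
    rcases mem_zpowers_cases zz3 hpow with h1 | h1 | h1
    · exact zP_ne (hφ ((conj_eq_one_iff.1 h1).trans (map_one φ).symm))
    · have e : φ rP * (φ i' * φ j') * (φ rP)⁻¹ = φ i' * φ j' := by
        rw [← he]
        calc φ rP * (g * φ zP * g⁻¹) * (φ rP)⁻¹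
            = g * (g⁻¹ * φ rP * g * φ zP * (g⁻¹ * φ rP * g)⁻¹) * g⁻¹ := by group
          _ = g * φ zP * g⁻¹ := by rw [h1]
      rw [hsw, ← map_inv, ← map_mul, ← map_mul] at e
      have e' := hφ e
      rcases hi2 with rfl | rfl <;> rcases hj2 with rfl | rfl <;> revert e' <;> decide +kernel
    · have e : φ rP * (φ i' * φ j') * (φ rP)⁻¹ = (φ i' * φ j')⁻¹ := by
        rw [← he]
        calc φ rP * (g * φ zP * g⁻¹) * (φ rP)⁻¹
            = g * (g⁻¹ * φ rP * g * φ zP * (g⁻¹ * φ rP * g)⁻¹) * g⁻¹ := by group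
          _ = (g * φ zP * g⁻¹)⁻¹ := by rw [h1]; group
      rw [hsw, ← map_inv, ← map_mul, ← map_mul, ← map_inv] at e
      have e' := hφ e
      rcases hi2 with rfl | rfl <;> rcases hj2 with rfl | rfl <;> revert e' <;> decide +kernel
  -- `g` interchanges the two lines
  have hga : g * φ aP * g⁻¹ = φ zP ∨ g * φ aP * g⁻¹ = (φ zP)⁻¹ := by
    have hg2 : g * g ∈ Subgroup.normalizer (Subgroup.zpowers (φ zP) : Set G) :=
      hφr ▸ (Subgroup.mul_self_mem_of_index_two hidx (⟨g, hgN⟩ : N)).2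
    have hm := (Subgroup.mem_normalizer_iff.1 hg2 (φ zP)).1 (Subgroup.mem_zpowers _)
    have hc := mem_zpowers_cases zz3 hm
    have e : g * g * φ zP * (g * g)⁻¹ = g * (g * φ zP * g⁻¹) * g⁻¹ := by group
    rw [e] at hc
    rcases hwa with h | h <;> rw [h] at hc
    · rcases hc with h1 | h1 | h1
      · exact absurd (hφ ((conj_eq_one_iff.1 h1).trans (map_one φ).symm)) aP_ne.1
      · exact .inl h1
      · exact .inr h1
    · have e2 : g * (φ aP)⁻¹ * g⁻¹ = (g * φ aP * g⁻¹)⁻¹ := by group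
      rw [e2, inv_eq_one, inv_eq_iff_eq_inv, inv_inj] at hc
      rcases hc with h1 | h1 | h1
      · exact absurd (hφ ((conj_eq_one_iff.1 h1).trans (map_one φ).symm)) aP_ne.1
      · exact .inr h1
      · exact .inl h1
  -- adjust signs, then take the cube
  have hsN : φ sP ∈ N := (hmemN sP).2 (.inr (by decide +kernel))
  obtain ⟨g1, g1N, g1z, g1a⟩ : ∃ g1, g1 ∈ N ∧ g1 * φ zP * g1⁻¹ = φ aP ∧
      g1 * φ aP * g1⁻¹ = φ zP := by
    rcases hwa with hw | hw <;> rcases hga with ha | ha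
    · exact ⟨g, hgN, hw, ha⟩
    · refine ⟨φ rP * g, mul_mem hsK hgN, ?_, ?_⟩
      · rw [show φ rP * g * φ zP * (φ rP * g)⁻¹ = φ rP * (g * φ zP * g⁻¹) * (φ rP)⁻¹ by group,
          hw, hs_a]
      · rw [show φ rP * g * φ aP * (φ rP * g)⁻¹ = φ rP * (g * φ aP * g⁻¹) * (φ rP)⁻¹ by group,
          ha, ← conj_inv, hs_z, inv_inv]
    · refine ⟨φ sP * g, mul_mem hsN hgN, ?_, ?_⟩
      · rw [show φ sP * g * φ zP * (φ sP * g)⁻¹ = φ sP * (g * φ zP * g⁻¹) * (φ sP)⁻¹ by group,
          hw, ← conj_inv, ht_a, inv_inv]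
      · rw [show φ sP * g * φ aP * (φ sP * g)⁻¹ = φ sP * (g * φ aP * g⁻¹) * (φ sP)⁻¹ by group,
          ha, ht_z]
    · refine ⟨φ sP * φ rP * g, mul_mem (mul_mem hsN hsK) hgN, ?_, ?_⟩
      · rw [show φ sP * φ rP * g * φ zP * (φ sP * φ rP * g)⁻¹ =
          φ sP * (φ rP * (g * φ zP * g⁻¹) * (φ rP)⁻¹) * (φ sP)⁻¹ by group, hw,
          ← conj_inv (b := φ rP), hs_a, ← conj_inv, ht_a, inv_inv]
      · rw [show φ sP * φ rP * g * φ aP * (φ sP * φ rP * g)⁻¹ =
          φ sP * (φ rP * (g * φ aP * g⁻¹) * (φ rP)⁻¹) * (φ sP)⁻¹ by group, ha,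
          ← conj_inv (b := φ rP), hs_z, inv_inv, ht_z]
  have g1z' : g1⁻¹ * φ aP * g1 = φ zP := by rw [← g1z]; group
  have g1a' : g1⁻¹ * φ zP * g1 = φ aP := by rw [← g1a]; group
  have sqz : g1 * g1 * φ zP = φ zP * (g1 * g1) := by
    have e : g1 * g1 * φ zP * (g1 * g1)⁻¹ = φ zP := by
      rw [show g1 * g1 * φ zP * (g1 * g1)⁻¹ = g1 * (g1 * φ zP * g1⁻¹) * g1⁻¹ by group, g1z, g1a]
    exact mul_inv_eq_iff_eq_mul.1 e
  have sqa : g1 * g1 * φ aP = φ aP * (g1 * g1) := by
    have e : g1 * g1 * φ aP * (g1 * g1)⁻¹ = φ aP := by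
      rw [show g1 * g1 * φ aP * (g1 * g1)⁻¹ = g1 * (g1 * φ aP * g1⁻¹) * g1⁻¹ by group, g1a, g1z]
    exact mul_inv_eq_iff_eq_mul.1 e
  obtain ⟨l, hl⟩ : g1 * g1 ∈ φ.range := by
    rw [hφr]
    exact mem_normalizer_zpowers (by
      rw [sqz, mul_inv_cancel_right]; exact Subgroup.mem_zpowers _)
  have hl3 : φ (l ^ 3) = 1 ∨ φ (l ^ 3) = φ cP := by
    rcases cent_cube l (hφ (by rw [map_mul, map_mul, hl, sqz]))
      (hφ (by rw [map_mul, map_mul, hl, sqa])) with h | h <;> rw [h]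
    · exact .inl (map_one φ)
    · exact .inr rfl
  let g2 : G := g1 * g1 * g1
  have g2z : g2 * φ zP * g2⁻¹ = φ aP := by
    show g1 * g1 * g1 * φ zP * (g1 * g1 * g1)⁻¹ = φ aP
    rw [show g1 * g1 * g1 * φ zP * (g1 * g1 * g1)⁻¹ =
      g1 * (g1 * (g1 * φ zP * g1⁻¹) * g1⁻¹) * g1⁻¹ by group, g1z, g1a, g1z]
  have g2a : g2 * φ aP * g2⁻¹ = φ zP := by
    show g1 * g1 * g1 * φ aP * (g1 * g1 * g1)⁻¹ = φ zP
    rw [show g1 * g1 * g1 * φ aP * (g1 * g1 * g1)⁻¹ =
      g1 * (g1 * (g1 * φ aP * g1⁻¹) * g1⁻¹) * g1⁻¹ by group, g1a, g1z, g1a]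
  have g2sq : g2 * g2 = 1 ∨ g2 * g2 = φ cP := by
    have e : g2 * g2 = φ (l ^ 3) := by
      rw [map_pow, hl, pow_three]
      show g1 * g1 * g1 * (g1 * g1 * g1) = g1 * g1 * (g1 * g1 * (g1 * g1))
      simp only [mul_assoc]
    rw [e]; exact hl3
  have g2z' : g2⁻¹ * φ aP * g2 = φ zP := by rw [← g2z]; group
  have g2a' : g2⁻¹ * φ zP * g2 = φ aP := by rw [← g2a]; group
  have cz : φ cP * φ zP = φ zP * φ cP := by rw [← map_mul, ← map_mul, cP_basic.2.2.1]
  have ca : φ cP * φ aP = φ aP * φ cP := by rw [← map_mul, ← map_mul, cP_basic.2.2.2]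
  have g2c : g2 * φ cP * g2⁻¹ = φ cP := by
    have e1 : g2 * φ cP * g2⁻¹ * φ zP = φ zP * (g2 * φ cP * g2⁻¹) := by
      rw [← g2a]
      calc g2 * φ cP * g2⁻¹ * (g2 * φ aP * g2⁻¹) = g2 * (φ cP * φ aP) * g2⁻¹ := by group
        _ = g2 * (φ aP * φ cP) * g2⁻¹ := by rw [ca]
        _ = g2 * φ aP * g2⁻¹ * (g2 * φ cP * g2⁻¹) := by group
    have e2 : g2 * φ cP * g2⁻¹ * φ aP = φ aP * (g2 * φ cP * g2⁻¹) := by
      rw [← g2z]
      calc g2 * φ cP * g2⁻¹ * (g2 * φ zP * g2⁻¹) = g2 * (φ cP * φ zP) * g2⁻¹ := by group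
        _ = g2 * (φ zP * φ cP) * g2⁻¹ := by rw [cz]
        _ = g2 * φ zP * g2⁻¹ * (g2 * φ cP * g2⁻¹) := by group
    obtain ⟨m, hm⟩ : g2 * φ cP * g2⁻¹ ∈ φ.range := by
      rw [hφr]
      exact mem_normalizer_zpowers (by
        rw [e1, mul_inv_cancel_right]; exact Subgroup.mem_zpowers _)
    have m2 : m ^ 2 = 1 := hφ (by
      rw [map_pow, hm, conj_pow, ← map_pow, cP_basic.1, map_one, mul_one, mul_inv_cancel])
    rcases cent_two m (hφ (by rw [map_mul, map_mul, hm, e1]))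
      (hφ (by rw [map_mul, map_mul, hm, e2])) m2 with h | h
    · rw [h, map_one] at hm
      exact absurd (hφ ((conj_eq_one_iff.1 hm.symm).trans (map_one φ).symm)) cP_basic.2.1
    · rw [← hm, h]
  -- the shape of the involution inverting `z`
  let w : G := g2⁻¹ * φ rP * g2
  have wz : w * φ zP * w⁻¹ = φ zP := by
    show g2⁻¹ * φ rP * g2 * φ zP * (g2⁻¹ * φ rP * g2)⁻¹ = φ zP
    rw [show g2⁻¹ * φ rP * g2 * φ zP * (g2⁻¹ * φ rP * g2)⁻¹ =
      g2⁻¹ * (φ rP * (g2 * φ zP * g2⁻¹) * (φ rP)⁻¹) * g2 by group, g2z, hs_a, g2z']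
  have wa : w * φ aP * w⁻¹ = (φ aP)⁻¹ := by
    show g2⁻¹ * φ rP * g2 * φ aP * (g2⁻¹ * φ rP * g2)⁻¹ = (φ aP)⁻¹
    rw [show g2⁻¹ * φ rP * g2 * φ aP * (g2⁻¹ * φ rP * g2)⁻¹ =
      g2⁻¹ * (φ rP * (g2 * φ aP * g2⁻¹) * (φ rP)⁻¹) * g2 by group, g2a, hs_z]
    rw [← g2a']; group
  have wc : w * φ cP * w⁻¹ = φ cP := by
    show g2⁻¹ * φ rP * g2 * φ cP * (g2⁻¹ * φ rP * g2)⁻¹ = φ cP
    rw [show g2⁻¹ * φ rP * g2 * φ cP * (g2⁻¹ * φ rP * g2)⁻¹ =
      g2⁻¹ * (φ rP * (g2 * φ cP * g2⁻¹) * (φ rP)⁻¹) * g2 by group, g2c,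
      ← map_inv φ rP, ← map_mul, ← map_mul, rP_basic.1]
    calc g2⁻¹ * φ cP * g2 = g2⁻¹ * (g2 * φ cP * g2⁻¹) * g2 := by rw [g2c]
      _ = φ cP := by group
  obtain ⟨m, hm⟩ : w ∈ φ.range := by
    rw [hφr]
    exact mem_normalizer_zpowers (by rw [wz]; exact Subgroup.mem_zpowers _)
  have w2 : w ^ 2 = 1 := by
    show (g2⁻¹ * φ rP * g2) ^ 2 = 1
    rw [sq, show g2⁻¹ * φ rP * g2 * (g2⁻¹ * φ rP * g2) = g2⁻¹ * (φ rP) ^ 2 * g2 by
      rw [sq]; group, ← map_pow, rP_basic.2.2, map_one, mul_one, inv_mul_cancel]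
  have mz : m * zP * m⁻¹ = zP := hφ (by rw [map_mul, map_mul, map_inv, hm, wz])
  have ma : m * aP * m⁻¹ = aP⁻¹ := hφ (by rw [map_mul, map_mul, map_inv, map_inv, hm, wa])
  have mc : m * cP * m⁻¹ = cP := hφ (by rw [map_mul, map_mul, map_inv, hm, wc])
  have m2 : m ^ 2 = 1 := hφ (by rw [map_pow, hm, w2, map_one])
  have m1 : m.1 = 1 :=
    (cent_first m.1 (mul_inv_eq_iff_eq_mul.1 (congrArg Prod.fst mz))).2 (congrArg Prod.fst m2)
  obtain ⟨k, hk, hkq⟩ :=
    shape_step m.2 (congrArg Prod.snd m2) (congrArg Prod.snd ma) (congrArg Prod.snd mc)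
  let kk : P35 := (1, k)
  let φ' : P35 →* G := φ.comp (MulAut.conj kk).toMonoidHom
  have hφ'z : φ' zP = φ zP := congrArg φ (Prod.ext (by simp [kk]) (by simp [kk, zP]))
  have hφ'a : φ' aP = φ aP :=
    congrArg φ (Prod.ext (by simp [kk, aP]) (shift_fix k hk).1)
  have hφ'c : φ' cP = φ cP :=
    congrArg φ (Prod.ext (by simp [kk, cP]) (shift_fix k hk).2)
  have hφ'r : φ' rP = φ rP := congrArg φ (Prod.ext (by simp [kk]) (by simp [kk, rP]))
  have hrw : φ rP = g2 * φ m * g2⁻¹ := by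
    rw [hm]
    show φ rP = g2 * (g2⁻¹ * φ rP * g2) * g2⁻¹
    group
  have hshape : φ' rP = g2 * φ' sP * g2⁻¹ ∨ φ' rP = g2 * φ' dP * g2⁻¹ := by
    rcases hkq with h | h
    · left
      rw [hφ'r, hrw, show φ' sP = φ m from congrArg φ (Prod.ext (by simp [kk, sP, m1]) h)]
    · right
      rw [hφ'r, hrw, show φ' dP = φ m from congrArg φ (Prod.ext (by simp [kk, dP, m1]) h)]
  have hcard360 : ∀ w : G, (w = φ aP ∨ w = (φ aP)⁻¹) →
      Nat.card (Subgroup.centralizer ({w} : Set G)) = 360 := by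
    intro w hw
    rw [cent_of_sign hw, ← g2z, cent_conj, cent_of_sign (hφz ▸ hfz), h360]
  -- the class of `z * a`
  have hsqs : ∀ v : G, (∀ x ∈ Subgroup.centralizer ({v} : Set G), x ^ 2 ∈ D) →
      ∀ x ∈ Subgroup.centralizer ({φ sP * v * (φ sP)⁻¹} : Set G), x ^ 2 ∈ D := by
    intro v hv x hx
    have hx' : (φ sP)⁻¹ * x * φ sP ∈ Subgroup.centralizer ({v} : Set G) := by
      rw [Subgroup.mem_centralizer_singleton_iff] at hx ⊢
      calc (φ sP)⁻¹ * x * φ sP * v = (φ sP)⁻¹ * (x * (φ sP * v * (φ sP)⁻¹)) * φ sP := by group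
        _ = (φ sP)⁻¹ * (φ sP * v * (φ sP)⁻¹ * x) * φ sP := by rw [hx]
        _ = v * ((φ sP)⁻¹ * x * φ sP) := by group
    have h1 := (Subgroup.mem_normalizer_iff.1 hsN _).1 (hv _ hx')
    rwa [show φ sP * ((φ sP)⁻¹ * x * φ sP) ^ 2 * (φ sP)⁻¹ = x ^ 2 by rw [sq, sq]; group] at h1
  let Q : G → Prop := fun v => Nat.card (Subgroup.centralizer ({v} : Set G)) = 36 ∧
    ∀ x ∈ Subgroup.centralizer ({v} : Set G), x ^ 2 ∈ D
  have hQinv : ∀ v : G, Q v → Q v⁻¹ := fun v hv => by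
    show _ ∧ _
    rw [cent_inv]; exact hv
  have hQs : ∀ v : G, Q v → Q (φ sP * v * (φ sP)⁻¹) := fun v hv =>
    ⟨(cent_conj _ _).trans hv.1, hsqs v hv.2⟩
  have hQy : Q y := ⟨hy, hysq⟩
  have hQ : Q (φ zP * φ aP) := by
    have hyD' := hyD
    rw [hDgen] at hyD'
    obtain ⟨i, j, hi, hj, he⟩ := mem_closure_pair hza zz3 aa3 hyD'
    by_cases hi1 : i = 1
    · exfalso
      rw [hi1, one_mul] at he
      rcases hj with rfl | rfl | rfl
      · rw [he] at hy
        have hle := Subgroup.card_le_of_le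
          (show Subgroup.centralizer ({z} : Set G) ≤ Subgroup.centralizer ({(1 : G)} : Set G) from
            fun w _ => Subgroup.mem_centralizer_singleton_iff.2 (by simp))
        omega
      · rw [he, hcard360 _ (.inl rfl)] at hy; omega
      · rw [he, hcard360 _ (.inr rfl)] at hy; omega
    by_cases hj1 : j = 1
    · exfalso
      rw [hj1, mul_one] at he
      have : Subgroup.centralizer ({y} : Set G) = Subgroup.centralizer ({z} : Set G) := by
        rw [he]
        rcases hi with rfl | rfl | rfl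
        · exact absurd rfl hi1
        · exact cent_of_sign (hφz ▸ hfz)
        · rw [cent_inv]; exact cent_of_sign (hφz ▸ hfz)
      rw [this, h360] at hy; omega
    have hzi : (φ zP)⁻¹ * φ aP = φ aP * (φ zP)⁻¹ := (Commute.inv_left hza).eq
    have hai : φ zP * (φ aP)⁻¹ = (φ aP)⁻¹ * φ zP := (Commute.inv_right hza).eq
    rw [he] at hQy
    rcases hi with rfl | rfl | rfl
    · exact absurd rfl hi1
    · rcases hj with rfl | rfl | rfl
      · exact absurd rfl hj1
      · exact hQy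
      · have h := hQs _ hQy
        rwa [show φ sP * (φ zP * (φ aP)⁻¹) * (φ sP)⁻¹ =
          φ sP * φ zP * (φ sP)⁻¹ * (φ sP * φ aP * (φ sP)⁻¹)⁻¹ by group, ht_z, ht_a, inv_inv] at h
    · rcases hj with rfl | rfl | rfl
      · exact absurd rfl hj1
      · have h := hQinv _ hQy
        rw [mul_inv_rev, inv_inv, ← hai] at h
        have h' := hQs _ h
        rwa [show φ sP * (φ zP * (φ aP)⁻¹) * (φ sP)⁻¹ =
          φ sP * φ zP * (φ sP)⁻¹ * (φ sP * φ aP * (φ sP)⁻¹)⁻¹ by group, ht_z, ht_a, inv_inv] at h'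
      · have h := hQinv _ hQy
        rwa [mul_inv_rev, inv_inv, inv_inv, ← hza] at h
  have hsy : ¬ 27 ∣ Nat.card G := by
    intro h
    obtain ⟨Q, hQ⟩ := Sylow.exists_subgroup_card_pow_prime 3 (n := 3) (G := G) h
    have hQ3 : IsPGroup 3 Q := IsPGroup.of_card hQ
    obtain ⟨R, hR⟩ := hQ3.exists_le_sylow
    have h1 := Subgroup.card_dvd_of_le hR
    have h2 : Nat.card (R : Subgroup G) = Nat.card (P : Subgroup G) :=
      Nat.card_congr (Sylow.equiv R P).toEquiv
    rw [h2, ← hDP, hcard, hQ] at h1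
    norm_num at h1
  exact ⟨{
    φ := φ'
    φ_inj := hφ.comp (MulAut.conj kk).injective
    φ_range := by rw [comp_conj_range, hφr, hφ'z]
    g := g2
    g_z := by rw [hφ'z, hφ'a]; exact g2z
    g_a := by rw [hφ'z, hφ'a]; exact g2a
    g_c := by rw [hφ'c]; exact g2c
    g_sq := by rw [hφ'c]; exact g2sq
    rshape := hshape
    card_cent := by rw [hφ'z, hφ'a]; exact hQ.1
    sq_cent := by
      rw [hφ'z, hφ'a]
      intro x hx
      rw [← hDgen]
      exact hQ.2 x hx
    sylow := hsy }⟩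

end Cfsg.Agent.Lib.SymEightThree6.SetupProof

namespace Cfsg.Agent.Lib.SymEightThree6

universe u

theorem setup : SetupStmt.{u} := SetupProof.setup

end Cfsg.Agent.Lib.SymEightThree6
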