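import Mathlib
import Cfsg.Agent.Lib.AltEightThree6.Spec

/-!
Interface for the characterisation of the symmetric group of degree eight by centralisers of
elements of order three (with the exceptional configuration on two copies of `A5`).
-/

set_option autoImplicit false

namespace Cfsg.Agent.Lib.SymEightThree6

open Equiv Equiv.Perm

universe u

/-- The normaliser type `S3 × S5`. -/
abbrev P35 := Perm (Fin 3) × Perm (Fin 5)

/-- The central element of order three. -/
def zP : P35 := (swap 0 1 * swap 1 2, 1)
/-- The element `(234)` of the second factor. -/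
def aP : P35 := (1, swap 2 3 * swap 3 4)
/-- The transposition centralising both. -/
def cP : P35 := (1, swap 0 1)
/-- The involution `(12)(34)` of the four group fixing `0`. -/
def tP : P35 := (1, swap 1 2 * swap 3 4)
/-- The involution `(13)(24)` of the four group fixing `0`. -/
def vP : P35 := (1, swap 1 3 * swap 2 4)

/-- The transposition of the first factor. -/
def rP : P35 := (swap 0 1, 1)
/-- The transposition `(34)` of the second factor. -/
def sP : P35 := (1, swap 3 4)
/-- The involution `(01)(34)` of the second factor. -/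
def dP : P35 := (1, swap 0 1 * swap 3 4)
/-- The involution `(03)(14)` of the second factor. -/
def uP : P35 := (1, swap 0 3 * swap 1 4)

/-- A coordinate system at `z`, with an element `g` exchanging it with a commuting element `a`. -/
structure Data (G : Type u) [Group G] where
  φ : P35 →* G
  φ_inj : Function.Injective φ
  φ_range : φ.range = Subgroup.normalizer (Subgroup.zpowers (φ zP) : Set G)
  g : G
  g_z : g * φ zP * g⁻¹ = φ aP
  g_a : g * φ aP * g⁻¹ = φ zP
  g_c : g * φ cP * g⁻¹ = φ cP
  g_sq : g * g = 1 ∨ g * g = φ cP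
  rshape : φ rP = g * φ sP * g⁻¹ ∨ φ rP = g * φ dP * g⁻¹
  card_cent : Nat.card (Subgroup.centralizer ({φ zP * φ aP} : Set G)) = 36
  sq_cent : ∀ x ∈ Subgroup.centralizer ({φ zP * φ aP} : Set G),
    x ^ 2 ∈ Subgroup.closure ({φ zP, φ aP} : Set G)
  sylow : ¬ 27 ∣ Nat.card G

variable {G : Type u} [Group G]

/-- The second coordinate system. -/
def Data.ψ (d : Data G) : P35 →* G := (MulAut.conj d.g).toMonoidHom.comp d.φ

theorem Data.ψ_apply (d : Data G) (p : P35) : d.ψ p = d.g * d.φ p * d.g⁻¹ := rfl

theorem Data.ψ_inj (d : Data G) : Function.Injective d.ψ :=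
  (MulAut.conj d.g).injective.comp d.φ_inj

theorem Data.ψ_a (d : Data G) : d.ψ aP = d.φ zP := d.g_a

theorem Data.ψ_z (d : Data G) : d.ψ zP = d.φ aP := d.g_z

theorem Data.ψ_c (d : Data G) : d.ψ cP = d.φ cP := d.g_c

theorem Data.ψ_range (d : Data G) :
    d.ψ.range = Subgroup.normalizer (Subgroup.zpowers (d.φ aP) : Set G) := by
  have h : Subgroup.zpowers (d.φ aP) =
      (Subgroup.zpowers (d.φ zP)).map (MulAut.conj d.g).toMonoidHom := by
    rw [MonoidHom.map_zpowers]
    exact congrArg _ d.g_z.symm
  rw [Data.ψ, MonoidHom.range_comp, d.φ_range, h]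
  exact Subgroup.map_equiv_normalizer_eq (Subgroup.zpowers (d.φ zP)) (MulAut.conj d.g)

/-- The involution of the first system inverting `z` is a transposition of the second. -/
def Data.Trans (d : Data G) : Prop := d.φ rP = d.ψ sP

/-- The involution of the first system inverting `z` is even in the second. -/
def Data.Double (d : Data G) : Prop := d.φ rP = d.ψ dP

theorem Data.trans_or_double (d : Data G) : d.Trans ∨ d.Double := d.rshape

theorem sP_cP : cP * sP * cP⁻¹ = sP := by decide +kernel

theorem dP_cP : cP * dP * cP⁻¹ = dP := by decide +kernel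

theorem Data.ψ_rP_of (d : Data G) {p : P35} (h : d.φ rP = d.ψ p) (hp : cP * p * cP⁻¹ = p) :
    d.ψ rP = d.φ p := by
  rw [Data.ψ_apply, h, Data.ψ_apply,
    show d.g * (d.g * d.φ p * d.g⁻¹) * d.g⁻¹ = (d.g * d.g) * d.φ p * (d.g * d.g)⁻¹ by group]
  rcases d.g_sq with h2 | h2 <;> rw [h2]
  · group
  · rw [← map_inv, ← map_mul, ← map_mul, hp]

/-- The centraliser of the four group of the first system. -/
def Data.CV (d : Data G) : Subgroup G := Subgroup.centralizer {d.φ tP, d.φ vP}

/-- The four groups of the two systems commute. -/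
def Data.Good (d : Data G) : Prop :=
  d.Trans ∧ Nat.card d.CV = 96 ∧
    ∀ x ∈ ({d.φ tP, d.φ vP} : Set G), ∀ y ∈ ({d.ψ tP, d.ψ vP} : Set G), x * y = y * x

/-- The two alternating groups of degree five commute. -/
def Data.Exc (d : Data G) : Prop :=
  d.Double ∧ Nat.card d.CV = 240 ∧ ∀ p q : Perm (Fin 5), Perm.sign p = 1 → Perm.sign q = 1 →
    d.φ (1, p) * d.ψ (1, q) = d.ψ (1, q) * d.φ (1, p)

/-- The product of the two alternating groups of degree five. -/
def Data.base (d : Data G) : Subgroup G :=
  ((alternatingGroup (Fin 5)).map (d.φ.comp (MonoidHom.inr (Perm (Fin 3)) (Perm (Fin 5))))) ⊔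
    ((alternatingGroup (Fin 5)).map (d.ψ.comp (MonoidHom.inr (Perm (Fin 3)) (Perm (Fin 5)))))

/-- The normaliser of the product. -/
def Data.normBase (d : Data G) : Subgroup G := Subgroup.normalizer (d.base : Set G)

/-- A copy of `S8` containing the relevant centralisers. -/
structure Emb (θ : Perm (Fin 8) →* G) : Prop where
  inj : Function.Injective θ
  c3_le : Subgroup.centralizer ({θ (AltEightThree6.c3 : Perm (Fin 8))} : Set G) ≤ θ.range
  c33_le : Subgroup.centralizer ({θ (AltEightThree6.c33 : Perm (Fin 8))} : Set G) ≤ θ.range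
  v_le : Subgroup.centralizer
    ({θ (AltEightThree6.t0 : Perm (Fin 8)), θ (AltEightThree6.v0 : Perm (Fin 8))} : Set G) ≤ θ.range
  c2_le : Subgroup.centralizer ({θ (swap 0 1)} : Set G) ≤ θ.range
  sylow : ¬ 27 ∣ Nat.card G

/-- The hypotheses give two coordinate systems. -/
def SetupStmt : Prop :=
  ∀ (G : Type u) [Group G] [Finite G] (P : Sylow 3 G) (D : Subgroup G), D = P → ∀ (y z : G),
    Subgroup.closure {y, z} = D → IsMulCommutative D → Nat.card D = 9 → (∀ a ∈ D, a ^ 3 = 1) →
    Nat.card (Subgroup.centralizer (D : Set G)) = 18 →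
    Nonempty (Subgroup.normalizer (D : Set G) ⧸ D.subgroupOf (Subgroup.normalizer (D : Set G)) ≃*
      DihedralGroup 4 × Multiplicative (ZMod 2)) →
    Nat.card (Subgroup.centralizer ({y} : Set G)) = 36 →
    (∀ g ∈ Subgroup.centralizer ({y} : Set G), g ^ 2 ∈ D) →
    Nonempty (Subgroup.centralizer ({z} : Set G) ≃* Multiplicative (ZMod 3) × Perm (Fin 5)) →
    Nonempty (Subgroup.normalizer (Subgroup.zpowers z : Set G) ≃* P35) →
    Nonempty (Data G)

/-- The three possibilities for the centraliser of the four group. -/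
def DichStmt : Prop :=
  ∀ (G : Type u) [Group G] [Finite G] (d : Data G),
    Nat.card d.CV = 24 ∨ ∃ d' : Data G, d'.φ = d.φ ∧ (d'.Good ∨ d'.Exc)

/-- The centraliser of the involution centralising both elements of order three. -/
def CentCStmt : Prop :=
  ∀ (G : Type u) [Group G] [Finite G] (d : Data G),
    Subgroup.centralizer ({d.φ cP} : Set G) ≤
        Subgroup.normalizer (Subgroup.closure ({d.φ zP, d.φ aP} : Set G) : Set G) ∨
      ∃ f : Subgroup.centralizer ({d.φ cP} : Set G) →* Perm (Fin 6),
        Function.Surjective f ∧ ∀ x, f x = 1 ↔ (x : G) ∈ Subgroup.zpowers (d.φ cP)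

/-- In the even configuration the centraliser of that involution is small. -/
def DoubleCStmt : Prop :=
  ∀ (G : Type u) [Group G] [Finite G] (d : Data G), d.Double →
    Nat.card d.CV = 24 ∨ d.Exc →
    Subgroup.centralizer ({d.φ cP} : Set G) ≤
        Subgroup.normalizer (Subgroup.closure ({d.φ zP, d.φ aP} : Set G) : Set G)

/-- The small case with a transposition does not occur. -/
def BadTransStmt : Prop :=
  ∀ (G : Type u) [Group G] [Finite G] (d : Data G), d.Trans → Nat.card d.CV = 24 → False

/-- The small case with an even involution does not occur. -/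
def BadDoubleStmt : Prop :=
  ∀ (G : Type u) [Group G] [Finite G] (d : Data G), d.Double →
    Subgroup.centralizer ({d.φ cP} : Set G) ≤
        Subgroup.normalizer (Subgroup.closure ({d.φ zP, d.φ aP} : Set G) : Set G) →
    Nat.card d.CV = 24 → False

/-- A copy of `S8` in the main case. -/
def EmbStmt : Prop :=
  ∀ (G : Type u) [Group G] [Finite G] (d : Data G), d.Good →
    Nat.card (Subgroup.centralizer ({d.φ cP} : Set G)) ≤ 1440 →
    ∃ θ : Perm (Fin 8) →* G, Emb θ

/-- Transfer in the main case. -/
def TransferAStmt : Prop :=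
  ∀ (G : Type u) [Group G] [Finite G] (θ : Perm (Fin 8) →* G), Emb θ →
    ∃ G0 : Subgroup G, G0.index = 2 ∧ θ (swap 0 1) ∉ G0

/-- The structure of the normaliser of the product in the exceptional case. -/
structure ExcFacts (d : Data G) : Prop where
  base_iso : Nonempty (d.base ≃* alternatingGroup (Fin 5) × alternatingGroup (Fin 5))
  cent_base : Subgroup.centralizer (d.base : Set G) = ⊥
  index : d.base.relIndex d.normBase = 4
  sq : ∀ g ∈ d.normBase, g ^ 2 ∈ d.base
  minimal : ∀ X : Subgroup G, X ≤ d.base → (∀ g ∈ d.normBase, ∀ x ∈ X, g * x * g⁻¹ ∈ X) →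
    X = ⊥ ∨ X = d.base
  c3_le : Subgroup.centralizer ({d.φ zP} : Set G) ≤ d.normBase
  y_le : Subgroup.centralizer ({d.φ zP * d.φ aP} : Set G) ≤ d.normBase
  cv_le : d.CV ≤ d.normBase
  centC_le : Subgroup.centralizer ({d.φ cP} : Set G) ≤ d.normBase

/-- The structure of the normaliser in the exceptional case. -/
def ExcBasicStmt : Prop :=
  ∀ (G : Type u) [Group G] [Finite G] (d : Data G), d.Exc →
    Subgroup.centralizer ({d.φ cP} : Set G) ≤
        Subgroup.normalizer (Subgroup.closure ({d.φ zP, d.φ aP} : Set G) : Set G) →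
    ExcFacts d

/-- The centraliser of an involution of a factor in the exceptional case. -/
def CentTStmt : Prop :=
  ∀ (G : Type u) [Group G] [Finite G] (d : Data G), d.Exc → ExcFacts d →
    Subgroup.centralizer ({d.φ tP} : Set G) ≤ d.normBase

/-- A Sylow two subgroup of the normaliser is one of the group. -/
def SylowBStmt : Prop :=
  ∀ (G : Type u) [Group G] [Finite G] (d : Data G), d.Exc → ExcFacts d →
    Subgroup.centralizer ({d.φ tP} : Set G) ≤ d.normBase →
    ¬ 128 ∣ Nat.card G

/-- The centraliser of a product of involutions of the two factors. -/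
def CentEBStmt : Prop :=
  ∀ (G : Type u) [Group G] [Finite G] (d : Data G), d.Exc → ExcFacts d →
    Subgroup.centralizer ({d.φ tP} : Set G) ≤ d.normBase → ¬ 128 ∣ Nat.card G →
    Subgroup.centralizer ({d.φ tP * d.ψ tP} : Set G) ≤ d.normBase

/-- The normaliser is the whole group. -/
def FinishBStmt : Prop :=
  ∀ (G : Type u) [Group G] [Finite G] (d : Data G), d.Exc → ExcFacts d →
    Subgroup.centralizer ({d.φ tP} : Set G) ≤ d.normBase → ¬ 128 ∣ Nat.card G →
    Subgroup.centralizer ({d.φ tP * d.ψ tP} : Set G) ≤ d.normBase →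
    d.normBase = ⊤

end Cfsg.Agent.Lib.SymEightThree6
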