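import Cfsg.Agent.Lib.SymEightThree6.Spec
import Mathlib.GroupTheory.NoncommCoprod
import Mathlib.GroupTheory.Sylow
import Mathlib.GroupTheory.PGroup

/-!
In the exceptional configuration a Sylow two subgroup of the normaliser of the product of the two
alternating groups is one of the whole group (brick SylowB of row S3330, written by helper71).
-/

set_option autoImplicit false
set_option maxRecDepth 20000
set_option linter.unusedSectionVars false
set_option linter.style.haveILetI false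

namespace Cfsg.Agent.Lib.SymEightThree6

open Equiv Equiv.Perm

universe u

namespace SylowBProof

/-- The alternating group of degree five. -/
abbrev A5 := alternatingGroup (Fin 5)

/-- `(12)(34)`. -/
def t5 : A5 := ⟨swap 1 2 * swap 3 4, Perm.mem_alternatingGroup.2 (by decide +kernel)⟩
/-- `(13)(24)`. -/
def v5 : A5 := ⟨swap 1 3 * swap 2 4, Perm.mem_alternatingGroup.2 (by decide +kernel)⟩
/-- An element permuting the three involutions of the four group. -/
def q5 : A5 := ⟨swap 2 3 * swap 3 4, Perm.mem_alternatingGroup.2 (by decide +kernel)⟩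

/-- The four group fixing `0`. -/
def K : Subgroup A5 where
  carrier := {p | p * t5 = t5 * p ∧ p * v5 = v5 * p}
  one_mem' := by simp
  mul_mem' := by
    intro a b ha hb
    exact ⟨(show Commute a t5 from ha.1).mul_left (show Commute b t5 from hb.1) |>.eq,
      (show Commute a v5 from ha.2).mul_left (show Commute b v5 from hb.2) |>.eq⟩
  inv_mem' := by
    intro a ha
    exact ⟨(show Commute a t5 from ha.1).inv_left.eq, (show Commute a v5 from ha.2).inv_left.eq⟩

theorem mem_K {p : A5} : p ∈ K ↔ p * t5 = t5 * p ∧ p * v5 = v5 * p := Iff.rfl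

instance : DecidablePred (· ∈ K) := fun _ => decidable_of_iff _ mem_K.symm

theorem card_K : Nat.card K = 4 := by
  rw [Nat.card_eq_fintype_card]
  decide +kernel

theorem t5_mem : t5 ∈ K ∧ v5 ∈ K ∧ t5 ≠ 1 := by
  simp only [mem_K]
  decide +kernel

theorem K_comm : ∀ a ∈ K, ∀ b ∈ K, a * b = b * a := by
  simp only [mem_K]
  decide +kernel

theorem K_conj : ∀ a ∈ K, a ≠ 1 →
    a = t5 ∨ a = q5 * t5 * q5⁻¹ ∨ a = q5⁻¹ * t5 * q5⁻¹⁻¹ := by
  simp only [mem_K]
  decide +kernel

theorem exists_conj {a : A5} (ha : a ∈ K) (h1 : a ≠ 1) : ∃ q : A5, q * t5 * q⁻¹ = a := by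
  rcases K_conj a ha h1 with h | h | h
  · exact ⟨1, by simp [h]⟩
  · exact ⟨q5, h.symm⟩
  · exact ⟨q5⁻¹, h.symm⟩

theorem exists_conj' {a b : A5} (ha : a ∈ K) (h1 : a ≠ 1) (hb : b ∈ K) (h2 : b ≠ 1) :
    ∃ q : A5, q * a * q⁻¹ = b := by
  obtain ⟨q, rfl⟩ := exists_conj ha h1
  obtain ⟨r, rfl⟩ := exists_conj hb h2
  exact ⟨r * q⁻¹, by group⟩

/-- Conjugation by the transposition `(01)`. -/
def sig (p : A5) : A5 :=
  ⟨swap 0 1 * (p : Perm (Fin 5)) * swap 0 1, Perm.mem_alternatingGroup.2 (by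
    rw [map_mul, map_mul, Perm.mem_alternatingGroup.1 p.2, mul_one]
    decide +kernel)⟩

/-- A generator of order three. -/
def g3 : A5 := ⟨swap 0 1 * swap 1 2, Perm.mem_alternatingGroup.2 (by decide +kernel)⟩

theorem no_inner : ∀ σ : Perm (Fin 5),
    (σ * (t5 : Perm (Fin 5)) = (t5 : Perm (Fin 5)) * σ ∧
      σ * (v5 : Perm (Fin 5)) = (v5 : Perm (Fin 5)) * σ ∧
      σ * (g3 : Perm (Fin 5)) = (g3 : Perm (Fin 5)) * σ) → σ = 1 := by
  decide +kernel

variable {G : Type u} [Group G]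

/-- The two factors glued together. -/
def F (d : Data G) (h : d.Exc) : A5 × A5 →* G :=
  MonoidHom.noncommCoprod
    ((d.φ.comp (MonoidHom.inr (Perm (Fin 3)) (Perm (Fin 5)))).comp A5.subtype)
    ((d.ψ.comp (MonoidHom.inr (Perm (Fin 3)) (Perm (Fin 5)))).comp A5.subtype)
    (fun p q => h.2.2 p q (Perm.mem_alternatingGroup.1 p.2) (Perm.mem_alternatingGroup.1 q.2))

theorem F_apply (d : Data G) (h : d.Exc) (p q : A5) :
    F d h (p, q) = d.φ (1, (p : Perm (Fin 5))) * d.ψ (1, (q : Perm (Fin 5))) := rfl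

theorem F_left (d : Data G) (h : d.Exc) (p : A5) :
    F d h (p, 1) = d.φ (1, (p : Perm (Fin 5))) := by
  rw [F_apply, OneMemClass.coe_one, show ((1 : Perm (Fin 3)), (1 : Perm (Fin 5))) = (1 : P35) from rfl,
    map_one, mul_one]

theorem F_right (d : Data G) (h : d.Exc) (q : A5) :
    F d h (1, q) = d.ψ (1, (q : Perm (Fin 5))) := by
  rw [F_apply, OneMemClass.coe_one, show ((1 : Perm (Fin 3)), (1 : Perm (Fin 5))) = (1 : P35) from rfl,
    map_one, one_mul]

theorem F_t5 (d : Data G) (h : d.Exc) : F d h (t5, 1) = d.φ tP ∧ F d h (1, t5) = d.ψ tP :=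
  ⟨F_left d h t5, F_right d h t5⟩

theorem F_range (d : Data G) (h : d.Exc) : (F d h).range = d.base := by
  refine (MonoidHom.noncommCoprod_range _ _ _).trans ?_
  rw [MonoidHom.range_comp, MonoidHom.range_comp, Subgroup.range_subtype]
  rfl

theorem card_base (d : Data G) (hf : ExcFacts d) : Nat.card d.base = 3600 := by
  obtain ⟨e⟩ := hf.base_iso
  rw [Nat.card_congr e.toEquiv, Nat.card_prod, Nat.card_eq_fintype_card]
  decide +kernel

theorem F_inj (d : Data G) (h : d.Exc) (hf : ExcFacts d) : Function.Injective (F d h) := by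
  have hc : Nat.card (A5 × A5) = Nat.card (F d h).range := by
    rw [F_range, card_base d hf, Nat.card_prod, Nat.card_eq_fintype_card]
    decide +kernel
  have : Finite (F d h).range := Nat.finite_of_card_ne_zero (by
    rw [F_range, card_base d hf]; norm_num)
  have hb : Function.Bijective (F d h).rangeRestrict :=
    (Nat.bijective_iff_surjective_and_card _).2 ⟨(F d h).rangeRestrict_surjective, hc⟩
  intro x y hxy
  exact hb.1 (Subtype.ext hxy)

variable (d : Data G) (h : d.Exc)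

/-- `s` fixes both factors. -/
def Pres (s : G) : Prop :=
  (∀ p : A5, ∃ p' : A5, s * F d h (p, 1) * s⁻¹ = F d h (p', 1)) ∧
    ∀ q : A5, ∃ q' : A5, s * F d h (1, q) * s⁻¹ = F d h (1, q')

/-- `s` interchanges the factors. -/
def Swaps (s : G) : Prop :=
  (∀ p : A5, ∃ p' : A5, s * F d h (p, 1) * s⁻¹ = F d h (1, p')) ∧
    ∀ q : A5, ∃ q' : A5, s * F d h (1, q) * s⁻¹ = F d h (q', 1)

theorem Pres.mul {a b : G} (ha : Pres d h a) (hb : Pres d h b) : Pres d h (a * b) := by
  constructor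
  · intro p
    obtain ⟨p', hp⟩ := hb.1 p
    obtain ⟨p'', hp'⟩ := ha.1 p'
    exact ⟨p'', by rw [← hp', ← hp]; group⟩
  · intro p
    obtain ⟨p', hp⟩ := hb.2 p
    obtain ⟨p'', hp'⟩ := ha.2 p'
    exact ⟨p'', by rw [← hp', ← hp]; group⟩

theorem Swaps.mul {a b : G} (ha : Swaps d h a) (hb : Pres d h b) : Swaps d h (a * b) := by
  constructor
  · intro p
    obtain ⟨p', hp⟩ := hb.1 p
    obtain ⟨p'', hp'⟩ := ha.1 p'
    exact ⟨p'', by rw [← hp', ← hp]; group⟩
  · intro p
    obtain ⟨p', hp⟩ := hb.2 p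
    obtain ⟨p'', hp'⟩ := ha.2 p'
    exact ⟨p'', by rw [← hp', ← hp]; group⟩

theorem pres_F (x : A5 × A5) : Pres d h (F d h x) := by
  constructor
  · intro p
    refine ⟨x.1 * p * x.1⁻¹, ?_⟩
    rw [← map_inv, ← map_mul, ← map_mul]
    congr 1
    ext1 <;> simp
  · intro q
    refine ⟨x.2 * q * x.2⁻¹, ?_⟩
    rw [← map_inv, ← map_mul, ← map_mul]
    congr 1
    ext1 <;> simp

theorem pres_base {b : G} (hb : b ∈ d.base) : Pres d h b := by
  rw [← F_range d h] at hb
  obtain ⟨x, rfl⟩ := hb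
  exact pres_F d h x

theorem not_swaps_pres (hf : ExcFacts d) {s : G} (hs : Swaps d h s) : ¬ Pres d h s := by
  intro hp
  obtain ⟨a, ha⟩ := hs.1 t5
  obtain ⟨b, hb⟩ := hp.1 t5
  have e : s * F d h (t5, 1) * s⁻¹ = 1 := by
    have := F_inj d h hf (ha.symm.trans hb)
    rw [Prod.mk.injEq] at this
    rw [ha, this.2, ← Prod.one_eq_mk, map_one]
  rw [conj_eq_one_iff, ← map_one (F d h)] at e
  exact t5_mem.2.2 (Prod.mk.inj (F_inj d h hf e)).1

theorem g_left (p : A5) : d.g * F d h (p, 1) * d.g⁻¹ = F d h (1, p) := by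
  rw [F_left, F_right, Data.ψ_apply]

theorem g_right (q : A5) : ∃ q' : A5, d.g * F d h (1, q) * d.g⁻¹ = F d h (q', 1) := by
  rcases d.g_sq with e | e
  · refine ⟨q, ?_⟩
    rw [F_left, F_right, Data.ψ_apply,
      show d.g * (d.g * d.φ (1, (q : Perm (Fin 5))) * d.g⁻¹) * d.g⁻¹ =
        (d.g * d.g) * d.φ (1, (q : Perm (Fin 5))) * (d.g * d.g)⁻¹ by group, e]
    group
  · refine ⟨sig q, ?_⟩
    rw [F_left, F_right, Data.ψ_apply,
      show d.g * (d.g * d.φ (1, (q : Perm (Fin 5))) * d.g⁻¹) * d.g⁻¹ =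
        (d.g * d.g) * d.φ (1, (q : Perm (Fin 5))) * (d.g * d.g)⁻¹ by group, e, ← map_inv,
      ← map_mul, ← map_mul]
    rfl

theorem swaps_g : Swaps d h d.g := ⟨fun p => ⟨p, g_left d h p⟩, g_right d h⟩

theorem c_left (p : A5) : d.φ cP * F d h (p, 1) * (d.φ cP)⁻¹ = F d h (sig p, 1) := by
  rw [F_left, F_left, ← map_inv, ← map_mul, ← map_mul]
  rfl

theorem c_right (q : A5) : d.φ cP * F d h (1, q) * (d.φ cP)⁻¹ = F d h (1, sig q) := by
  rw [F_right, F_right, ← d.ψ_c, ← map_inv, ← map_mul, ← map_mul]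
  rfl

theorem pres_c : Pres d h (d.φ cP) :=
  ⟨fun p => ⟨_, c_left d h p⟩, fun q => ⟨_, c_right d h q⟩⟩

include h in
theorem c_not_mem (hf : ExcFacts d) : d.φ cP ∉ d.base := by
  intro hb
  rw [← F_range d h] at hb
  obtain ⟨x, hx⟩ := hb
  have key : ∀ p : A5, sig p = x.1 * p * x.1⁻¹ := by
    intro p
    have e := c_left d h p
    rw [← hx, ← map_inv, ← map_mul, ← map_mul] at e
    exact ((Prod.mk.inj (F_inj d h hf e)).1).symm
  have hsq : (swap 0 1 : Perm (Fin 5)) * swap 0 1 = 1 := swap_mul_self 0 1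
  have hc : ∀ p : A5, (swap 0 1 * (x.1 : Perm (Fin 5))) * (p : Perm (Fin 5)) =
      (p : Perm (Fin 5)) * (swap 0 1 * (x.1 : Perm (Fin 5))) := by
    intro p
    have e : swap 0 1 * (p : Perm (Fin 5)) * swap 0 1 =
        (x.1 : Perm (Fin 5)) * (p : Perm (Fin 5)) * (x.1 : Perm (Fin 5))⁻¹ :=
      congrArg Subtype.val (key p)
    calc swap 0 1 * (x.1 : Perm (Fin 5)) * (p : Perm (Fin 5))
        = swap 0 1 * ((x.1 : Perm (Fin 5)) * (p : Perm (Fin 5)) * (x.1 : Perm (Fin 5))⁻¹) *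
            (x.1 : Perm (Fin 5)) := by group
      _ = (swap 0 1 * swap 0 1) * (p : Perm (Fin 5)) * (swap 0 1 * (x.1 : Perm (Fin 5))) := by
          rw [← e]; group
      _ = _ := by rw [hsq, one_mul]
  have h1 := no_inner _ ⟨hc t5, hc v5, hc g3⟩
  have h2 := congrArg Perm.sign h1
  rw [map_mul, Perm.mem_alternatingGroup.1 x.1.2, mul_one, map_one] at h2
  exact absurd h2 (by decide +kernel)

theorem base_le : d.base ≤ d.normBase := Subgroup.le_normalizer

theorem c_mem (hf : ExcFacts d) : d.φ cP ∈ d.normBase :=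
  hf.centC_le (Subgroup.mem_centralizer_singleton_iff.2 rfl)

theorem mem_normBase_of_conj [Finite G] {g : G}
    (hg : ∀ b ∈ d.base, g * b * g⁻¹ ∈ d.base) : g ∈ d.normBase := by
  rw [Data.normBase, Subgroup.mem_normalizer_iff]
  intro x
  refine ⟨fun hx => hg x hx, fun hx => ?_⟩
  have heq : d.base.map (MulAut.conj g).toMonoidHom = d.base := by
    refine Subgroup.eq_of_le_of_card_ge ?_ (le_of_eq ?_)
    · rintro _ ⟨b, hb, rfl⟩
      exact hg b hb
    · exact (Subgroup.card_map_of_injective (MulAut.conj g).injective).symm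
  rw [← heq] at hx
  obtain ⟨b, hb, hbe⟩ := hx
  have : b = x := (MulAut.conj g).injective hbe
  exact this ▸ hb

theorem g_mem [Finite G] (h : d.Exc) : d.g ∈ d.normBase := by
  refine mem_normBase_of_conj d fun b hb => ?_
  rw [← F_range d h] at hb ⊢
  obtain ⟨⟨p, q⟩, rfl⟩ := hb
  obtain ⟨q', hq'⟩ := g_right d h q
  refine ⟨(1, p) * (q', 1), ?_⟩
  rw [map_mul, ← g_left d h p, ← hq',
    show ((p, q) : A5 × A5) = (p, 1) * (1, q) by simp, map_mul]
  group

theorem card_normBase (hf : ExcFacts d) : Nat.card d.normBase = 14400 := by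
  have := Subgroup.card_mul_index (d.base.subgroupOf d.normBase)
  rw [Nat.card_congr (Subgroup.subgroupOfEquivOfLe (base_le d)).toEquiv, card_base d hf,
    show (d.base.subgroupOf d.normBase).index = 4 from hf.index] at this
  omega

theorem dvd_of_two {n : ℕ} (hn : 2 ^ n ∣ 14400) : n ≤ 6 := by
  by_contra hc
  exact absurd ((pow_dvd_pow 2 (show 7 ≤ n by omega)).trans hn) (by norm_num)

/-- A two subgroup of the normaliser has order dividing `64`. -/
theorem two_le (hf : ExcFacts d) {S : Subgroup G} (hS : S ≤ d.normBase) (hp : IsPGroup 2 S)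
    [Finite G] : Nat.card S ∣ 64 := by
  haveI : Fact (Nat.Prime 2) := ⟨Nat.prime_two⟩
  obtain ⟨n, hn⟩ := IsPGroup.iff_card.1 hp
  have := Subgroup.card_dvd_of_le hS
  rw [card_normBase d hf, hn] at this
  rw [hn, show (64 : ℕ) = 2 ^ 6 by norm_num]
  exact pow_dvd_pow 2 (dvd_of_two this)

/-- A subgroup of order `64` of the normaliser meets every coset of the product. -/
theorem meets_coset [Finite G] (hf : ExcFacts d) {S : Subgroup G} (hS : S ≤ d.normBase)
    (hc : Nat.card S = 64) {k : G} (hk : k ∈ d.normBase) : ∃ s ∈ S, k⁻¹ * s ∈ d.base := by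
  haveI : (d.base.subgroupOf d.normBase).Normal := Subgroup.normal_in_normalizer
  let π := (QuotientGroup.mk' (d.base.subgroupOf d.normBase)).comp (Subgroup.inclusion hS)
  have h1 := Subgroup.card_mul_index π.ker
  rw [Subgroup.index_ker, hc] at h1
  have h3 : Nat.card π.ker ∣ 3600 := by
    have hle : π.ker.map S.subtype ≤ d.base := by
      rintro _ ⟨x, hx, rfl⟩
      have := MonoidHom.mem_ker.1 hx
      exact Subgroup.mem_subgroupOf.1 ((QuotientGroup.eq_one_iff (Subgroup.inclusion hS x)).1 this)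
    rw [← Subgroup.card_map_of_injective S.subtype_injective, ← card_base d hf]
    exact Subgroup.card_dvd_of_le hle
  have h16 : Nat.card π.ker ∣ 16 := by
    have := Nat.dvd_gcd (Dvd.intro _ h1) h3
    norm_num at this ⊢
    exact this
  have hle4 : Nat.card π.range ≤ 4 := by
    have hcq : Nat.card (d.normBase ⧸ d.base.subgroupOf d.normBase) = 4 := hf.index
    rw [← hcq]
    exact Nat.card_le_card_of_injective _ Subtype.val_injective
  have h16' := Nat.le_of_dvd (by norm_num) h16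
  have hr : Nat.card π.range = 4 := by
    have := Nat.mul_le_mul_right (Nat.card π.range) h16'
    omega
  have htop : π.range = ⊤ := Subgroup.eq_top_of_card_eq _ (hr.trans hf.index.symm)
  obtain ⟨s, hs⟩ : QuotientGroup.mk' (d.base.subgroupOf d.normBase) ⟨k, hk⟩ ∈ π.range :=
    htop ▸ Subgroup.mem_top _
  exact ⟨s, s.2, Subgroup.mem_subgroupOf.1 (QuotientGroup.eq.1 hs.symm)⟩

/-- Every element of the normaliser fixes or interchanges the factors. -/
theorem pres_or_swaps [Finite G] (hf : ExcFacts d) {s : G} (hs : s ∈ d.normBase) :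
    s ∈ d.base ∨ (Pres d h s ∧ s ∉ d.base) ∨ Swaps d h s := by
  haveI : (d.base.subgroupOf d.normBase).Normal := Subgroup.normal_in_normalizer
  let π := QuotientGroup.mk' (d.base.subgroupOf d.normBase)
  have hc := c_mem d hf
  have hg := g_mem d h
  have hcq : Nat.card (d.normBase ⧸ d.base.subgroupOf d.normBase) = 4 := hf.index
  let f : Fin 4 → d.normBase ⧸ d.base.subgroupOf d.normBase :=
    ![π 1, π ⟨_, hc⟩, π ⟨_, hg⟩, π ⟨_, mul_mem hg hc⟩]
  have hne : ∀ {a b : G} (ha : a ∈ d.normBase) (hb : b ∈ d.normBase),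
      π ⟨a, ha⟩ = π ⟨b, hb⟩ → a⁻¹ * b ∈ d.base := fun ha hb e => Subgroup.mem_subgroupOf.1 (QuotientGroup.eq.1 e)
  have hsw : ∀ {a : G}, Swaps d h a → a ∉ d.base := fun ha hab =>
    not_swaps_pres d h hf ha (pres_base d h hab)
  have hgc : Swaps d h (d.g * d.φ cP) := (swaps_g d h).mul d h (pres_c d h)
  have hcg : d.φ cP * d.g = d.g * d.φ cP := by
    calc d.φ cP * d.g = (d.g * d.φ cP * d.g⁻¹) * d.g := by rw [d.g_c]
      _ = _ := by group
  have hci : (d.φ cP)⁻¹ = d.φ cP := by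
    rw [← map_inv]
    congr 1
  have hinj : Function.Injective f := by
    have e01 : π 1 ≠ π ⟨_, hc⟩ := fun e => c_not_mem d h hf (by
      simpa using hne (one_mem _) hc e)
    have e02 : π 1 ≠ π ⟨_, hg⟩ := fun e => hsw (swaps_g d h) (by
      simpa using hne (one_mem _) hg e)
    have e03 : π 1 ≠ π ⟨_, mul_mem hg hc⟩ := fun e => hsw hgc (by
      simpa using hne (one_mem _) (mul_mem hg hc) e)
    have e12 : π ⟨_, hc⟩ ≠ π ⟨_, hg⟩ := fun e => hsw hgc (by
      have := hne hc hg e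
      rwa [hci, hcg] at this)
    have e13 : π ⟨_, hc⟩ ≠ π ⟨_, mul_mem hg hc⟩ := fun e => hsw (swaps_g d h) (by
      have := hne hc (mul_mem hg hc) e
      rwa [← hcg, inv_mul_cancel_left] at this)
    have e23 : π ⟨_, hg⟩ ≠ π ⟨_, mul_mem hg hc⟩ := fun e => c_not_mem d h hf (by
      simpa using hne hg (mul_mem hg hc) e)
    intro i j hij
    fin_cases i <;> fin_cases j <;> simp [f] at hij ⊢ <;>
      first
        | exact e01 hij | exact e02 hij | exact e03 hij | exact e12 hij | exact e13 hij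
        | exact e23 hij | exact e01 hij.symm | exact e02 hij.symm | exact e03 hij.symm
        | exact e12 hij.symm | exact e13 hij.symm | exact e23 hij.symm
  have hbij : Function.Bijective f :=
    (Nat.bijective_iff_injective_and_card f).2 ⟨hinj, by rw [hcq, Nat.card_fin]⟩
  obtain ⟨i, hi⟩ := hbij.2 (π ⟨s, hs⟩)
  have key : ∀ {a : G} (ha : a ∈ d.normBase), π ⟨a, ha⟩ = π ⟨s, hs⟩ →
      s = a * (a⁻¹ * s) ∧ a⁻¹ * s ∈ d.base := fun ha e =>
    ⟨(mul_inv_cancel_left _ _).symm, hne ha hs e⟩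
  fin_cases i
  · exact Or.inl (by simpa using (key (one_mem _) hi).2)
  · obtain ⟨e, hb⟩ := key hc hi
    refine Or.inr (Or.inl ⟨e ▸ (pres_c d h).mul d h (pres_base d h hb), fun hsb => ?_⟩)
    refine c_not_mem d h hf ?_
    have := mul_mem hsb (inv_mem hb)
    simpa [mul_assoc] using this
  · obtain ⟨e, hb⟩ := key hg hi
    exact Or.inr (Or.inr (e ▸ (swaps_g d h).mul d h (pres_base d h hb)))
  · obtain ⟨e, hb⟩ := key (mul_mem hg hc) hi
    exact Or.inr (Or.inr (e ▸ hgc.mul d h (pres_base d h hb)))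

/-- The elementary abelian group of order sixteen. -/
def R : Subgroup G := (K.prod K).map (F d h)

theorem mem_R {r : G} : r ∈ R d h ↔ ∃ a ∈ K, ∃ b ∈ K, F d h (a, b) = r := by
  constructor
  · rintro ⟨⟨a, b⟩, ⟨ha, hb⟩, rfl⟩
    exact ⟨a, ha, b, hb, rfl⟩
  · rintro ⟨a, ha, b, hb, rfl⟩
    exact ⟨(a, b), ⟨ha, hb⟩, rfl⟩

theorem R_le : R d h ≤ d.base := by
  rw [← F_range d h]
  exact Subgroup.map_le_range _ _

theorem R_comm {x y : G} (hx : x ∈ R d h) (hy : y ∈ R d h) : x * y = y * x := by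
  obtain ⟨a, ha, b, hb, rfl⟩ := (mem_R d h).1 hx
  obtain ⟨a', ha', b', hb', rfl⟩ := (mem_R d h).1 hy
  rw [← map_mul, ← map_mul, Prod.mk_mul_mk, Prod.mk_mul_mk, K_comm a ha a' ha', K_comm b hb b' hb']

theorem card_R (hf : ExcFacts d) : Nat.card (R d h) = 16 := by
  rw [R, Subgroup.card_map_of_injective (F_inj d h hf),
    Nat.card_congr (Subgroup.prodEquiv K K).toEquiv, Nat.card_prod, card_K]

theorem isPGroup_R (hf : ExcFacts d) : IsPGroup 2 (R d h) :=
  IsPGroup.of_card (n := 4) (by rw [card_R d h hf]; norm_num)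

include h in
theorem CV_le [Finite G] (hf : ExcFacts d) : d.CV ≤ d.base := by
  have hle : (K.prod (⊤ : Subgroup A5)).map (F d h) ≤ d.CV := by
    rintro _ ⟨⟨a, b⟩, ⟨ha, -⟩, rfl⟩
    have ha' := mem_K.1 ha
    rw [Data.CV, Subgroup.mem_centralizer_iff]
    rintro y (rfl | rfl)
    · rw [← (F_t5 d h).1, ← map_mul, ← map_mul, Prod.mk_mul_mk, Prod.mk_mul_mk, one_mul, mul_one, ha'.1]
    · rw [show d.φ vP = F d h (v5, 1) from (F_left d h v5).symm, ← map_mul, ← map_mul,
        Prod.mk_mul_mk, Prod.mk_mul_mk, one_mul, mul_one, ha'.2]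
  have hcard : Nat.card ((K.prod (⊤ : Subgroup A5)).map (F d h)) = 240 := by
    rw [Subgroup.card_map_of_injective (F_inj d h hf),
      Nat.card_congr (Subgroup.prodEquiv K ⊤).toEquiv, Nat.card_prod, card_K, Subgroup.card_top,
      Nat.card_eq_fintype_card]
    decide +kernel
  rw [← Subgroup.eq_of_le_of_card_ge hle (by rw [hcard, h.2.1]), ← F_range d h]
  exact Subgroup.map_le_range _ _

/-- No element outside the product centralises the first four group. -/
theorem mem_base_left [Finite G] (hf : ExcFacts d) {s : G}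
    (hc : ∀ a ∈ K, s * F d h (a, 1) * s⁻¹ = F d h (a, 1)) : s ∈ d.base := by
  refine CV_le d h hf ?_
  rw [Data.CV, Subgroup.mem_centralizer_iff]
  rintro y (rfl | rfl)
  · rw [← (F_t5 d h).1]
    exact (mul_inv_eq_iff_eq_mul.1 (hc t5 t5_mem.1)).symm
  · rw [show d.φ vP = F d h (v5, 1) from (F_left d h v5).symm]
    exact (mul_inv_eq_iff_eq_mul.1 (hc v5 t5_mem.2.1)).symm

/-- No element outside the product centralises the second four group. -/
theorem mem_base_right [Finite G] (hf : ExcFacts d) {s : G}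
    (hc : ∀ a ∈ K, s * F d h (1, a) * s⁻¹ = F d h (1, a)) : s ∈ d.base := by
  have h' : d.g⁻¹ * s * d.g ∈ d.base := mem_base_left d h hf fun a ha => by
    have e := hc a ha
    rw [← g_left d h a] at e
    calc d.g⁻¹ * s * d.g * F d h (a, 1) * (d.g⁻¹ * s * d.g)⁻¹
        = d.g⁻¹ * (s * (d.g * F d h (a, 1) * d.g⁻¹) * s⁻¹) * d.g := by group
      _ = F d h (a, 1) := by rw [e]; group
  have := (Subgroup.mem_normalizer_iff.1 (g_mem d h) _).1 h'
  simpa [mul_assoc] using this

theorem inf_base_eq [Finite G] (hf : ExcFacts d) {S : Subgroup G} (hS : S ≤ d.normBase)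
    (hp : IsPGroup 2 S) (hR : R d h ≤ S) : S ⊓ d.base = R d h := by
  refine (Subgroup.eq_of_le_of_card_ge (le_inf hR (R_le d h)) ?_).symm
  rw [card_R d h hf]
  have h1 := (Subgroup.card_dvd_of_le (inf_le_left : S ⊓ d.base ≤ S)).trans (two_le d hf hS hp)
  have h2 := Subgroup.card_dvd_of_le (inf_le_right : S ⊓ d.base ≤ d.base)
  rw [card_base d hf] at h2
  have := Nat.le_of_dvd (by norm_num) (Nat.dvd_gcd h1 h2)
  norm_num at this ⊢
  exact this

/-- A subgroup of order `64` centralises no involution of one factor. -/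
theorem no_fix [Finite G] (hf : ExcFacts d) {S : Subgroup G} (hS : S ≤ d.normBase)
    (hc : Nat.card S = 64) {a b : A5} (hab : a = 1 ∨ b = 1)
    (hfix : ∀ s ∈ S, s * F d h (a, b) * s⁻¹ = F d h (a, b)) : a = 1 ∧ b = 1 := by
  obtain ⟨s, hs, hb'⟩ := meets_coset d hf hS hc (g_mem d h)
  have hsw : Swaps d h s := by
    have := (swaps_g d h).mul d h (pres_base d h hb')
    rwa [mul_inv_cancel_left] at this
  have e := hfix s hs
  rcases hab with rfl | rfl
  · obtain ⟨b', hb''⟩ := hsw.2 b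
    rw [hb''] at e
    exact ⟨rfl, (Prod.mk.inj (F_inj d h hf e)).2.symm⟩
  · obtain ⟨a', ha''⟩ := hsw.1 a
    rw [ha''] at e
    exact ⟨(Prod.mk.inj (F_inj d h hf e)).1.symm, rfl⟩

theorem card_le_two {L : Subgroup A5} (hle : L ≤ K) (hne : L ≠ K) : Nat.card L ≤ 2 := by
  have hd := Subgroup.card_dvd_of_le hle
  rw [card_K] at hd
  have hn : Nat.card L ≠ 4 := fun e => hne (Subgroup.eq_of_le_of_card_ge hle (by rw [card_K, e]))
  have h4 := Nat.le_of_dvd (by norm_num) hd
  have h3 : Nat.card L ≠ 3 := by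
    intro e
    rw [e] at hd
    norm_num at hd
  omega

/-- The elements of the first four group fixed by `s`. -/
def fixL (s : G) : Subgroup A5 :=
  K ⊓ (Subgroup.centralizer ({s} : Set G)).comap ((F d h).comp (MonoidHom.inl A5 A5))

/-- The elements of the second four group fixed by `s`. -/
def fixR (s : G) : Subgroup A5 :=
  K ⊓ (Subgroup.centralizer ({s} : Set G)).comap ((F d h).comp (MonoidHom.inr A5 A5))

theorem mem_fixL {s : G} {a : A5} :
    a ∈ fixL d h s ↔ a ∈ K ∧ s * F d h (a, 1) * s⁻¹ = F d h (a, 1) := by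
  rw [fixL, Subgroup.mem_inf, Subgroup.mem_comap, Subgroup.mem_centralizer_singleton_iff,
    mul_inv_eq_iff_eq_mul]
  exact and_congr_right fun _ => eq_comm

theorem mem_fixR {s : G} {a : A5} :
    a ∈ fixR d h s ↔ a ∈ K ∧ s * F d h (1, a) * s⁻¹ = F d h (1, a) := by
  rw [fixR, Subgroup.mem_inf, Subgroup.mem_comap, Subgroup.mem_centralizer_singleton_iff,
    mul_inv_eq_iff_eq_mul]
  exact and_congr_right fun _ => eq_comm

theorem card_fix_le [Finite G] (hf : ExcFacts d) {s : G} (hs : s ∉ d.base) :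
    Nat.card (fixL d h s) ≤ 2 ∧ Nat.card (fixR d h s) ≤ 2 := by
  refine ⟨card_le_two inf_le_left fun e => hs (mem_base_left d h hf fun a ha => ?_),
    card_le_two inf_le_left fun e => hs (mem_base_right d h hf fun a ha => ?_)⟩
  · exact ((mem_fixL d h).1 (e ▸ ha)).2
  · exact ((mem_fixR d h).1 (e ▸ ha)).2

theorem pres_fix (hf : ExcFacts d) {s : G} (hp : Pres d h s) {a b : A5} (ha : a ∈ K) (hb : b ∈ K)
    (e : s * F d h (a, b) * s⁻¹ = F d h (a, b)) : a ∈ fixL d h s ∧ b ∈ fixR d h s := by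
  obtain ⟨a', hea⟩ := hp.1 a
  obtain ⟨b', heb⟩ := hp.2 b
  have : F d h (a', b') = F d h (a, b) := by
    rw [← e, show ((a', b') : A5 × A5) = (a', 1) * (1, b') by simp,
      show ((a, b) : A5 × A5) = (a, 1) * (1, b) by simp, map_mul, map_mul, ← hea, ← heb]
    group
  obtain ⟨h1, h2⟩ := Prod.mk.inj (F_inj d h hf this)
  subst h1 h2
  exact ⟨(mem_fixL d h).2 ⟨ha, hea⟩, (mem_fixR d h).2 ⟨hb, heb⟩⟩

theorem swaps_fix (hf : ExcFacts d) {s : G} (hp : Swaps d h s) {a b b₂ : A5}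
    (e : s * F d h (a, b) * s⁻¹ = F d h (a, b)) (e₂ : s * F d h (a, b₂) * s⁻¹ = F d h (a, b₂)) :
    b = b₂ := by
  obtain ⟨a', hea⟩ := hp.1 a
  have key : ∀ c : A5, s * F d h (a, c) * s⁻¹ = F d h (a, c) → c = a' := by
    intro c ec
    obtain ⟨c', hec⟩ := hp.2 c
    have : F d h (c', a') = F d h (a, c) := by
      rw [← ec, show ((c', a') : A5 × A5) = (1, a') * (c', 1) by simp,
        show ((a, c) : A5 × A5) = (a, 1) * (1, c) by simp, map_mul, map_mul, ← hea, ← hec]
      group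
    exact (Prod.mk.inj (F_inj d h hf this)).2.symm
  rw [key b e, key b₂ e₂]

theorem card_fixed_le [Finite G] (hf : ExcFacts d) {S : Subgroup G} (hS : S ≤ d.normBase)
    (hp : IsPGroup 2 S) (hR : R d h ≤ S) {s : G} (hs : s ∈ S) (hsR : s ∉ R d h) :
    Nat.card ↥(R d h ⊓ Subgroup.centralizer ({s} : Set G)) ≤ 4 := by
  have hsb : s ∉ d.base := fun hb => hsR (inf_base_eq d h hf hS hp hR ▸ ⟨hs, hb⟩)
  have hfix : ∀ {r : G}, r ∈ Subgroup.centralizer ({s} : Set G) → s * r * s⁻¹ = r := fun hr => by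
    rw [mul_inv_eq_iff_eq_mul]
    exact (Subgroup.mem_centralizer_singleton_iff.1 hr).symm
  have hex : ∀ r : ↥(R d h ⊓ Subgroup.centralizer ({s} : Set G)), ∃ a b : A5, a ∈ K ∧ b ∈ K ∧
      F d h (a, b) = r ∧ s * F d h (a, b) * s⁻¹ = F d h (a, b) := by
    intro r
    obtain ⟨a, ha, b, hb, e⟩ := (mem_R d h).1 r.2.1
    exact ⟨a, b, ha, hb, e, e.symm ▸ hfix r.2.2⟩
  choose fa fb hfa hfb hfe hfs using hex
  rcases pres_or_swaps d h hf (hS hs) with hb | ⟨hpr, -⟩ | hsw
  · exact absurd hb hsb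
  · obtain ⟨h1, h2⟩ := card_fix_le d h hf hsb
    refine (Nat.card_le_card_of_injective (β := fixL d h s × fixR d h s)
      (fun r => (⟨fa r, (pres_fix d h hf hpr (hfa r) (hfb r) (hfs r)).1⟩,
        ⟨fb r, (pres_fix d h hf hpr (hfa r) (hfb r) (hfs r)).2⟩)) ?_).trans ?_
    · intro r r' hrr
      simp only [Prod.mk.injEq, Subtype.mk.injEq] at hrr
      apply Subtype.ext
      rw [← hfe r, ← hfe r', hrr.1, hrr.2]
    · rw [Nat.card_prod]
      exact (Nat.mul_le_mul h1 h2).trans (by norm_num)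
  · refine (Nat.card_le_card_of_injective (β := K) (fun r => ⟨fa r, hfa r⟩) ?_).trans card_K.le
    intro r r' hrr
    simp only [Subtype.mk.injEq] at hrr
    apply Subtype.ext
    rw [← hfe r, ← hfe r', hrr]
    have e2 := hfs r'
    rw [← hrr] at e2
    rw [swaps_fix d h hf hsw (hfs r) e2]

theorem card_center_le [Finite G] (hf : ExcFacts d) {S : Subgroup G} (hS : S ≤ d.normBase)
    (hc : Nat.card S = 64) :
    Nat.card ↥(R d h ⊓ Subgroup.centralizer (S : Set G)) ≤ 2 := by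
  obtain ⟨s, hs, hb'⟩ := meets_coset d hf hS hc (c_mem d hf)
  have hpr : Pres d h s := by
    have := (pres_c d h).mul d h (pres_base d h hb')
    rwa [mul_inv_cancel_left] at this
  have hsb : s ∉ d.base := fun hsb => c_not_mem d h hf (by
    simpa [mul_assoc] using mul_mem hsb (inv_mem hb'))
  have hfix : ∀ {r : G}, r ∈ Subgroup.centralizer (S : Set G) → ∀ u ∈ S, u * r * u⁻¹ = r :=
    fun hr u hu => by
      rw [mul_inv_eq_iff_eq_mul]
      exact Subgroup.mem_centralizer_iff.1 hr u hu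
  have hex : ∀ r : ↥(R d h ⊓ Subgroup.centralizer (S : Set G)), ∃ a b : A5, a ∈ K ∧ b ∈ K ∧
      F d h (a, b) = r ∧ ∀ u ∈ S, u * F d h (a, b) * u⁻¹ = F d h (a, b) := by
    intro r
    obtain ⟨a, ha, b, hb, e⟩ := (mem_R d h).1 r.2.1
    exact ⟨a, b, ha, hb, e, e.symm ▸ hfix r.2.2⟩
  choose fa fb hfa hfb hfe hfs using hex
  refine (Nat.card_le_card_of_injective (β := fixL d h s)
    (fun r => ⟨fa r, (pres_fix d h hf hpr (hfa r) (hfb r) (hfs r s hs)).1⟩) ?_).trans
      (card_fix_le d h hf hsb).1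
  intro r r' hrr
  simp only [Subtype.mk.injEq] at hrr
  apply Subtype.ext
  rw [← hfe r, ← hfe r', hrr]
  have e := (no_fix d h hf hS hc (a := 1) (b := (fb r)⁻¹ * fb r') (Or.inl rfl) fun u hu => ?_).2
  · rw [inv_mul_eq_one.1 e]
  · have h1 := hfs r u hu
    have h2 := hfs r' u hu
    rw [← hrr] at h2
    rw [show ((1, (fb r)⁻¹ * fb r') : A5 × A5) = (fa r, fb r)⁻¹ * (fa r, fb r') by simp,
      map_mul, map_inv]
    calc u * ((F d h (fa r, fb r))⁻¹ * F d h (fa r, fb r')) * u⁻¹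
        = (u * F d h (fa r, fb r) * u⁻¹)⁻¹ * (u * F d h (fa r, fb r') * u⁻¹) := by group
      _ = _ := by rw [h1, h2]

end SylowBProof

open SylowBProof in
/-- A Sylow two subgroup of the normaliser is one of the group. -/
theorem sylowB : SylowBStmt.{u} := by
  intro G _ _ d h hf hCt h128
  haveI : Fact (Nat.Prime 2) := ⟨Nat.prime_two⟩
  set M := d.normBase
  -- a Sylow two subgroup of the normaliser containing `R`
  have hRM : R d h ≤ M := (R_le d h).trans (base_le d)
  obtain ⟨SM, hSM⟩ := ((isPGroup_R d h hf).comap_of_injective M.subtype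
    M.subtype_injective).exists_le_sylow
  set S : Subgroup G := (SM : Subgroup M).map M.subtype with hSdef
  have hSle : S ≤ M := Subgroup.map_subtype_le _
  have hSp : IsPGroup 2 S := SM.isPGroup'.map _
  have hRS : R d h ≤ S := fun r hr => ⟨⟨r, hRM hr⟩, hSM (Subgroup.mem_comap.2 hr), rfl⟩
  have hSc : Nat.card S = 64 := by
    refine Nat.dvd_antisymm (two_le d hf hSle hSp) ?_
    rw [hSdef, Subgroup.card_map_of_injective M.subtype_injective]
    exact SM.pow_dvd_card_of_pow_dvd_card (n := 6) (by rw [card_normBase d hf]; norm_num)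
  obtain ⟨P, hP⟩ := hSp.exists_le_sylow
  have hlt : S < (P : Subgroup G) := by
    refine lt_of_le_of_ne hP fun e => ?_
    have h' := P.pow_dvd_card_of_pow_dvd_card (n := 7) h128
    rw [← e, hSc] at h'
    norm_num at h'
  -- an element of `P` outside `M` normalising `S`
  haveI := P.isPGroup'.isNilpotent
  have hnc := Group.normalizerCondition_of_isNilpotent (G := ↥(P : Subgroup G))
    (S.subgroupOf P) (lt_top_iff_ne_top.2 fun e => hlt.not_ge (Subgroup.subgroupOf_eq_top.1 e))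
  obtain ⟨x', hx'n, hx'S⟩ := SetLike.exists_of_lt hnc
  set x : G := (x' : G) with hxdef
  have hxS : x ∉ S := fun e => hx'S (Subgroup.mem_subgroupOf.2 e)
  have hxn : ∀ s ∈ S, x * s * x⁻¹ ∈ S := fun s hs =>
    (Subgroup.mem_normalizer_iff.1 hx'n ⟨s, hP hs⟩).1 hs
  have hxM : x ∉ M := by
    intro hxM
    have hle : S ≤ (P : Subgroup G) ⊓ M := le_inf hP hSle
    have hp' : IsPGroup 2 ↥((P : Subgroup G) ⊓ M) := P.isPGroup'.to_le inf_le_left
    have := Nat.le_of_dvd (by norm_num) (two_le d hf inf_le_right hp')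
    have e := Subgroup.eq_of_le_of_card_ge hle (by rw [hSc]; exact this)
    exact hxS (e.symm ▸ ⟨x'.2, hxM⟩)
  -- `x` normalises `R`
  have hxR : ∀ r ∈ R d h, x * r * x⁻¹ ∈ R d h := by
    by_contra hne
    push Not at hne
    obtain ⟨r₀, hr₀, hr₀'⟩ := hne
    set R' : Subgroup G := (R d h).map (MulAut.conj x).toMonoidHom
    have hR'S : R' ≤ S := by
      rintro _ ⟨r, hr, rfl⟩
      exact hxn r (hRS hr)
    have hR'c : ∀ {a b : G}, a ∈ R' → b ∈ R' → a * b = b * a := by
      rintro _ _ ⟨a, ha, rfl⟩ ⟨b, hb, rfl⟩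
      rw [← map_mul, ← map_mul, R_comm d h ha hb]
    have hs₀ : x * r₀ * x⁻¹ ∈ R' := ⟨r₀, hr₀, rfl⟩
    have hle : R d h ⊓ R' ≤ R d h ⊓ Subgroup.centralizer ({x * r₀ * x⁻¹} : Set G) := fun r hr =>
      ⟨hr.1, Subgroup.mem_centralizer_singleton_iff.2 (hR'c hr.2 hs₀)⟩
    have h4 : Nat.card ↥(R d h ⊓ R') ≤ 4 :=
      (Subgroup.card_le_of_le hle).trans
        (card_fixed_le d h hf hSle hSp hRS (hR'S hs₀) hr₀')
    have hcR' : Nat.card R' = 16 := by
      rw [Subgroup.card_map_of_injective (MulAut.conj x).injective, card_R d h hf]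
    -- the product map
    let m : ↥(R d h) × ↥R' → S := fun y => ⟨(y.1 : G) * y.2, mul_mem (hRS y.1.2) (hR'S y.2.2)⟩
    have hfib : ∀ z : S, Nat.card {y // m y = z} ≤ 4 := by
      intro z
      rcases isEmpty_or_nonempty {y // m y = z} with he | ⟨⟨y₀, hy₀⟩⟩
      · rw [Nat.card_of_isEmpty]; omega
      refine le_trans (Nat.card_le_card_of_injective
        (fun y => (⟨(y₀.1 : G)⁻¹ * (y.1.1 : G), ?_⟩ : ↥(R d h ⊓ R'))) ?_) h4
      · refine Subgroup.mem_inf.2 ⟨mul_mem (inv_mem y₀.1.2) y.1.1.2, ?_⟩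
        have e : (y.1.1 : G) * y.1.2 = (y₀.1 : G) * y₀.2 := congrArg Subtype.val (y.2.trans hy₀.symm)
        have e' : (y₀.1 : G)⁻¹ * (y.1.1 : G) = (y₀.2 : G) * (y.1.2 : G)⁻¹ := by
          rw [eq_mul_inv_iff_mul_eq, mul_assoc, e, inv_mul_cancel_left]
        show (y₀.1 : G)⁻¹ * (y.1.1 : G) ∈ R'
        rw [e']
        exact mul_mem y₀.2.2 (inv_mem y.1.2.2)
      · intro y y' hyy
        have e1 : (y.1.1 : G) = (y'.1.1 : G) := mul_left_cancel (congrArg Subtype.val hyy)
        have e2 : (y.1.1 : G) * y.1.2 = (y'.1.1 : G) * y'.1.2 :=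
          congrArg Subtype.val (y.2.trans y'.2.symm)
        rw [e1] at e2
        exact Subtype.ext (Prod.ext (Subtype.ext e1) (Subtype.ext (mul_left_cancel e2)))
    haveI : Fintype S := Fintype.ofFinite _
    have hsum : 256 = ∑ z : S, Nat.card {y // m y = z} := by
      rw [← Nat.card_sigma, Nat.card_congr (Equiv.sigmaFiberEquiv m), Nat.card_prod, card_R d h hf,
        hcR']
    have hcS : Fintype.card S = 64 := by rw [← Nat.card_eq_fintype_card, hSc]
    have hfull : ∀ z : S, Nat.card {y // m y = z} = 4 := by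
      by_contra hne4
      push Not at hne4
      obtain ⟨z, hz⟩ := hne4
      have : ∑ z : S, Nat.card {y // m y = z} < ∑ _z : S, 4 :=
        Finset.sum_lt_sum (fun i _ => hfib i) ⟨z, Finset.mem_univ _, lt_of_le_of_ne (hfib z) hz⟩
      rw [← hsum, Finset.sum_const, Finset.card_univ, hcS, smul_eq_mul] at this
      omega
    -- the intersection is centralised by `S`
    have hcent : R d h ⊓ R' ≤ R d h ⊓ Subgroup.centralizer (S : Set G) := by
      intro r hr
      refine ⟨hr.1, Subgroup.mem_centralizer_iff.2 fun u hu => ?_⟩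
      have hne' : Nonempty {y // m y = ⟨u, hu⟩} := Nat.card_pos_iff.1 (by rw [hfull]; omega) |>.1
      obtain ⟨⟨y, hy⟩⟩ := hne'
      have hu' : (y.1 : G) * y.2 = u := congrArg Subtype.val hy
      rw [← hu', mul_assoc, ← hR'c hr.2 y.2.2, ← mul_assoc, R_comm d h y.1.2 hr.1, mul_assoc]
    have h4' : 4 ≤ Nat.card ↥(R d h ⊓ R') := by
      have h1z := hfull ⟨1, one_mem _⟩
      rw [← h1z]
      refine Nat.card_le_card_of_injective (fun y => (⟨(y.1.1 : G), Subgroup.mem_inf.2 ⟨y.1.1.2, ?_⟩⟩ : ↥(R d h ⊓ R'))) ?_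
      · have e : (y.1.1 : G) * y.1.2 = 1 := congrArg Subtype.val y.2
        rw [mul_eq_one_iff_eq_inv.1 e]
        exact inv_mem y.1.2.2
      · intro y y' hyy
        have e1 : (y.1.1 : G) = (y'.1.1 : G) := congrArg (fun w : ↥(R d h ⊓ R') => (w : G)) hyy
        have e2 : (y.1.1 : G) * y.1.2 = (y'.1.1 : G) * y'.1.2 :=
          congrArg Subtype.val (y.2.trans y'.2.symm)
        rw [e1] at e2
        exact Subtype.ext (Prod.ext (Subtype.ext e1) (Subtype.ext (mul_left_cancel e2)))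
    have := h4'.trans ((Subgroup.card_le_of_le hcent).trans (card_center_le d h hf hSle hSc))
    omega
  -- the image of `t`
  set t := d.φ tP
  have ht : F d h (t5, 1) = t := (F_t5 d h).1
  have htR : t ∈ R d h := (mem_R d h).2 ⟨t5, t5_mem.1, 1, one_mem _, ht⟩
  obtain ⟨a, ha, b, hb, hab⟩ := (mem_R d h).1 (hxR t htR)
  -- images of type `t` put `x` into `M`
  have hin : ∀ m ∈ M, m * t * m⁻¹ = x * t * x⁻¹ → False := by
    intro m hm e
    apply hxM
    have : m⁻¹ * x ∈ Subgroup.centralizer ({t} : Set G) := by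
      rw [Subgroup.mem_centralizer_singleton_iff]
      calc m⁻¹ * x * t = m⁻¹ * (x * t * x⁻¹) * x := by group
        _ = t * (m⁻¹ * x) := by rw [← e]; group
    simpa using mul_mem hm (hCt this)
  by_cases ha1 : a = 1
  · subst ha1
    by_cases hb1 : b = 1
    · subst hb1
      rw [← Prod.one_eq_mk, map_one] at hab
      rw [eq_comm, conj_eq_one_iff, ← ht, ← map_one (F d h)] at hab
      exact t5_mem.2.2 (Prod.mk.inj (F_inj d h hf hab)).1
    · obtain ⟨q, hq⟩ := exists_conj hb hb1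
      refine hin (F d h (1, q) * d.g) (mul_mem (base_le d (F_range d h ▸ ⟨_, rfl⟩)) (g_mem d h)) ?_
      rw [← hab, ← ht, ← hq]
      calc F d h (1, q) * d.g * F d h (t5, 1) * (F d h (1, q) * d.g)⁻¹
          = F d h (1, q) * (d.g * F d h (t5, 1) * d.g⁻¹) * (F d h (1, q))⁻¹ := by group
        _ = _ := by
            rw [g_left, ← map_inv, ← map_mul, ← map_mul]
            simp
  by_cases hb1 : b = 1
  · subst hb1
    obtain ⟨q, hq⟩ := exists_conj ha ha1
    refine hin (F d h (q, 1)) (base_le d (F_range d h ▸ ⟨_, rfl⟩)) ?_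
    rw [← hab, ← ht, ← hq, ← map_inv, ← map_mul, ← map_mul]
    simp
  -- a central involution of `S`
  letI : MulAction S (R d h) :=
    { smul := fun s r => ⟨(s : G) * r * (s : G)⁻¹, by
        exact (inf_base_eq d h hf hSle hSp hRS).le (Subgroup.mem_inf.2
          ⟨mul_mem (mul_mem s.2 (hRS r.2)) (inv_mem s.2),
            (Subgroup.mem_normalizer_iff.1 (hSle s.2) _).1 (R_le d h r.2)⟩)⟩
      one_smul := fun r => Subtype.ext (show (1 : G) * r * 1⁻¹ = r by group)
      mul_smul := fun s s' r => Subtype.ext (show ((s : G) * s') * r * ((s : G) * s')⁻¹ =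
        (s : G) * ((s' : G) * r * (s' : G)⁻¹) * (s : G)⁻¹ by group) }
  obtain ⟨z, hz, hz1⟩ := hSp.exists_fixed_point_of_prime_dvd_card_of_fixed_point (R d h)
    (by rw [card_R d h hf]; norm_num) (a := (1 : R d h))
    (fun s => Subtype.ext (show (s : G) * 1 * (s : G)⁻¹ = 1 by group))
  obtain ⟨a₀, ha₀, b₀, hb₀, hz0⟩ := (mem_R d h).1 z.2
  have hzfix : ∀ s ∈ S, s * F d h (a₀, b₀) * s⁻¹ = F d h (a₀, b₀) := fun s hs => by
    rw [hz0]; exact congrArg Subtype.val (hz ⟨s, hs⟩)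
  have hz01 : ¬ (a₀ = 1 ∧ b₀ = 1) := fun ⟨e1, e2⟩ => hz1 (Subtype.ext (by
    rw [← hz0, e1, e2, ← Prod.one_eq_mk, map_one]; rfl))
  have ha₀1 : a₀ ≠ 1 := fun e => hz01 (no_fix d h hf hSle hSc (Or.inl e) hzfix)
  have hb₀1 : b₀ ≠ 1 := fun e => hz01 (no_fix d h hf hSle hSc (Or.inr e) hzfix)
  obtain ⟨α, hα⟩ := exists_conj' ha₀ ha₀1 ha ha1
  obtain ⟨β, hβ⟩ := exists_conj' hb₀ hb₀1 hb hb1
  set k : G := x⁻¹ * F d h (α, β)
  have hk : F d h (α, β) * F d h (a₀, b₀) * (F d h (α, β))⁻¹ = x * t * x⁻¹ := by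
    rw [← hab, ← map_inv, ← map_mul, ← map_mul, ← hα, ← hβ]
    rfl
  set S' : Subgroup G := S.map (MulAut.conj k).toMonoidHom
  have hS't : ∀ s ∈ S', s * t * s⁻¹ = t := by
    rintro _ ⟨s, hs, rfl⟩
    show k * s * k⁻¹ * t * (k * s * k⁻¹)⁻¹ = t
    have e : k⁻¹ * t * k = F d h (a₀, b₀) := by
      calc k⁻¹ * t * k = (F d h (α, β))⁻¹ * (x * t * x⁻¹) * F d h (α, β) := by
            simp only [k]; group
        _ = _ := by rw [← hk]; group
    calc k * s * k⁻¹ * t * (k * s * k⁻¹)⁻¹ = k * (s * (k⁻¹ * t * k) * s⁻¹) * k⁻¹ := by group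
      _ = t := by rw [e, hzfix s hs, ← e]; group
  have hS'M : S' ≤ M := fun s hs => hCt (Subgroup.mem_centralizer_singleton_iff.2
    (mul_inv_eq_iff_eq_mul.1 (hS't s hs)))
  have hS'c : Nat.card S' = 64 := by
    rw [Subgroup.card_map_of_injective (MulAut.conj k).injective, hSc]
  exact t5_mem.2.2 (no_fix d h hf hS'M hS'c (a := t5) (b := 1) (Or.inr rfl)
    (fun s hs => by rw [ht]; exact hS't s hs)).1

end Cfsg.Agent.Lib.SymEightThree6
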