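import Cfsg.Agent.Lib.SymEightThree6.TopA
import Cfsg.Agent.Lib.Components.GenFitting
import Cfsg.Agent.Lib.Zass25.Structure

/-!
Assembly of the characterisation of `S8` and of the exceptional configuration.
-/

set_option autoImplicit false

namespace Cfsg.Agent.Lib.SymEightThree6

open Equiv Equiv.Perm

universe u

namespace TopProof

theorem two_cent : (Finset.univ.filter fun p : P35 => p * zP = zP * p ∧ p * aP = aP * p).card = 18 := by
  decide +kernel

variable {G : Type u} [Group G] [Finite G]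

theorem card_normalizer_le (d : Data G) :
    Nat.card (Subgroup.normalizer (Subgroup.closure ({d.φ zP, d.φ aP} : Set G) : Set G)) ≤ 1440 := by
  classical
  set D := Subgroup.closure ({d.φ zP, d.φ aP} : Set G) with hD
  set N := Subgroup.normalizer (D : Set G)
  have hz : d.φ zP ∈ D := Subgroup.subset_closure (Or.inl rfl)
  have ha : d.φ aP ∈ D := Subgroup.subset_closure (Or.inr rfl)
  have hDcard : Nat.card D ≤ 9 := by
    let f : ZMod 3 × ZMod 3 → G := fun q => d.φ zP ^ q.1.val * d.φ aP ^ q.2.val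
    have hcomm : Commute zP aP := by unfold Commute SemiconjBy; decide +kernel
    have hz3 : zP ^ 3 = 1 := by decide +kernel
    have ha3 : aP ^ 3 = 1 := by decide +kernel
    have hsub : (D : Set G) ⊆ Set.range f := by
      intro x hx
      obtain ⟨m, n, rfl⟩ : ∃ m n : ℕ, x = d.φ (zP ^ m * aP ^ n) := by
        induction hx using Subgroup.closure_induction with
        | mem x hx =>
          rcases hx with rfl | rfl
          · exact ⟨1, 0, by simp⟩
          · exact ⟨0, 1, by simp⟩
        | one => exact ⟨0, 0, by simp⟩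
        | mul x y _ _ hx hy =>
          obtain ⟨m, n, rfl⟩ := hx
          obtain ⟨m', n', rfl⟩ := hy
          exact ⟨m + m', n + n', by rw [← map_mul, pow_add, pow_add, (hcomm.pow_pow m' n).symm.mul_mul_mul_comm]⟩
        | inv x _ hx =>
          obtain ⟨m, n, rfl⟩ := hx
          refine ⟨2 * m, 2 * n, ?_⟩
          rw [← map_inv]
          refine congrArg _ (inv_eq_of_mul_eq_one_right ?_)
          rw [(hcomm.pow_pow (2 * m) n).symm.mul_mul_mul_comm, ← pow_add, ← pow_add,
            show m + 2 * m = 3 * m by ring, show n + 2 * n = 3 * n by ring, pow_mul, pow_mul, hz3, ha3,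
            one_pow, one_pow, mul_one]
      refine ⟨((m : ZMod 3), (n : ZMod 3)), ?_⟩
      simp only [f, ZMod.val_natCast]
      rw [map_mul, map_pow, map_pow]
      conv_rhs => rw [← Nat.mod_add_div m 3, ← Nat.mod_add_div n 3, pow_add, pow_add, pow_mul,
        pow_mul, ← map_pow d.φ zP 3, ← map_pow d.φ aP 3, hz3, ha3, map_one, one_pow, one_pow,
        mul_one, mul_one]
    calc Nat.card D ≤ Nat.card (Set.range f) := Nat.card_mono (Set.finite_range f) hsub
      _ ≤ Nat.card (ZMod 3 × ZMod 3) := Finite.card_range_le f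
      _ = 9 := by simp
  have key : ∀ x : N, ∀ y ∈ D, (x : G) * y * (x : G)⁻¹ ∈ D := fun x y hy =>
    (Subgroup.mem_normalizer_iff.1 x.2 y).1 hy
  let T := {x : D // x ≠ 1}
  have hne : ∀ p : P35, p ≠ 1 → d.φ p ≠ 1 := fun p hp h => hp (d.φ_inj (by rw [h, map_one]))
  let F : N → T × T := fun x =>
    (⟨⟨(x : G) * d.φ zP * (x : G)⁻¹, key x _ hz⟩, fun h => hne zP (by decide +kernel) (by
        simpa [mul_inv_eq_one] using congrArg Subtype.val h)⟩,
     ⟨⟨(x : G) * d.φ aP * (x : G)⁻¹, key x _ ha⟩, fun h => hne aP (by decide +kernel) (by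
        simpa [mul_inv_eq_one] using congrArg Subtype.val h)⟩)
  let _ := Fintype.ofFinite N
  have hfib : ∀ b : T × T, Nat.card {x : N // F x = b} ≤ 18 := by
    intro b
    by_cases hb : ∃ x0, F x0 = b
    swap
    · have : IsEmpty {x : N // F x = b} := ⟨fun x => hb ⟨x.1, x.2⟩⟩
      simp
    obtain ⟨x0, hx0⟩ := hb
    let S := {p : P35 // p * zP = zP * p ∧ p * aP = aP * p}
    have hmem : ∀ x : {x : N // F x = b}, ∃ p : S, d.φ p.1 = (x0 : G)⁻¹ * (x.1 : G) := by
      rintro ⟨x, hx⟩
      have h := hx.trans hx0.symm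
      have h1 : (x : G) * d.φ zP * (x : G)⁻¹ = (x0 : G) * d.φ zP * (x0 : G)⁻¹ :=
        congrArg (fun t : T × T => (t.1.1 : G)) h
      have h2 : (x : G) * d.φ aP * (x : G)⁻¹ = (x0 : G) * d.φ aP * (x0 : G)⁻¹ :=
        congrArg (fun t : T × T => (t.2.1 : G)) h
      have e : ∀ y : G, (x : G) * y * (x : G)⁻¹ = (x0 : G) * y * (x0 : G)⁻¹ →
          (x0 : G)⁻¹ * x * y = y * ((x0 : G)⁻¹ * x) := fun y hy => by
        calc (x0 : G)⁻¹ * x * y = (x0 : G)⁻¹ * ((x : G) * y * (x : G)⁻¹) * x := by group
          _ = (x0 : G)⁻¹ * ((x0 : G) * y * (x0 : G)⁻¹) * x := by rw [hy]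
          _ = _ := by group
      obtain ⟨p, hp⟩ : (x0 : G)⁻¹ * x ∈ d.φ.range := by
        rw [d.φ_range]
        refine Subgroup.centralizer_le_normalizer _ (Subgroup.mem_centralizer_iff.2 ?_)
        rintro _ ⟨k, rfl⟩
        exact ((show Commute (d.φ zP) ((x0 : G)⁻¹ * x) from (e _ h1).symm).zpow_left k).eq
      exact ⟨⟨p, d.φ_inj (by rw [map_mul, map_mul, hp, e _ h1]),
        d.φ_inj (by rw [map_mul, map_mul, hp, e _ h2])⟩, hp⟩
    choose P hP using hmem
    calc Nat.card {x : N // F x = b} ≤ Nat.card S :=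
          Nat.card_le_card_of_injective P fun x y h => Subtype.ext (Subtype.ext
            (mul_left_cancel (a := (x0 : G)⁻¹) (by rw [← hP x, ← hP y, h])))
      _ = 18 := by
          rw [Nat.card_eq_fintype_card, Fintype.card_subtype]
          exact two_cent
  have hT : Nat.card T ≤ 8 := by
    have h : Nat.card T = Nat.card D - 1 := by
      let _ := Fintype.ofFinite D
      simp [T, Nat.card_eq_fintype_card, Fintype.card_subtype_compl]
    omega
  let _ := Fintype.ofFinite (T × T)
  calc Nat.card N = ∑ b : T × T, Nat.card {x : N // F x = b} := by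
        rw [← Nat.card_sigma]
        exact (Nat.card_congr (Equiv.sigmaFiberEquiv F)).symm
    _ ≤ ∑ _b : T × T, 18 := Finset.sum_le_sum fun b _ => hfib b
    _ = Nat.card T * Nat.card T * 18 := by
        rw [Finset.sum_const, smul_eq_mul, Finset.card_univ, ← Nat.card_eq_fintype_card, Nat.card_prod]
    _ ≤ 8 * 8 * 18 := by gcongr
    _ ≤ 1440 := by norm_num

theorem card_centC_le (hC : CentCStmt.{u}) (d : Data G) :
    Nat.card (Subgroup.centralizer ({d.φ cP} : Set G)) ≤ 1440 := by
  rcases hC G d with h | ⟨f, hf, hk⟩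
  · exact le_trans (Subgroup.card_le_of_le h) (card_normalizer_le d)
  · rw [f.ker.card_eq_card_quotient_mul_card_subgroup,
      Nat.card_congr (QuotientGroup.quotientKerEquivOfSurjective f hf).toEquiv]
    have hker : Nat.card f.ker ≤ 2 := by
      have h2 : Nat.card (Subgroup.zpowers (d.φ cP)) ≤ 2 := by
        rw [Nat.card_zpowers]
        exact orderOf_le_of_pow_eq_one (by norm_num)
          (by rw [← map_pow, show cP ^ 2 = 1 by decide +kernel, map_one])
      refine le_trans ?_ h2
      exact Nat.card_le_card_of_injective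
        (fun x : f.ker => (⟨(x : G), (hk _).1 x.2⟩ : Subgroup.zpowers (d.φ cP)))
        fun x y h => Subtype.ext (Subtype.ext (congrArg (fun t : Subgroup.zpowers (d.φ cP) => (t : G)) h))
    calc _ ≤ Nat.card (Perm (Fin 6)) * 2 := by gcongr
      _ = 1440 := by simp [Nat.card_eq_fintype_card, Fintype.card_perm, Nat.factorial]

theorem fitting_eq (d : Data G) (hF : ExcFacts d) (htop : d.normBase = ⊤) :
    d.base.Normal ∧ Cfsg.generalizedFittingSubgroup G = d.base ∧ d.base.index = 4 := by
  have hn : d.base.Normal := Subgroup.normalizer_eq_top_iff.1 htop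
  have hmin : ∀ K : Subgroup G, K.Normal → K ≤ d.base → K = ⊥ ∨ K = d.base := fun K hK hle =>
    hF.minimal K hle fun g _ x hx => hK.conj_mem x hx g
  have hidx : d.base.index = 4 := by
    have h := hF.index
    rw [htop, Subgroup.relIndex_top_right] at h
    exact h
  have hns : ¬ Group.IsSolvable d.base := fun h => by
    obtain ⟨e⟩ := hF.base_iso
    exact Zass25.alternating_five_not_solvable (Group.isSolvable_of_surjective
      (f := (MonoidHom.fst _ _).comp e.toMonoidHom) fun x => ⟨e.symm (x, 1), by simp⟩)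
  have hgn := Components.generalizedFittingSubgroup_normal (G := G)
  have hne : d.base ≠ ⊥ := fun h => hns (by rw [h]; infer_instance)
  have hle : d.base ≤ Cfsg.generalizedFittingSubgroup G := by
    rcases hmin (d.base ⊓ Cfsg.generalizedFittingSubgroup G) inferInstance inf_le_left with h | h
    · exfalso
      have hc : d.base ≤ Subgroup.centralizer (Cfsg.generalizedFittingSubgroup G : Set G) :=
        Subgroup.le_centralizer_iff.1 fun x hx => Subgroup.mem_centralizer_iff.2 fun y hy =>
          (Subgroup.commute_of_normal_of_disjoint _ _ hn hgn (disjoint_iff.2 h) y x hy hx).eq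
      exact hne (le_bot_iff.1 (h ▸ le_inf le_rfl (hc.trans Components.centralizer_generalizedFittingSubgroup_le)))
    · exact inf_eq_left.1 h
  have hfit : Cfsg.fittingSubgroup G = ⊥ := by
    have hfn := Components.fittingSubgroup_normal (G := G)
    have hdis : d.base ⊓ Cfsg.fittingSubgroup G = ⊥ := by
      rcases hmin (d.base ⊓ Cfsg.fittingSubgroup G) inferInstance inf_le_left with h | h
      · exact h
      · exact absurd (Components.isSolvable_subgroup_mono (inf_eq_left.1 h)
          Components.fittingSubgroup_isSolvable) hns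
    have hc : Cfsg.fittingSubgroup G ≤ Subgroup.centralizer (d.base : Set G) :=
      fun x hx => Subgroup.mem_centralizer_iff.2 fun y hy =>
        (Subgroup.commute_of_normal_of_disjoint _ _ hn hfn (disjoint_iff.2 hdis) y x hy hx).eq
    exact le_bot_iff.1 (hc.trans hF.cent_base.le)
  refine ⟨hn, le_antisymm ?_ hle, hidx⟩
  rw [Cfsg.generalizedFittingSubgroup, hfit, sup_bot_eq]
  have hsq : ∀ q : G ⧸ d.base, q ^ 2 = 1 := by
    intro q
    obtain ⟨x, rfl⟩ := QuotientGroup.mk_surjective q
    rw [← QuotientGroup.mk_pow, QuotientGroup.eq_one_iff]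
    exact hF.sq x (htop ▸ Subgroup.mem_top x)
  have hcomm : ∀ a b : G ⧸ d.base, a * b = b * a := fun a b => by
    have hi : ∀ q : G ⧸ d.base, q⁻¹ = q := fun q => inv_eq_of_mul_eq_one_right (by rw [← pow_two, hsq])
    calc a * b = (a * b)⁻¹ := (hi _).symm
      _ = b⁻¹ * a⁻¹ := mul_inv_rev a b
      _ = b * a := by rw [hi, hi]
  rw [← Components.layer_commutator_self, Subgroup.commutator_le]
  intro x _ y _
  rw [← QuotientGroup.eq_one_iff]
  simp only [commutatorElement_def, QuotientGroup.mk_mul, QuotientGroup.mk_inv]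
  rw [hcomm (x : G ⧸ d.base) y]
  group

end TopProof

/-- The theorem from its bricks. -/
theorem main_of (hS : SetupStmt.{u}) (hC : CentCStmt.{u}) (hD : DichStmt.{u}) (hDC : DoubleCStmt.{u})
    (hBT : BadTransStmt.{u}) (hBD : BadDoubleStmt.{u}) (hE : EmbStmt.{u}) (hTA : TransferAStmt.{u})
    (hX : ExcBasicStmt.{u}) (hT : CentTStmt.{u}) (hSy : SylowBStmt.{u}) (hCE : CentEBStmt.{u})
    (hF : FinishBStmt.{u})
    (G : Type u) [Group G] [Finite G]
    (P : Sylow 3 G) (D : Subgroup G) (hDP : D = P) (y z : G) (hgen : Subgroup.closure {y, z} = D)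
    (hcomm : IsMulCommutative D) (hcard : Nat.card D = 9) (hexp : ∀ a ∈ D, a ^ 3 = 1)
    (hCD : Nat.card (Subgroup.centralizer (D : Set G)) = 18)
    (eN : Subgroup.normalizer (D : Set G) ⧸ D.subgroupOf (Subgroup.normalizer (D : Set G)) ≃*
      DihedralGroup 4 × Multiplicative (ZMod 2))
    (hy : Nat.card (Subgroup.centralizer ({y} : Set G)) = 36)
    (hysq : ∀ g ∈ Subgroup.centralizer ({y} : Set G), g ^ 2 ∈ D)
    (eC : Subgroup.centralizer ({z} : Set G) ≃* Multiplicative (ZMod 3) × Perm (Fin 5))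
    (eL : Subgroup.normalizer (Subgroup.zpowers z : Set G) ≃* P35) :
    Nonempty (G ≃* Perm (Fin 8)) ∨
      ∃ N : Subgroup G, N.Normal ∧ Cfsg.generalizedFittingSubgroup G = N ∧
        Nonempty (N ≃* alternatingGroup (Fin 5) × alternatingGroup (Fin 5)) ∧
        (∀ K : Subgroup G, K.Normal → K ≤ N → K = ⊥ ∨ K = N) ∧
        N.index = 4 ∧ ∀ g : G, g ^ 2 ∈ N := by
  obtain ⟨d⟩ := hS G P D hDP y z hgen hcomm hcard hexp hCD ⟨eN⟩ hy hysq ⟨eC⟩ ⟨eL⟩
  rcases hD G d with h24 | ⟨d', -, hgood | hexc⟩
  · exfalso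
    rcases d.trans_or_double with ht | hd
    · exact hBT G d ht h24
    · exact hBD G d hd (hDC G d hd (Or.inl h24)) h24
  · left
    obtain ⟨θ, hθ⟩ := hE G d' hgood (TopProof.card_centC_le hC d')
    obtain ⟨G0, h2, h0⟩ := hTA G θ hθ
    have htop := range_eq_top hθ h2 h0
    exact ⟨((MulEquiv.subgroupCongr htop).trans Subgroup.topEquiv).symm.trans
      (MonoidHom.ofInjective hθ.inj).symm⟩
  · right
    have hCc := hDC G d' hexc.1 (Or.inr hexc)
    have hX' := hX G d' hexc hCc
    have hT' := hT G d' hexc hX'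
    have h128 := hSy G d' hexc hX' hT'
    have htop := hF G d' hexc hX' hT' h128 (hCE G d' hexc hX' hT' h128)
    obtain ⟨hn, hfs, hidx⟩ := TopProof.fitting_eq d' hX' htop
    refine ⟨d'.base, hn, hfs, hX'.base_iso, fun K hK hle => ?_, hidx,
      fun g => hX'.sq g (htop ▸ Subgroup.mem_top g)⟩
    exact hX'.minimal K hle fun g _ x hx => hK.conj_mem x hx g

end Cfsg.Agent.Lib.SymEightThree6
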