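import Cfsg.Agent.Lib.SymEightThree6.Spec
import Cfsg.Agent.Lib.AltEightThree6.CentT
import Cfsg.Agent.Lib.AltEightThree6.CentE
import Cfsg.Agent.Lib.AltEightThree6.Top

/-!
A copy of `S8` meeting a subgroup of index two outside its transpositions is the whole group.
-/

set_option autoImplicit false

namespace Cfsg.Agent.Lib.SymEightThree6

open Equiv Equiv.Perm

universe u

namespace TopAProof

variable {G : Type u} [Group G]

theorem mem_iff_sign {θ : Perm (Fin 8) →* G} {G0 : Subgroup G} (h2 : G0.index = 2)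
    (h0 : θ (swap 0 1) ∉ G0) (p : Perm (Fin 8)) : θ p ∈ G0 ↔ Perm.sign p = 1 := by
  have hn : G0.Normal := Subgroup.normal_of_index_eq_two h2
  induction p using Perm.swap_induction_on with
  | one => simp
  | swap_mul f x y hxy ih =>
    have hs : θ (swap x y) ∉ G0 := by
      intro hm
      obtain ⟨σ, hσ⟩ := isConj_iff.1 (Perm.isConj_swap hxy (show (0 : Fin 8) ≠ 1 by decide))
      exact h0 (hσ ▸ by simpa using hn.conj_mem _ hm (θ σ))
    rw [map_mul, Subgroup.mul_mem_iff_of_index_two h2, map_mul, Perm.sign_swap hxy]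
    rcases Int.units_eq_one_or (Perm.sign f) with h | h
    · simp [h, hs, ih.2 h]
    · have : θ f ∉ G0 := fun hm => by rw [ih.1 hm] at h; exact absurd h (by decide)
      simp [h, hs, this]

end TopAProof

open TopAProof in
/-- A copy of `S8` with a subgroup of index two is the whole group. -/
theorem range_eq_top {G : Type u} [Group G] [Finite G] {θ : Perm (Fin 8) →* G} (hE : Emb θ)
    {G0 : Subgroup G} (h2 : G0.index = 2) (h0 : θ (swap 0 1) ∉ G0) : θ.range = ⊤ := by
  let θ0 : AltEightThree6.A8 →* G0 :=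
    (θ.comp (alternatingGroup (Fin 8)).subtype).codRestrict G0 fun p =>
      (mem_iff_sign h2 h0 _).2 (Perm.mem_alternatingGroup.1 p.2)
  have hrange : ∀ x : G0, (x : G) ∈ θ.range → x ∈ θ0.range := by
    rintro x ⟨p, hp⟩
    exact ⟨⟨p, Perm.mem_alternatingGroup.2 ((mem_iff_sign h2 h0 p).1 (hp ▸ x.2))⟩, Subtype.ext hp⟩
  have hc : ∀ {i : AltEightThree6.A8}, Subgroup.centralizer ({θ (i : Perm (Fin 8))} : Set G) ≤ θ.range →
      Subgroup.centralizer ({θ0 i} : Set G0) ≤ θ0.range := by
    intro i hi x hx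
    refine hrange x (hi ?_)
    rw [Subgroup.mem_centralizer_singleton_iff] at hx ⊢
    exact congrArg Subtype.val hx
  have hE0 : AltEightThree6.Emb θ0 :=
    { inj := fun a b h => Subtype.ext (hE.inj (congrArg Subtype.val h))
      c3_le := hc hE.c3_le
      c33_le := hc hE.c33_le
      v_le := by
        intro x hx
        refine hrange x (hE.v_le ?_)
        rw [Subgroup.mem_centralizer_iff] at hx ⊢
        rintro y (rfl | rfl)
        · exact congrArg Subtype.val (hx _ (Or.inl rfl))
        · exact congrArg Subtype.val (hx _ (Or.inr rfl))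
      sylow := fun h => hE.sylow (h.trans G0.card_subgroup_dvd_card) }
  have h1 := AltEightThree6.centT G0 θ0 hE0
  have htop := AltEightThree6.top G0 θ0 hE0 h1 (AltEightThree6.centE G0 θ0 hE0 h1)
  rw [eq_top_iff]
  intro x _
  have key : ∀ y ∈ G0, y ∈ θ.range := fun y hy => by
    obtain ⟨p, hp⟩ := MonoidHom.range_eq_top.1 htop ⟨y, hy⟩
    exact ⟨(p : Perm (Fin 8)), congrArg Subtype.val hp⟩
  by_cases hx : x ∈ G0
  · exact key x hx
  · have hm : θ (swap 0 1) * x ∈ G0 :=
      (Subgroup.mul_mem_iff_of_index_two h2).2 ⟨fun h => absurd h h0, fun h => absurd h hx⟩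
    simpa using θ.range.mul_mem (θ.range.inv_mem ⟨swap 0 1, rfl⟩) (key _ hm)

end Cfsg.Agent.Lib.SymEightThree6
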