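import Cfsg.Agent.Lib.SymEightThree6.Spec
import Mathlib.GroupTheory.Transfer

/-!
Transfer to a group of order two from a copy of `S8` containing the relevant centralisers: the
transposition fixes exactly one coset of the copy.
-/

set_option autoImplicit false

namespace Cfsg.Agent.Lib.SymEightThree6

open Equiv Equiv.Perm

universe u

namespace TransferAProof

/-- The transposition. -/
abbrev tau : Perm (Fin 8) := swap 0 1

theorem card_cent_tau :
    Nat.card (Subgroup.centralizer ({tau} : Set (Perm (Fin 8)))) = 1440 := by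
  have h : tau.cycleType = Multiset.replicate 1 2 :=
    (Equiv.Perm.isSwap_iff_cycleType.1 ⟨0, 1, by decide, rfl⟩).trans rfl
  rw [Equiv.Perm.nat_card_centralizer, h]
  decide

theorem exists_rep {x : Perm (Fin 8)} (hx : orderOf x = 2) :
    (∃ h : Perm (Fin 8), h * tau * h⁻¹ = x) ∨
      ∃ (a r : Perm (Fin 8)) (k : Perm (Fin 8)),
        (k = (AltEightThree6.c3 : Perm (Fin 8)) ∨ k = (AltEightThree6.c33 : Perm (Fin 8))) ∧
        a * r * a⁻¹ = x ∧ r * k = k * r ∧
        ¬ 9 ∣ Nat.card (Subgroup.centralizer ({r} : Set (Perm (Fin 8)))) := by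
  have : Fact (Nat.Prime 2) := ⟨Nat.prime_two⟩
  obtain ⟨n, hn⟩ := Equiv.Perm.cycleType_prime_order (show (orderOf x).Prime by rw [hx]; exact Nat.prime_two)
  rw [hx] at hn
  have hle : x.cycleType.sum ≤ 8 := by
    rw [Equiv.Perm.sum_cycleType]
    exact (Finset.card_le_univ _).trans (by simp)
  rw [hn, Multiset.sum_replicate, smul_eq_mul] at hle
  have hn' : n ≤ 3 := by omega
  have get : ∀ r : Perm (Fin 8), r.cycleType = x.cycleType →
      ∃ a : Perm (Fin 8), a * r * a⁻¹ = x := fun r h =>
    isConj_iff.1 (Equiv.Perm.isConj_iff_cycleType_eq.2 h)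
  interval_cases n
  · left
    exact get _ (by rw [hn]; exact (Equiv.Perm.isSwap_iff_cycleType.1 ⟨0, 1, by decide, rfl⟩).trans rfl)
  · right
    have ht : (swap 3 4 * swap 5 6 : Perm (Fin 8)).cycleType = Multiset.replicate (1 + 1) 2 := by
      decide +kernel
    obtain ⟨a, ha⟩ := get _ (ht.trans hn.symm)
    refine ⟨a, _, _, Or.inl rfl, ha, by decide +kernel, ?_⟩
    rw [Equiv.Perm.nat_card_centralizer, ht]
    decide
  · right
    have ht : (swap 0 3 * swap 1 4 * swap 2 5 : Perm (Fin 8)).cycleType =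
        Multiset.replicate (2 + 1) 2 := by
      decide +kernel
    obtain ⟨a, ha⟩ := get _ (ht.trans hn.symm)
    refine ⟨a, _, _, Or.inr rfl, ha, by decide +kernel, ?_⟩
    rw [Equiv.Perm.nat_card_centralizer, ht]
    decide
  · right
    have ht : (swap 0 3 * swap 1 4 * swap 2 5 * swap 6 7 : Perm (Fin 8)).cycleType =
        Multiset.replicate (3 + 1) 2 := by
      decide +kernel
    obtain ⟨a, ha⟩ := get _ (ht.trans hn.symm)
    refine ⟨a, _, _, Or.inr rfl, ha, by decide +kernel, ?_⟩
    rw [Equiv.Perm.nat_card_centralizer, ht]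
    decide

variable {G : Type u} [Group G] [Finite G] {θ : Perm (Fin 8) →* G}

omit [Finite G] in
theorem card_cent_eq (hinj : Function.Injective θ) {r : Perm (Fin 8)}
    (hle : Subgroup.centralizer ({θ r} : Set G) ≤ θ.range) :
    Nat.card (Subgroup.centralizer ({θ r} : Set G)) =
      Nat.card (Subgroup.centralizer ({r} : Set (Perm (Fin 8)))) := by
  have e : Subgroup.centralizer ({θ r} : Set G) =
      (Subgroup.centralizer ({r} : Set (Perm (Fin 8)))).map θ := by
    refine le_antisymm (fun g hg => ?_) ?_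
    · obtain ⟨p, rfl⟩ := hle hg
      refine ⟨p, ?_, rfl⟩
      rw [SetLike.mem_coe, Subgroup.mem_centralizer_singleton_iff]
      apply hinj
      rw [map_mul, map_mul]
      exact Subgroup.mem_centralizer_singleton_iff.1 hg
    · rintro _ ⟨p, hp, rfl⟩
      rw [Subgroup.mem_centralizer_singleton_iff, ← map_mul, ← map_mul,
        Subgroup.mem_centralizer_singleton_iff.1 hp]
  rw [e]
  exact Nat.card_congr (Subgroup.equivMapOfInjective _ θ hinj).toEquiv.symm

theorem mem_range_of_conj (hE : Emb θ) {g : G} (hg : g * θ tau * g⁻¹ ∈ θ.range) :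
    g ∈ θ.range := by
  obtain ⟨x, hx⟩ := hg
  have hx2 : orderOf x = 2 := by
    rw [← orderOf_injective θ hE.inj x, hx]
    have h := orderOf_injective (MulAut.conj g).toMonoidHom (MulAut.conj g).injective (θ tau)
    rw [MulEquiv.coe_toMonoidHom, MulAut.conj_apply] at h
    rw [h, orderOf_injective θ hE.inj]
    exact orderOf_eq_prime (by decide +kernel) (by decide +kernel)
  rcases exists_rep hx2 with ⟨h, rfl⟩ | ⟨a, r, k, hk, rfl, hrk, h9⟩
  · have hmem : (θ h)⁻¹ * g ∈ Subgroup.centralizer ({θ tau} : Set G) := by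
      rw [Subgroup.mem_centralizer_singleton_iff]
      rw [map_mul, map_mul, map_inv] at hx
      calc (θ h)⁻¹ * g * θ tau = (θ h)⁻¹ * (g * θ tau * g⁻¹) * g := by group
        _ = θ tau * ((θ h)⁻¹ * g) := by rw [← hx]; group
    have := θ.range.mul_mem (⟨h, rfl⟩ : θ h ∈ θ.range) (hE.c2_le hmem)
    rwa [mul_inv_cancel_left] at this
  · exfalso
    apply h9
    set w : G := (θ a)⁻¹ * g
    have hw : w * θ tau * w⁻¹ = θ r := by
      rw [map_mul, map_mul, map_inv] at hx
      calc w * θ tau * w⁻¹ = (θ a)⁻¹ * (g * θ tau * g⁻¹) * θ a := by simp only [w]; group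
        _ = θ r := by rw [← hx]; group
    let C : Subgroup G := Subgroup.centralizer ({θ r} : Set G)
    have hCmap : (Subgroup.centralizer ({θ tau} : Set G)).map (MulAut.conj w).toMonoidHom = C := by
      ext y
      rw [Subgroup.mem_map_equiv, MulAut.conj_symm_apply, Subgroup.mem_centralizer_singleton_iff,
        Subgroup.mem_centralizer_singleton_iff, ← hw]
      constructor
      · intro h
        calc y * (w * θ tau * w⁻¹) = w * (w⁻¹ * y * w * θ tau) * w⁻¹ := by group
          _ = w * θ tau * w⁻¹ * y := by rw [h]; group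
      · intro h
        calc w⁻¹ * y * w * θ tau = w⁻¹ * (y * (w * θ tau * w⁻¹)) * w := by group
          _ = θ tau * (w⁻¹ * y * w) := by rw [h]; group
    have hC : Nat.card C = 1440 := by
      rw [← hCmap, Subgroup.card_map_of_injective (MulAut.conj w).injective,
        card_cent_eq hE.inj hE.c2_le, card_cent_tau]
    have hkle : Subgroup.centralizer ({θ k} : Set G) ≤ θ.range := by
      rcases hk with rfl | rfl
      · exact hE.c3_le
      · exact hE.c33_le
    have hk3 : k ^ 3 = 1 := by
      rcases hk with rfl | rfl <;> decide +kernel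
    have hkC : θ k ∈ C := by
      rw [Subgroup.mem_centralizer_singleton_iff, ← map_mul, ← map_mul, hrk]
    have : Fact (Nat.Prime 3) := ⟨Nat.prime_three⟩
    have hZ : IsPGroup 3 (Subgroup.zpowers (⟨θ k, hkC⟩ : C)) := by
      intro z
      obtain ⟨m, hm⟩ := Subgroup.mem_zpowers_iff.1 z.2
      refine ⟨1, Subtype.ext (Subtype.ext ?_)⟩
      rw [pow_one, Subgroup.coe_pow, Subgroup.coe_pow, Subgroup.coe_one, Subgroup.coe_one, ← hm,
        Subgroup.coe_zpow]
      show (θ k ^ m) ^ 3 = 1
      rw [← zpow_natCast, ← zpow_mul, mul_comm, zpow_mul, zpow_natCast, ← map_pow, hk3, map_one,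
        one_zpow]
    obtain ⟨P, hP⟩ := hZ.exists_le_sylow
    have hPc : Nat.card (P : Subgroup C) = 3 ^ 2 := by
      rw [P.card_eq_multiplicity, hC]
      congr 1
      rw [Nat.factorization_def _ Nat.prime_three]
      decide +kernel
    have hcomm := IsPGroup.isMulCommutative_of_card_eq_prime_sq hPc
    let Q : Subgroup G := (P : Subgroup C).map C.subtype
    have hQc : Nat.card Q = 3 ^ 2 := by
      rw [Subgroup.card_map_of_injective C.subtype_injective, hPc]
    have hQle : Q ≤ (Subgroup.centralizer ({r} : Set (Perm (Fin 8)))).map θ := by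
      rintro _ ⟨y, hy, rfl⟩
      have hyk : (y : G) ∈ Subgroup.centralizer ({θ k} : Set G) := by
        rw [Subgroup.mem_centralizer_singleton_iff]
        exact congrArg (fun z : (P : Subgroup C) => ((z : C) : G))
          (hcomm.is_comm.comm ⟨y, hy⟩ ⟨⟨θ k, hkC⟩, hP (Subgroup.mem_zpowers _)⟩)
      obtain ⟨p, hp⟩ := hkle hyk
      refine ⟨p, ?_, hp⟩
      rw [SetLike.mem_coe, Subgroup.mem_centralizer_singleton_iff]
      apply hE.inj
      rw [map_mul, map_mul, hp]
      exact Subgroup.mem_centralizer_singleton_iff.1 y.2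
    have hd := Subgroup.card_dvd_of_le hQle
    rw [hQc, Subgroup.card_map_of_injective hE.inj] at hd
    exact hd

open MulAction in
theorem transfer_tau (hE : Emb θ) (χ : ↥θ.range →* ℤˣ)
    (hχ : χ ⟨θ tau, tau, rfl⟩ = -1) : χ.transfer (θ tau) = -1 := by
  classical
  set t : G := θ tau with ht
  have htt : t ^ 2 = 1 := by
    rw [ht, ← map_pow, show tau ^ 2 = 1 by decide +kernel, map_one]
  let : Fintype (Quotient (orbitRel (Subgroup.zpowers t) (G ⧸ θ.range))) := Fintype.ofFinite _
  rw [MonoidHom.transfer_eq_prod_quotient_orbitRel_zpowers_quot]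
  have h1 : t • ((1 : G) : G ⧸ θ.range) = ((1 : G) : G ⧸ θ.range) := by
    show ((t * 1 : G) : G ⧸ θ.range) = _
    rw [mul_one, QuotientGroup.eq, mul_one]
    exact θ.range.inv_mem ⟨tau, rfl⟩
  have hper : ∀ q : G ⧸ θ.range, Function.minimalPeriod (t • ·) q ∣ 2 := fun q =>
    pow_smul_eq_iff_minimalPeriod_dvd.1 (by rw [htt, one_smul])
  have huniq : ∀ q : G ⧸ θ.range, t • q = q → q = ((1 : G) : G ⧸ θ.range) := by
    intro q hq
    obtain ⟨g, rfl⟩ := QuotientGroup.mk_surjective q
    change ((t * g : G) : G ⧸ θ.range) = (g : G ⧸ θ.range) at hq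
    rw [QuotientGroup.eq] at hq
    have hm : g⁻¹ * θ tau * g⁻¹⁻¹ ∈ θ.range := by
      have := θ.range.inv_mem hq
      rwa [show ((t * g)⁻¹ * g)⁻¹ = g⁻¹ * θ tau * g⁻¹⁻¹ by rw [ht]; group] at this
    rw [QuotientGroup.eq, mul_one]
    exact mem_range_of_conj hE hm
  set q0 : Quotient (orbitRel (Subgroup.zpowers t) (G ⧸ θ.range)) :=
    Quotient.mk'' ((1 : G) : G ⧸ θ.range) with hq0
  have hout : q0.out = ((1 : G) : G ⧸ θ.range) := by
    have h : q0.out ∈ orbit (Subgroup.zpowers t) ((1 : G) : G ⧸ θ.range) :=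
      orbitRel_apply.1 (Quotient.exact' (Quotient.out_eq' q0))
    obtain ⟨⟨y, m, rfl⟩, hy⟩ := h
    rw [← hy]
    show t ^ m • ((1 : G) : G ⧸ θ.range) = _
    exact zpow_smul_eq_iff_period_dvd.2 (by
      rw [period_eq_one_iff.2 h1, Nat.cast_one]; exact one_dvd _)
  rw [Finset.prod_eq_single q0]
  · set c := q0.out.out with hc
    have hcmem : c ∈ θ.range := by
      have h : ((q0.out.out : G) : G ⧸ θ.range) = ((1 : G) : G ⧸ θ.range) :=
        (QuotientGroup.out_eq' q0.out).trans hout
      rw [QuotientGroup.eq, mul_one] at h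
      exact θ.range.inv_mem_iff.1 h
    have hp : Function.minimalPeriod (t • ·) q0.out = 1 := by
      rw [hout]
      exact Function.minimalPeriod_eq_one_iff_isFixedPt.2 h1
    have hval : χ ⟨q0.out.out⁻¹ * t ^ Function.minimalPeriod (t • ·) q0.out * q0.out.out,
        QuotientGroup.out_conj_pow_minimalPeriod_mem θ.range t q0.out⟩ =
        χ ((⟨c, hcmem⟩ : θ.range)⁻¹ * ⟨t, tau, rfl⟩ * ⟨c, hcmem⟩) := by
      congr 1
      apply Subtype.ext
      show _ = c⁻¹ * t * c
      simp [hp, hc]
    rw [hval, map_mul, map_mul, map_inv, mul_comm (χ ⟨c, hcmem⟩)⁻¹, inv_mul_cancel_right]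
    exact hχ
  · intro q _ hq
    have hp : Function.minimalPeriod (t • ·) q.out = 2 := by
      rcases (Nat.dvd_prime Nat.prime_two).1 (hper q.out) with h | h
      · exfalso
        apply hq
        have hfix := huniq _ (Function.minimalPeriod_eq_one_iff_isFixedPt.1 h)
        rw [← Quotient.out_eq' q, hfix]
      · exact h
    refine (congrArg χ (Subtype.ext ?_)).trans (map_one χ)
    show q.out.out⁻¹ * t ^ Function.minimalPeriod (t • ·) q.out * q.out.out = 1
    rw [hp, htt, mul_one, inv_mul_cancel]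
  · intro h; exact absurd (Finset.mem_univ _) h

end TransferAProof

open TransferAProof in
/-- Transfer in the main case. -/
theorem transferA : TransferAStmt.{u} := by
  intro G _ _ θ hE
  let χ : ↥θ.range →* ℤˣ := Perm.sign.comp (MonoidHom.ofInjective hE.inj).symm.toMonoidHom
  have hχ : χ ⟨θ (swap 0 1), swap 0 1, rfl⟩ = -1 := by
    have e : (MonoidHom.ofInjective hE.inj).symm ⟨θ (swap 0 1), swap 0 1, rfl⟩ = swap 0 1 :=
      (MonoidHom.ofInjective hE.inj).symm_apply_eq.2 (Subtype.ext rfl)
    show Perm.sign ((MonoidHom.ofInjective hE.inj).symm _) = -1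
    rw [e]
    decide +kernel
  have hV := transfer_tau hE χ hχ
  refine ⟨χ.transfer.ker, ?_, ?_⟩
  · have hsur : Function.Surjective χ.transfer := fun x => by
      rcases Int.units_eq_one_or x with rfl | rfl
      · exact ⟨1, map_one _⟩
      · exact ⟨_, hV⟩
    rw [Subgroup.index_ker, MonoidHom.range_eq_top_of_surjective _ hsur, Subgroup.card_top,
      Nat.card_eq_fintype_card]
    rfl
  · rw [MonoidHom.mem_ker, hV]
    decide

end Cfsg.Agent.Lib.SymEightThree6
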